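import Cfsg.Agent.Lib.Recognition.PSLThreeFourAut.Frame

/-!
# The automorphisms induced by the centraliser
-/

set_option autoImplicit false
set_option maxRecDepth 100000
set_option linter.unusedSectionVars false

namespace CfsgLib.Recognition.PSLThreeFourAut

open Subgroup

variable {G : Type*} [Group G] [Finite G]

/-- A double transposition. -/
def IsDT (p : Equiv.Perm (Fin 4)) : Prop := p ≠ 1 ∧ p * p = 1 ∧ Equiv.Perm.sign p = 1

/-- A transposition. -/
def IsTR (p : Equiv.Perm (Fin 4)) : Prop := p * p = 1 ∧ Equiv.Perm.sign p = -1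

/-- A four-cycle. -/
def IsFC (p : Equiv.Perm (Fin 4)) : Prop := p * p ≠ 1 ∧ Equiv.Perm.sign p = -1

instance (p : Equiv.Perm (Fin 4)) : Decidable (IsDT p) := by unfold IsDT; infer_instance

instance (p : Equiv.Perm (Fin 4)) : Decidable (IsTR p) := by unfold IsTR; infer_instance

instance (p : Equiv.Perm (Fin 4)) : Decidable (IsFC p) := by unfold IsFC; infer_instance

/-- The list of values of a permutation. -/
def permList (p : Equiv.Perm (Fin 4)) : List ℕ := (List.finRange 4).map fun i => (p i).val

theorem perm_cases : ∀ p : Equiv.Perm (Fin 4), (IsDT p → permList p ∈ Model.dts) ∧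
    (IsTR p → permList p ∈ Model.trs) ∧ (IsFC p → permList p ∈ Model.fcs) ∧
    (p = 1 → permList p = [0, 1, 2, 3]) := by
  decide +kernel

theorem permList_of_map : ∀ p q : Equiv.Perm (Fin 4),
    (List.finRange 4).map (fun i => 2 ^ (p i).val) = (List.finRange 4).map (fun i => 2 ^ (q i).val) → p = q := by
  decide +kernel

theorem inner_auts : ∀ a ∈ Model.lifts [0, 1, 2, 3], ∃ n < 32, ∀ i < 4,
    Model.mul n (2 ^ i) = Model.mul (a.getD i 0) n := by
  decide +kernel

theorem auts_nodup_card : Model.auts.toFinset.card ≤ 384 := by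
  calc Model.auts.toFinset.card ≤ Model.auts.length := List.toFinset_card_le _
    _ = 384 := Model.auts_length

theorem near_index : ∀ i j : Fin 4, (2 ^ i.val = 2 ^ j.val ∨ 2 ^ i.val = Nat.xor (2 ^ j.val) 16) → i = j := by
  decide +kernel

theorem gen_lt (i : Fin 4) : 2 ^ i.val < 32 := by fin_cases i <;> norm_num

section defs

variable (z : G) (E : Subgroup G) (e : Fin 4 → G)

open Classical in
/-- The number of an element. -/
noncomputable def idx (x : G) : ℕ := if h : ∃ n < 32, el z e n = x then h.choose else 0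

/-- The images of the generators under conjugation. -/
noncomputable def img (h : G) : List ℕ := (List.finRange 4).map fun i => idx z e (h * e i * h⁻¹)

open Classical in
/-- The index of the image of a generator. -/
noncomputable def target (h : G) (i : Fin 4) : Fin 4 :=
  if hh : ∃ j, Near z (e j) (h * e i * h⁻¹) then hh.choose else i

open Classical in
/-- The induced permutation of the four generators. -/
noncomputable def sig (h : G) : Equiv.Perm (Fin 4) :=
  if hb : Function.Bijective (target z e h) then Equiv.ofBijective _ hb else 1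

end defs

namespace Frame

variable {z : G} {E : Subgroup G} {e : Fin 4 → G}

theorem el_idx (F : Frame z E e) {x : G} (hx : x ∈ E) : idx z e x < 32 ∧ el z e (idx z e x) = x := by
  classical
  unfold idx
  rw [dif_pos (F.exists_el hx)]
  exact (F.exists_el hx).choose_spec

theorem idx_el (F : Frame z E e) {n : ℕ} (hn : n < 32) : idx z e (el z e n) = n :=
  F.el_inj (F.el_idx (F.el_mem n)).1 hn (F.el_idx (F.el_mem n)).2

theorem near_unique (F : Frame z E e) {i j : Fin 4} {x : G} (h1 : Near z (e i) x) (h2 : Near z (e j) x) :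
    i = j := by
  refine near_index i j ?_
  have key : e i = e j ∨ e i = e j * z := by
    rcases h1 with r | r <;> rcases h2 with s | s
    · exact Or.inl (r.symm.trans s)
    · exact Or.inr (r.symm.trans s)
    · exact Or.inr (by rw [← s, r, mul_assoc, F.extra.z_sq, mul_one])
    · exact Or.inl (mul_right_cancel (r.symm.trans s))
  rw [← el_gen (z := z) (e := e) i, ← el_gen (z := z) (e := e) j, F.el_flip (gen_lt j)] at key
  rcases key with r | r
  · exact Or.inl (F.el_inj (gen_lt i) (gen_lt j) r)
  · exact Or.inr (F.el_inj (gen_lt i) (flip_lt _ (gen_lt j)) r)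

theorem near_target (F : Frame z E e) {h : G} (hh : h ∈ centralizer ({z} : Set G)) (i : Fin 4) :
    Near z (e (target z e h i)) (h * e i * h⁻¹) := by
  classical
  unfold target
  rw [dif_pos (F.perm h hh i)]
  exact (F.perm h hh i).choose_spec

theorem conj_z (F : Frame z E e) {h : G} (hh : h ∈ centralizer ({z} : Set G)) : h * z * h⁻¹ = z :=
  mul_inv_eq_iff_eq_mul.2 (mem_centralizer_singleton_iff.1 hh)

theorem conj_near (F : Frame z E e) {h x y : G} (hh : h ∈ centralizer ({z} : Set G)) (hn : Near z x y) :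
    Near z (h * x * h⁻¹) (h * y * h⁻¹) := by
  rcases hn with rfl | rfl
  · exact Or.inl rfl
  · exact Or.inr (by rw [← conj_mul, F.conj_z hh])

theorem near_symm' (F : Frame z E e) {x y : G} (h : Near z x y) : Near z y x := by
  rcases h with rfl | rfl
  · exact Or.inl rfl
  · exact Or.inr (by rw [mul_assoc, F.extra.z_sq, mul_one])

theorem near_trans' (F : Frame z E e) {x y w : G} (h1 : Near z x y) (h2 : Near z y w) : Near z x w := by
  rcases h1 with rfl | rfl <;> rcases h2 with rfl | rfl
  · exact Or.inl rfl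
  · exact Or.inr rfl
  · exact Or.inr rfl
  · exact Or.inl (by rw [mul_assoc, F.extra.z_sq, mul_one])

theorem target_inj (F : Frame z E e) {h : G} (hh : h ∈ centralizer ({z} : Set G)) :
    Function.Injective (target z e h) := by
  intro i j hij
  have h1 := F.near_target hh i
  have h2 := F.near_target hh j
  rw [hij] at h1
  have h3 := F.conj_near (inv_mem hh) (F.near_trans' (F.near_symm' h1) h2)
  rw [show h⁻¹ * (h * e i * h⁻¹) * h⁻¹⁻¹ = e i by group,
    show h⁻¹ * (h * e j * h⁻¹) * h⁻¹⁻¹ = e j by group] at h3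
  exact F.near_unique (Or.inl rfl) (F.near_symm' h3)

theorem near_sig (F : Frame z E e) {h : G} (hh : h ∈ centralizer ({z} : Set G)) (i : Fin 4) :
    Near z (e (sig z e h i)) (h * e i * h⁻¹) := by
  classical
  unfold sig
  rw [dif_pos (Finite.injective_iff_bijective.1 (F.target_inj hh))]
  exact F.near_target hh i

theorem sig_mul (F : Frame z E e) {g h : G} (hg : g ∈ centralizer ({z} : Set G))
    (hh : h ∈ centralizer ({z} : Set G)) : sig z e (g * h) = sig z e g * sig z e h := by
  refine Equiv.ext fun i => F.near_unique (F.near_sig (mul_mem hg hh) i) ?_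
  rw [Equiv.Perm.mul_apply]
  refine F.near_trans' (F.near_sig hg _) ?_
  rw [show g * h * e i * (g * h)⁻¹ = g * (h * e i * h⁻¹) * g⁻¹ by group]
  exact F.conj_near hg (F.near_sig hh i)

theorem sig_one (F : Frame z E e) : sig z e (1 : G) = 1 :=
  Equiv.ext fun i => F.near_unique (F.near_sig (one_mem _) i) (by simp [Near])

theorem sig_inv (F : Frame z E e) {g : G} (hg : g ∈ centralizer ({z} : Set G)) :
    sig z e g⁻¹ = (sig z e g)⁻¹ :=
  eq_inv_of_mul_eq_one_left (by rw [← F.sig_mul (inv_mem hg) hg, inv_mul_cancel, F.sig_one])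

theorem sig_mem_E (F : Frame z E e) {q : G} (hq : q ∈ E) : sig z e q = 1 :=
  Equiv.ext fun i => F.near_unique (F.near_sig (F.extra.le_centralizer hq) i) (F.extra.conj_cases (F.mem i) hq)

theorem conj_el (F : Frame z E e) {h : G} (hh : h ∈ centralizer ({z} : Set G))
    (hmem : img z e h ∈ Model.auts) {n : ℕ} (hn : n < 32) :
    h * el z e n * h⁻¹ = el z e (Model.ap (img z e h) n) := by
  have hi : ∀ i : Fin 4, (img z e h).getD i.val 0 < 32 ∧
      el z e ((img z e h).getD i.val 0) = h * e i * h⁻¹ := fun i => by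
    have : (img z e h).getD i.val 0 = idx z e (h * e i * h⁻¹) := by
      fin_cases i <;> simp [img, List.finRange_succ]
    rw [this]
    exact F.el_idx (F.norm h hh _ (F.mem i))
  rw [ap_eq_steps _ hmem n hn]
  simp only
  set a := img z e h with ha
  set s0 := if n.testBit 0 then Model.mul 0 (a.getD 0 0) else 0 with hs0
  have l0 : s0 < 32 := by
    rw [hs0]; split <;> [exact Model.mul_lt 0 (by norm_num) _ (hi 0).1; norm_num]
  set s1 := if n.testBit 1 then Model.mul s0 (a.getD 1 0) else s0 with hs1
  have l1 : s1 < 32 := by rw [hs1]; split <;> [exact Model.mul_lt _ l0 _ (hi 1).1; exact l0]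
  set s2 := if n.testBit 2 then Model.mul s1 (a.getD 2 0) else s1 with hs2
  have l2 : s2 < 32 := by rw [hs2]; split <;> [exact Model.mul_lt _ l1 _ (hi 2).1; exact l1]
  set s3 := if n.testBit 3 then Model.mul s2 (a.getD 3 0) else s2 with hs3
  have l3 : s3 < 32 := by rw [hs3]; split <;> [exact Model.mul_lt _ l2 _ (hi 3).1; exact l2]
  let c : G → G := fun x => h * x * h⁻¹
  have hi0 : a.getD 0 0 < 32 ∧ el z e (a.getD 0 0) = c (e 0) := hi 0
  have hi1 : a.getD 1 0 < 32 ∧ el z e (a.getD 1 0) = c (e 1) := hi 1
  have hi2 : a.getD 2 0 < 32 ∧ el z e (a.getD 2 0) = c (e 2) := hi 2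
  have hi3 : a.getD 3 0 < 32 ∧ el z e (a.getD 3 0) = c (e 3) := hi 3
  have p0 : el z e s0 = if n.testBit 0 then c (e 0) else 1 := by
    rw [hs0]; split
    · rw [← F.el_mul (by norm_num) hi0.1, el_zero, one_mul]; exact hi0.2
    · exact el_zero
  have p1 : el z e s1 = el z e s0 * (if n.testBit 1 then c (e 1) else 1) := by
    rw [hs1]; split
    · exact (F.el_mul l0 hi1.1).symm.trans (congrArg (el z e s0 * ·) hi1.2)
    · exact (mul_one _).symm
  have p2 : el z e s2 = el z e s1 * (if n.testBit 2 then c (e 2) else 1) := by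
    rw [hs2]; split
    · exact (F.el_mul l1 hi2.1).symm.trans (congrArg (el z e s1 * ·) hi2.2)
    · exact (mul_one _).symm
  have p3 : el z e s3 = el z e s2 * (if n.testBit 3 then c (e 3) else 1) := by
    rw [hs3]; split
    · exact (F.el_mul l2 hi3.1).symm.trans (congrArg (el z e s2 * ·) hi3.2)
    · exact (mul_one _).symm
  have p4 : el z e (if n.testBit 4 then Nat.xor s3 16 else s3) =
      el z e s3 * (if n.testBit 4 then c z else 1) := by
    split
    · rw [show c z = z from F.conj_z hh]; exact (F.el_flip l3).symm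
    · exact (mul_one _).symm
  rw [p4, p3, p2, p1, p0]
  have hc : ∀ (b : Bool) (x : G), (if b then c x else 1) = c (if b then x else 1) := fun b x => by
    cases b <;> simp [c]
  simp only [hc]
  simp only [c, conj_mul]
  simp only [el, word, mul_assoc]

theorem img_mem_lifts (F : Frame z E e) {h : G} (hh : h ∈ centralizer ({z} : Set G)) :
    img z e h ∈ Model.lifts (permList (sig z e h)) := by
  classical
  set p := sig z e h with hp
  let s : Fin 4 → Bool := fun i => decide (h * e i * h⁻¹ = e (p i) * z)
  have : img z e h = (List.finRange 4).map fun i => 2 ^ (p i).val + 16 * (if s i then 1 else 0) := by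
    unfold img
    refine List.map_congr_left fun i _ => ?_
    rcases F.near_sig hh i with r | r
    · have hne : ¬ h * e i * h⁻¹ = e (p i) * z := by
        rw [r]; intro q; exact F.extra.z_ne (mul_eq_left.1 q.symm)
      simp only [s, hne, decide_false, Bool.false_eq_true, if_false, mul_zero, add_zero]
      rw [r, ← el_gen (z := z) (e := e) (p i), F.idx_el (gen_lt _)]
    · simp only [s, show h * e i * h⁻¹ = e (p i) * z from r, decide_true, if_true, mul_one]
      rw [← el_gen (z := z) (e := e) (p i), F.el_flip (gen_lt _), F.idx_el (flip_lt _ (gen_lt _))]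
      exact (by decide : ∀ j : Fin 4, Nat.xor (2 ^ j.val) 16 = 2 ^ j.val + 16) (p i)
  rw [this]
  exact list_of_perm p s

theorem img_mem (F : Frame z E e) {h : G} (hh : h ∈ centralizer ({z} : Set G)) :
    img z e h ∈ Model.auts :=
  List.mem_flatMap.2 ⟨_, perm_list (sig z e h), F.img_mem_lifts hh⟩

theorem conj_el' (F : Frame z E e) {h : G} (hh : h ∈ centralizer ({z} : Set G)) {n : ℕ} (hn : n < 32) :
    h * el z e n * h⁻¹ = el z e (Model.ap (img z e h) n) := F.conj_el hh (F.img_mem hh) hn

theorem img_mul (F : Frame z E e) {g h : G} (hg : g ∈ centralizer ({z} : Set G))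
    (hh : h ∈ centralizer ({z} : Set G)) : img z e (g * h) = Model.comp (img z e g) (img z e h) := by
  unfold img Model.comp
  rw [List.map_map]
  refine List.map_congr_left fun i _ => ?_
  have hq := F.el_idx (F.norm h hh _ (F.mem i))
  rw [Function.comp_apply, show g * h * e i * (g * h)⁻¹ = g * (h * e i * h⁻¹) * g⁻¹ by group]
  conv_lhs => rw [← hq.2, F.conj_el' hg hq.1]
  exact F.idx_el (Model.ap_lt _ (F.img_mem hg) _ hq.1)

theorem img_one (F : Frame z E e) : img z e (1 : G) = Model.idl := by
  have : ∀ i : Fin 4, idx z e (1 * e i * (1 : G)⁻¹) = 2 ^ i.val := fun i => by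
    rw [one_mul, inv_one, mul_one, ← el_gen (z := z) (e := e) i, F.idx_el (gen_lt i)]
  unfold img
  rw [List.map_congr_left fun i _ => this i]
  decide

theorem mem_E_of_gens (F : Frame z E e) {h : G} (hh : h ∈ centralizer ({z} : Set G))
    (hfix : ∀ i, h * e i * h⁻¹ = e i) : h = 1 ∨ h = z := by
  have hall : ∀ q ∈ E, h * q = q * h := by
    intro q hq
    obtain ⟨n, hn, rfl⟩ := F.exists_el hq
    have hc : ∀ i, Commute h (e i) := fun i => mul_inv_eq_iff_eq_mul.1 (hfix i)
    have hz : Commute h z := mem_centralizer_singleton_iff.1 hh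
    have hb : ∀ (b : Bool) (x : G), Commute h x → Commute h (if b then x else 1) := fun b x hx => by
      cases b
      · exact Commute.one_right h
      · exact hx
    exact (hb _ _ (hc 0)).mul_right ((hb _ _ (hc 1)).mul_right ((hb _ _ (hc 2)).mul_right
      ((hb _ _ (hc 3)).mul_right (hb _ _ hz))))
  exact F.extra.mem_center_cases (F.cent h hh hall) hall

theorem img_eq (F : Frame z E e) {g h : G} (hg : g ∈ centralizer ({z} : Set G))
    (hh : h ∈ centralizer ({z} : Set G)) (he : img z e g = img z e h) : g = h ∨ g = h * z := by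
  have hfix : ∀ i, h⁻¹ * g * e i * (h⁻¹ * g)⁻¹ = e i := fun i => by
    have h1 : idx z e (g * e i * g⁻¹) = idx z e (h * e i * h⁻¹) := List.map_inj_left.1 he i (List.mem_finRange i)
    have h2 : g * e i * g⁻¹ = h * e i * h⁻¹ := by
      rw [← (F.el_idx (F.norm g hg _ (F.mem i))).2, h1, (F.el_idx (F.norm h hh _ (F.mem i))).2]
    rw [show h⁻¹ * g * e i * (h⁻¹ * g)⁻¹ = h⁻¹ * (g * e i * g⁻¹) * h by group, h2]
    group
  rcases F.mem_E_of_gens (mul_mem (inv_mem hh) hg) hfix with r | r
  · exact Or.inl (inv_mul_eq_one.1 r).symm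
  · exact Or.inr (inv_mul_eq_iff_eq_mul.1 r)

theorem img_surj (F : Frame z E e) (hC : Nat.card (centralizer ({z} : Set G)) = 768) {a : List ℕ} (ha : a ∈ Model.auts) :
    ∃ h ∈ centralizer ({z} : Set G), img z e h = a := by
  classical
  haveI := Fintype.ofFinite (centralizer ({z} : Set G))
  set f : centralizer ({z} : Set G) → List ℕ := fun h => img z e (h : G) with hf
  set I := (Finset.univ : Finset (centralizer ({z} : Set G))).image f with hI
  have hsub : I ⊆ Model.auts.toFinset := fun b hb => by
    obtain ⟨h, -, rfl⟩ := Finset.mem_image.1 hb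
    exact List.mem_toFinset.2 (F.img_mem h.2)
  have h2 : (Finset.univ : Finset (centralizer ({z} : Set G))).card ≤ 2 * I.card := by
    refine Finset.card_le_mul_card_image _ 2 fun b hb => ?_
    obtain ⟨h, -, rfl⟩ := Finset.mem_image.1 hb
    have hzC : z ∈ centralizer ({z} : Set G) := mem_centralizer_singleton_iff.2 rfl
    refine le_trans (Finset.card_le_card (t := {h, h * ⟨z, hzC⟩}) fun g hg => ?_) Finset.card_le_two
    rcases F.img_eq g.2 h.2 (Finset.mem_filter.1 hg).2 with r | r
    · exact Finset.mem_insert.2 (Or.inl (Subtype.ext r))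
    · exact Finset.mem_insert_of_mem (Finset.mem_singleton.2 (Subtype.ext r))
  rw [Finset.card_univ, ← Nat.card_eq_fintype_card, hC] at h2
  have := Finset.eq_of_subset_of_card_le hsub (auts_nodup_card.trans (by omega))
  obtain ⟨h, -, rfl⟩ := Finset.mem_image.1 (this.symm ▸ List.mem_toFinset.2 ha : a ∈ I)
  exact ⟨h, h.2, rfl⟩

theorem mem_E_of_sig (F : Frame z E e) {h : G} (hh : h ∈ centralizer ({z} : Set G))
    (hs : sig z e h = 1) : h ∈ E := by
  have hl := F.img_mem_lifts hh
  rw [(perm_cases _).2.2.2 hs] at hl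
  obtain ⟨n, hn, hinn⟩ := inner_auts _ hl
  have hq := F.el_mem n
  have hqC := F.extra.le_centralizer hq
  have hfix : ∀ i, h⁻¹ * el z e n * e i * (h⁻¹ * el z e n)⁻¹ = e i := by
    intro i
    have hg : (img z e h).getD i.val 0 = idx z e (h * e i * h⁻¹) := by
      fin_cases i <;> simp [img, List.finRange_succ]
    have he := F.el_idx (F.norm h hh _ (F.mem i))
    have : el z e n * e i = h * e i * h⁻¹ * el z e n := by
      rw [← he.2]
      conv_lhs => rw [← el_gen (z := z) (e := e) i, F.el_mul hn (gen_lt i), hinn i.val i.isLt, hg]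
      exact (F.el_mul he.1 hn).symm
    rw [show h⁻¹ * el z e n * e i * (h⁻¹ * el z e n)⁻¹ = h⁻¹ * (el z e n * e i) * (el z e n)⁻¹ * h by group,
      this]
    group
  rcases F.mem_E_of_gens (mul_mem (inv_mem hh) hqC) hfix with r | r
  · rw [inv_mul_eq_one] at r
    exact r ▸ hq
  · rw [inv_mul_eq_iff_eq_mul] at r
    have : h = el z e n * z := by rw [r, mul_assoc, F.extra.z_sq, mul_one]
    exact this ▸ mul_mem hq F.extra.z_mem

theorem img_invol (F : Frame z E e) {h : G} (hh : h ∈ centralizer ({z} : Set G)) (h2 : h * h = 1)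
    {l : List (List ℕ)} (hl : permList (sig z e h) ∈ l) : img z e h ∈ Model.invols l :=
  List.mem_filter.2 ⟨List.mem_flatMap.2 ⟨_, hl, F.img_mem_lifts hh⟩,
    decide_eq_true (by rw [← F.img_mul hh hh, h2, F.img_one])⟩

/-- An element fixing `el n`. -/
theorem commute_el_iff (F : Frame z E e) {h : G} (hh : h ∈ centralizer ({z} : Set G)) {n : ℕ} (hn : n < 32) :
    Commute h (el z e n) ↔ Model.ap (img z e h) n = n := by
  have h1 := F.conj_el' hh hn
  constructor
  · intro hc
    refine F.el_inj (Model.ap_lt _ (F.img_mem hh) n hn) hn ?_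
    rw [← h1, hc.eq, mul_inv_cancel_right]
  · intro r
    rw [r] at h1
    exact mul_inv_eq_iff_eq_mul.1 h1

end Frame

end CfsgLib.Recognition.PSLThreeFourAut
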