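import Cfsg.Agent.Lib.Recognition.PSLThreeFourAut.FourSplit
import Cfsg.Agent.Lib.Involution.Count

/-!
# Subgroups like `A₄` or `A₅`
-/

set_option autoImplicit false
set_option linter.unusedSectionVars false

namespace CfsgLib.Recognition.PSLThreeFourAut.FourSplit

open Subgroup CfsgLib.Involution

variable {G : Type*} [Group G] [Finite G] {z t m : G} {H : Subgroup G}

/-- The involutions of a subgroup. -/
def invSet (H : Subgroup G) : Set G := {k | k ∈ H ∧ k * k = 1 ∧ k ≠ 1}

/-- A subgroup in which the centraliser of `z` is the rotated four-group. -/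
structure IsCell (z t m : G) (H : Subgroup G) : Prop where
  hz : z ∈ H
  ht : t ∈ H
  hm : m ∈ H
  z_ne : z ≠ 1
  t_ne : t ≠ 1
  t_ne_z : t ≠ z
  z2 : z * z = 1
  t2 : t * t = 1
  tz : Commute t z
  m3 : m * m * m = 1
  mz : m * z * m⁻¹ = t
  mt : m * t * m⁻¹ = t * z
  inter : ∀ q ∈ H, Commute q z → InFour z t q

theorem four_sq (z2 : z * z = 1) (t2 : t * t = 1) (tz : Commute t z) {q : G} (hq : InFour z t q) : q * q = 1 := by
  rcases hq with r | r | r | r <;> rw [r]
  · exact one_mul 1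
  · exact z2
  · exact t2
  · rw [tz.symm.mul_mul_mul_comm, t2, z2, one_mul]

theorem four_iff {q : H} {a b : H} : InFour a b q ↔ InFour (a : G) (b : G) (q : G) := by
  unfold InFour
  rw [← Subgroup.coe_mul]
  simp only [← Subgroup.coe_one H, Subtype.coe_inj]

namespace IsCell

variable (S : IsCell z t m H)

include S

theorem four_conj {q : G} (hq : InFour z t q) : InFour z t (m * q * m⁻¹) := by
  have e : m * (t * z) * m⁻¹ = z := by
    rw [← conj_mul, S.mt, S.mz, mul_assoc, ← S.tz.eq, ← mul_assoc, S.t2, one_mul]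
  rcases hq with r | r | r | r <;> rw [r]
  · left; group
  · rw [S.mz]; exact Or.inr (Or.inr (Or.inl rfl))
  · rw [S.mt]; exact Or.inr (Or.inr (Or.inr rfl))
  · rw [e]; exact Or.inr (Or.inl rfl)

theorem data : Data (⟨z, S.hz⟩ : H) ⟨t, S.ht⟩ ⟨m, S.hm⟩ where
  z_ne h := S.z_ne (congrArg Subtype.val h)
  t_ne h := S.t_ne (congrArg Subtype.val h)
  t_ne_z h := S.t_ne_z (congrArg Subtype.val h)
  sq q hq := Subtype.ext (four_sq S.z2 S.t2 S.tz (S.inter q q.2 (congrArg Subtype.val hq.eq)))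
  ht := Subtype.ext S.tz.eq
  m3 := Subtype.ext S.m3
  mz := Subtype.ext S.mz
  mt := Subtype.ext S.mt
  cl g hg := by
    have hg' : Commute ((g : G) * z * (g : G)⁻¹) z := congrArg Subtype.val hg.eq
    rcases S.inter _ (mul_mem (mul_mem g.2 S.hz) (inv_mem g.2)) hg' with r | r | r | r
    · exact absurd (conj_eq_one_iff.1 r) S.z_ne
    · exact Or.inl (Subtype.ext r)
    · exact Or.inr (Or.inl (Subtype.ext r))
    · exact Or.inr (Or.inr (Subtype.ext r))
  fix q hq := by
    have h1 := S.inter q q.2 (congrArg Subtype.val hq.eq)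
    have hmq := S.four_conj h1
    have hqi : ((q : G))⁻¹ = q := inv_eq_of_mul_eq_one_right (four_sq S.z2 S.t2 S.tz h1)
    refine four_iff.2 ?_
    show InFour z t ((q : G)⁻¹ * (m * (q : G) * m⁻¹))
    rw [hqi]
    have hc : z * t = t * z := S.tz.eq.symm
    have a1 : t * (t * z) = z := by rw [← mul_assoc, S.t2, one_mul]
    have a2 : t * z * z = t := by rw [mul_assoc, S.z2, mul_one]
    have a3 : z * (t * z) = t := by rw [← mul_assoc, hc, a2]
    have a4 : t * z * t = z := by rw [mul_assoc, hc, a1]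
    have a5 : t * z * (t * z) = 1 := by rw [← mul_assoc, a4, S.z2]
    generalize m * (q : G) * m⁻¹ = w at hmq ⊢
    unfold InFour
    rcases h1 with r | r | r | r <;> rcases hmq with s | s | s | s <;> rw [r, s] <;>
      simp [S.z2, S.t2, hc, a1, a2, a3, a4, a5]

theorem group_facts : (Nat.card H = 12 ∨ Nat.card H = 60) ∧
    Nat.card (centralizer ({(⟨z, S.hz⟩ : H)} : Set H)) = 4 ∧
      ∀ k : H, k * k = 1 → k ≠ 1 → IsConj (⟨z, S.hz⟩ : H) k :=
  four_group S.data fun q hq => four_iff.2 (S.inter q q.2 (congrArg Subtype.val hq.eq))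

theorem conj_z {k : G} (hk : k ∈ invSet H) : ∃ g ∈ H, g * z * g⁻¹ = k := by
  obtain ⟨g, hg⟩ := isConj_iff.1 (S.group_facts.2.2 ⟨k, hk.1⟩ (Subtype.ext hk.2.1)
    fun e => hk.2.2 (congrArg Subtype.val e))
  exact ⟨g, g.2, congrArg Subtype.val hg⟩

theorem card_eq_four_mul : Nat.card H = 4 * (invSet H).ncard := by
  classical
  haveI := Fintype.ofFinite H
  obtain ⟨-, h4, -⟩ := S.group_facts
  have hcl : Nat.card H = ({u : H | IsConj (⟨z, S.hz⟩ : H) u} : Finset H).card *
      Nat.card (centralizer ({(⟨z, S.hz⟩ : H)} : Set H)) := Count.card_eq_class_mul _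
  rw [h4] at hcl
  have himg : invSet H = Subtype.val '' (↑({u : H | IsConj (⟨z, S.hz⟩ : H) u} : Finset H) : Set H) := by
    ext k
    constructor
    · intro hk
      obtain ⟨g, hg, he⟩ := S.conj_z hk
      exact ⟨⟨k, hk.1⟩, Finset.mem_coe.2 (Finset.mem_filter.2 ⟨Finset.mem_univ _,
        isConj_iff.2 ⟨⟨g, hg⟩, Subtype.ext he⟩⟩), rfl⟩
    · rintro ⟨u, hu, rfl⟩
      obtain ⟨g, rfl⟩ := isConj_iff.1 (Finset.mem_filter.1 (Finset.mem_coe.1 hu)).2
      refine ⟨SetLike.coe_mem _, ?_, ?_⟩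
      · show ((g : G) * z * (g : G)⁻¹) * ((g : G) * z * (g : G)⁻¹) = 1
        rw [conj_mul, S.z2, mul_one, mul_inv_cancel]
      · exact fun e => S.z_ne (conj_eq_one_iff.1 e)
  rw [himg, Set.ncard_image_of_injective _ Subtype.val_injective, Set.ncard_coe_finset, hcl, mul_comm]

theorem ncard_invs : (invSet H).ncard = 3 ∨ (invSet H).ncard = 15 := by
  have := S.card_eq_four_mul
  rcases S.group_facts.1 with h | h <;> omega

theorem invs_three (h3 : (invSet H).ncard = 3) {k : G} (hk : k ∈ invSet H) : InFour z t k := by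
  have hsub : ({z, t, t * z} : Set G) ⊆ invSet H := by
    intro a ha
    simp only [Set.mem_insert_iff, Set.mem_singleton_iff] at ha
    rcases ha with r | r | r <;> rw [r]
    · exact ⟨S.hz, S.z2, S.z_ne⟩
    · exact ⟨S.ht, S.t2, S.t_ne⟩
    · exact ⟨mul_mem S.ht S.hz, four_sq S.z2 S.t2 S.tz (Or.inr (Or.inr (Or.inr rfl))),
        fun e => S.t_ne_z (by rw [← inv_eq_of_mul_eq_one_right S.z2]; exact eq_inv_of_mul_eq_one_left e)⟩
  have e1 : z ≠ t * z := fun q => S.t_ne (mul_eq_right.1 q.symm)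
  have e2 : t ≠ t * z := fun q => S.z_ne (mul_eq_left.1 q.symm)
  have hc : ({z, t, t * z} : Set G).ncard = 3 :=
    Set.ncard_eq_three.2 ⟨z, t, t * z, S.t_ne_z.symm, e1, e2, rfl⟩
  have := Set.eq_of_subset_of_ncard_le hsub (by rw [h3, hc]) (Set.toFinite _)
  rw [← this] at hk
  simp only [Set.mem_insert_iff, Set.mem_singleton_iff] at hk
  exact Or.inr hk

theorem partners {k : G} (hk : k ∈ invSet H) :
    {k' | k' ∈ invSet H ∧ ¬ 2 ∣ orderOf (k * k')}.ncard = (invSet H).ncard - 2 := by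
  classical
  obtain ⟨g, hg, hgk⟩ := S.conj_z hk
  have hcent : ∀ q ∈ H, Commute q k → InFour z t (g⁻¹ * q * g) := fun q hq hc => by
    refine S.inter _ (mul_mem (mul_mem (inv_mem hg) hq) hg) ?_
    show g⁻¹ * q * g * z = z * (g⁻¹ * q * g)
    calc g⁻¹ * q * g * z = g⁻¹ * (q * (g * z * g⁻¹)) * g := by group
      _ = g⁻¹ * ((g * z * g⁻¹) * q) * g := by rw [hgk, hc.eq]
      _ = _ := by group
  have o2 : ∀ a ∈ invSet H, orderOf a = 2 := fun a ha => Dihedral.orderOf_eq_two ha.2.1 ha.2.2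
  have ef : ∀ q, InFour z t q → Commute q z := fun q hq => by
    rcases hq with r | r | r | r <;> rw [r]
    · exact Commute.one_left z
    · exact S.tz
    · exact S.tz.mul_left (Commute.refl z)
  have four_ab : ∀ a b, InFour z t a → InFour z t b → Commute a b := by
    intro a b ha hb
    have zt : Commute z t := S.tz.symm
    have c1 : Commute z (t * z) := zt.mul_right (Commute.refl z)
    have c2 : Commute t (t * z) := (Commute.refl t).mul_right S.tz
    rcases ha with r | r | r | r <;> rcases hb with s | s | s | s <;> rw [r, s] <;>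
      first | exact Commute.one_left _ | exact Commute.one_right _ | exact Commute.refl _ | exact zt
            | exact zt.symm | exact c1 | exact c1.symm | exact c2 | exact c2.symm
  have hbad : {k' | k' ∈ invSet H ∧ 2 ∣ orderOf (k * k')} = {g * t * g⁻¹, g * (t * z) * g⁻¹} := by
    ext k'
    simp only [Set.mem_setOf_eq, Set.mem_insert_iff, Set.mem_singleton_iff]
    constructor
    · rintro ⟨hk', hev⟩
      have he : Even (orderOf (k * k')) := even_iff_two_dvd.2 hev
      set w := (k * k') ^ (orderOf (k * k') / 2) with hw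
      have hwH : w ∈ H := pow_mem (mul_mem hk.1 hk'.1) _
      have hwk : Commute w k := Dihedral.half_commute_left (o2 k hk) (o2 k' hk') he
      have hwk' : Commute w k' := Dihedral.half_commute_right (o2 k hk) (o2 k' hk') he
      have hwi : w ∈ invSet H := ⟨hwH, Dihedral.mul_self (Dihedral.half_orderOf he), Dihedral.ne_one (Dihedral.half_orderOf he)⟩
      obtain ⟨h, hh, hhw⟩ := S.conj_z hwi
      have hw4 : ∀ q ∈ H, Commute q w → InFour z t (h⁻¹ * q * h) := fun q hq hc => by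
        refine S.inter _ (mul_mem (mul_mem (inv_mem hh) hq) hh) ?_
        show h⁻¹ * q * h * z = z * (h⁻¹ * q * h)
        calc h⁻¹ * q * h * z = h⁻¹ * (q * (h * z * h⁻¹)) * h := by group
          _ = h⁻¹ * ((h * z * h⁻¹) * q) * h := by rw [hhw, hc.eq]
          _ = _ := by group
      have hkk : Commute k' k := by
        have hc := four_ab _ _ (hw4 k' hk'.1 hwk'.symm) (hw4 k hk.1 hwk.symm)
        show k' * k = k * k'
        calc k' * k = h * (h⁻¹ * k' * h * (h⁻¹ * k * h)) * h⁻¹ := by group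
          _ = h * (h⁻¹ * k * h * (h⁻¹ * k' * h)) * h⁻¹ := by rw [hc.eq]
          _ = k * k' := by group
      rcases hcent k' hk'.1 hkk with r | r | r | r
      · exfalso
        exact hk'.2.2 (by rw [show k' = g * (g⁻¹ * k' * g) * g⁻¹ by group, r]; group)
      · exfalso
        have : k' = k := by rw [← hgk, ← r]; group
        rw [this, hk.2.1, orderOf_one] at hev
        omega
      · left; rw [← r]; group
      · right; rw [← r]; group
    · intro hk'
      have key : ∀ q, InFour z t q → q ∈ H → q ≠ 1 → q ≠ z →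
          g * q * g⁻¹ ∈ invSet H ∧ 2 ∣ orderOf (k * (g * q * g⁻¹)) := by
        intro q hq hqH hq1 hqz
        refine ⟨⟨mul_mem (mul_mem hg hqH) (inv_mem hg),
          by rw [conj_mul, four_sq S.z2 S.t2 S.tz hq, mul_one, mul_inv_cancel],
          fun e => hq1 (conj_eq_one_iff.1 e)⟩, ?_⟩
        rw [← hgk, conj_mul, Dihedral.orderOf_conj]
        refine dvd_of_eq (Dihedral.orderOf_eq_two ?_ fun e => hqz ?_).symm
        · rw [(ef q hq).mul_mul_mul_comm, S.z2, four_sq S.z2 S.t2 S.tz hq, one_mul]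
        · rw [← inv_eq_of_mul_eq_one_right S.z2]; exact (inv_eq_of_mul_eq_one_right e).symm
      rcases hk' with r | r <;> rw [r]
      · exact key t (Or.inr (Or.inr (Or.inl rfl))) S.ht S.t_ne S.t_ne_z
      · exact key (t * z) (Or.inr (Or.inr (Or.inr rfl))) (mul_mem S.ht S.hz)
          (fun e => S.t_ne_z (by rw [← inv_eq_of_mul_eq_one_right S.z2]; exact eq_inv_of_mul_eq_one_left e))
          (fun e => S.t_ne (mul_eq_right.1 e))
  have hne : g * t * g⁻¹ ≠ g * (t * z) * g⁻¹ := fun e =>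
    S.z_ne (mul_eq_left.1 (mul_left_cancel (mul_right_cancel e)).symm)
  have h2 := hbad ▸ Set.ncard_pair hne
  rw [show {k' | k' ∈ invSet H ∧ ¬ 2 ∣ orderOf (k * k')} = invSet H \ {k' | k' ∈ invSet H ∧ 2 ∣ orderOf (k * k')} by
      ext a; simp only [Set.mem_setOf_eq, Set.mem_diff]; tauto,
    Set.ncard_sdiff (fun a ha => ha.1) (Set.toFinite _), h2]

theorem odd_pairs : {p : G × G | p.1 ∈ invSet H ∧ p.2 ∈ invSet H ∧ ¬ 2 ∣ orderOf (p.1 * p.2)}.ncard =
    (invSet H).ncard * ((invSet H).ncard - 2) := by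
  classical
  haveI := Fintype.ofFinite G
  set I : Finset G := Finset.univ.filter fun k => k ∈ invSet H with hI
  have hIc : (invSet H).ncard = I.card := by
    rw [← Set.ncard_coe_finset]; congr 1; ext a; simp [hI]
  rw [show {p : G × G | p.1 ∈ invSet H ∧ p.2 ∈ invSet H ∧ ¬ 2 ∣ orderOf (p.1 * p.2)} =
      ↑((I ×ˢ I).filter fun p : G × G => ¬ 2 ∣ orderOf (p.1 * p.2)) by
    ext p; simp [hI, and_assoc], Set.ncard_coe_finset,
    Finset.card_filter, Finset.sum_product]
  rw [Finset.sum_congr rfl fun k hk => ?_, Finset.sum_const, smul_eq_mul, hIc]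
  rw [← Finset.card_filter, ← hIc, ← S.partners (k := k) (by simpa [hI] using hk), ← Set.ncard_coe_finset]
  congr 1
  ext a
  simp [hI]

end IsCell

/-- Splitting off a cell. -/
theorem exists_cell {L : Subgroup G} (hz : z ∈ L) (ht : t ∈ L) (hm : m ∈ L)
    (D : Data (⟨z, hz⟩ : L) ⟨t, ht⟩ ⟨m, hm⟩) :
    ∃ H : Subgroup G, H ≤ L ∧ IsCell z t m H ∧ (∀ g ∈ L, ∀ k ∈ H, g * k * g⁻¹ ∈ H) ∧
      (∀ q ∈ L, Commute q z → (q ∈ H ↔ InFour z t q)) ∧
        ∀ g ∈ L, ∃ q ∈ L, Commute q z ∧ g * q⁻¹ ∈ H := by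
  obtain ⟨K0, hK, hmK, hiff, hdec⟩ := D.exists_kernel
  have hzc : ∀ q : L, Commute q ⟨z, hz⟩ ↔ Commute (q : G) z := fun q =>
    ⟨fun h => congrArg Subtype.val h.eq, fun h => Subtype.ext h.eq⟩
  have hiff' : ∀ q (hq : q ∈ L), Commute q z → (q ∈ K0.map L.subtype ↔ InFour z t q) := fun q hq hc => by
    rw [show q = L.subtype ⟨q, hq⟩ from rfl, Subgroup.mem_map_iff_mem L.subtype_injective,
      hiff _ ((hzc ⟨q, hq⟩).2 hc)]
    exact four_iff
  have hzt : Commute t z := congrArg Subtype.val D.ht.eq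
  refine ⟨K0.map L.subtype, Subgroup.map_subtype_le K0, ?_, ?_, hiff', ?_⟩
  · exact
      { hz := (hiff' z hz (Commute.refl z)).2 (Or.inr (Or.inl rfl))
        ht := (hiff' t ht hzt).2 (Or.inr (Or.inr (Or.inl rfl)))
        hm := ⟨⟨m, hm⟩, hmK, rfl⟩
        z_ne := fun e => D.z_ne (Subtype.ext e)
        t_ne := fun e => D.t_ne (Subtype.ext e)
        t_ne_z := fun e => D.t_ne_z (Subtype.ext e)
        z2 := congrArg Subtype.val D.z_sq
        t2 := congrArg Subtype.val (D.sq _ D.ht)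
        tz := hzt
        m3 := congrArg Subtype.val D.m3
        mz := congrArg Subtype.val D.mz
        mt := congrArg Subtype.val D.mt
        inter := fun q hq hc => (hiff' q (Subgroup.map_subtype_le K0 hq) hc).1 hq }
  · rintro g hg _ ⟨k, hk, rfl⟩
    exact ⟨⟨g, hg⟩ * k * ⟨g, hg⟩⁻¹, hK.conj_mem k hk _, rfl⟩
  · intro g hg
    obtain ⟨q, hq, hmem⟩ := hdec ⟨g, hg⟩
    exact ⟨q, q.2, (hzc q).1 hq, ⟨_, hmem, rfl⟩⟩

end CfsgLib.Recognition.PSLThreeFourAut.FourSplit
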