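import Cfsg.Agent.Lib.Recognition.PSLThreeFourAut.Cell

/-!
# The centralisers of `x` and of an involution of `A ∖ Z₀`
-/

set_option autoImplicit false
set_option maxRecDepth 100000
set_option linter.unusedSectionVars false

namespace CfsgLib.Recognition.PSLThreeFourAut

open Subgroup CfsgLib.Involution FourSplit

variable {G : Type*} [Group G] [Finite G]

theorem commute_of_pow_eq {k v w : G} (hk : k * k = 1) (hv : v * v = 1) (hw : w * w = 1) {i : ℕ}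
    (h : (k * v) ^ i = w) : Commute k w ∧ Commute v w := by
  have ik := inv_eq_of_mul_eq_one_right hk
  have iv := inv_eq_of_mul_eq_one_right hv
  have e : k * (k * v) * k⁻¹ = (k * v)⁻¹ := by
    rw [mul_inv_rev, ik, iv, ← mul_assoc k k v, hk, one_mul]
  have h1 := Dihedral.conj_pow e i
  rw [h, inv_eq_of_mul_eq_one_right hw] at h1
  have hkw : Commute k w := mul_inv_eq_iff_eq_mul.1 h1
  refine ⟨hkw, ?_⟩
  have h2 : Commute (k * v) w := h ▸ Commute.self_pow (k * v) i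
  have h3 := hkw.mul_left h2
  rwa [← mul_assoc, hk, one_mul] at h3

theorem even_case {k v : G} (hk : k * k = 1) (hk1 : k ≠ 1) (hv : v * v = 1) (hv1 : v ≠ 1)
    (he : Even (orderOf (k * v))) :
    ∃ (w : G) (i : ℕ), (k * v) ^ i = w ∧ w * w = 1 ∧ w ≠ 1 ∧ Commute k w ∧ Commute v w := by
  have h2 := Dihedral.half_orderOf he
  refine ⟨_, _, rfl, Dihedral.mul_self h2, Dihedral.ne_one h2, ?_, ?_⟩
  · exact (Dihedral.half_commute_left (Dihedral.orderOf_eq_two hk hk1) (Dihedral.orderOf_eq_two hv hv1) he).symm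
  · exact (Dihedral.half_commute_right (Dihedral.orderOf_eq_two hk hk1) (Dihedral.orderOf_eq_two hv hv1) he).symm

/-- A count of pairs inside `⟨w⟩ × H`. -/
theorem fibre_count {z t m w : G} {H : Subgroup G} (S : IsCell z t m H) (hw : w * w = 1) (hwH : w ∉ H)
    (hc : ∀ k ∈ H, Commute k w) (P Q : G → Prop)
    (hPs : ∀ k, P k → k * k = 1) (hQs : ∀ v, Q v → v * v = 1)
    (hP : ∀ k, P k → Commute k w → k ∈ invSet H) (hP' : ∀ k ∈ invSet H, P k)
    (hQ : ∀ k v, P k → Q v → Commute v w → ∀ i, (k * v) ^ i = w → w * v ∈ H)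
    (hQ' : ∀ k ∈ invSet H, Q (w * k)) :
    {p : G × G | P p.1 ∧ Q p.2 ∧ ∃ i : ℕ, (p.1 * p.2) ^ i = w}.ncard =
      (invSet H).ncard * ((invSet H).ncard - 2) := by
  rw [← S.odd_pairs]
  have key : ∀ k k', k ∈ invSet H → k' ∈ invSet H → ∀ i, (k * (w * k')) ^ i = w ^ i * (k * k') ^ i := by
    intro k k' hk hk' i
    rw [← Commute.mul_pow ((hc _ (mul_mem hk.1 hk'.1)).symm), ← mul_assoc, (hc k hk.1).eq, mul_assoc]
  have hwi : ∀ i : ℕ, w ^ i = if i % 2 = 0 then 1 else w := fun i => by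
    conv_lhs => rw [← Nat.mod_add_div i 2, pow_add, pow_mul, pow_two, hw, one_pow, mul_one]
    rcases Nat.mod_two_eq_zero_or_one i with r | r <;> simp [r]
  refine (Set.ncard_congr (fun p _ => (p.1, w * p.2)) ?_ ?_ ?_).symm
  · rintro ⟨k, k'⟩ ⟨hk, hk', hodd⟩
    refine ⟨hP' k hk, hQ' k' hk', orderOf (k * k'), ?_⟩
    show (k * (w * k')) ^ _ = w
    rw [key k k' hk hk', pow_orderOf_eq_one, mul_one, hwi, if_neg]
    have hodd' : ¬ 2 ∣ orderOf (k * k') := hodd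
    intro e2
    exact hodd' (Nat.dvd_of_mod_eq_zero e2)
  · rintro ⟨k, k'⟩ ⟨l, l'⟩ - - h
    simp only [Prod.mk.injEq] at h
    exact Prod.ext h.1 (mul_left_cancel h.2)
  · rintro ⟨k, v⟩ ⟨hk, hv, i, hi⟩
    change P k at hk
    change Q v at hv
    change (k * v) ^ i = w at hi
    obtain ⟨hkw, hvw⟩ := commute_of_pow_eq (hPs k hk) (hQs v hv) hw hi
    have hkH := hP k hk hkw
    have hk'H := hQ k v hk hv hvw i hi
    have hv' : v = w * (w * v) := by rw [← mul_assoc, hw, one_mul]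
    have hk'2 : w * v * (w * v) = 1 := by rw [hvw.mul_mul_mul_comm, hw, hQs v hv, one_mul]
    have hk'1 : w * v ≠ 1 := fun e => by
      rw [← (inv_eq_of_mul_eq_one_right e : w⁻¹ = v), inv_eq_of_mul_eq_one_right hw] at hi
      rw [(hc k hkH.1).mul_pow] at hi
      rcases Nat.mod_two_eq_zero_or_one i with q | q
      · rw [hwi, if_pos q, mul_one] at hi
        exact hwH (hi ▸ pow_mem hkH.1 i)
      · rw [hwi, if_neg (by omega), mul_eq_right, ← Nat.mod_add_div i 2, q, pow_add, pow_one, pow_mul,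
          pow_two, hPs k hk, one_pow, mul_one] at hi
        exact hkH.2.2 hi
    refine ⟨(k, w * v), ⟨hkH, ⟨hk'H, hk'2, hk'1⟩, fun hev => ?_⟩, Prod.ext rfl hv'.symm⟩
    rw [hv', key k (w * v) hkH ⟨hk'H, hk'2, hk'1⟩, hwi] at hi
    rcases Nat.mod_two_eq_zero_or_one i with q | q
    · rw [if_pos q, one_mul] at hi
      exact hwH (hi ▸ pow_mem (mul_mem hkH.1 hk'H) i)
    · rw [if_neg (by omega), mul_eq_left] at hi
      have := hev.trans (orderOf_dvd_of_pow_eq_one hi)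
      omega

namespace Ctx.NG

variable {z : G} {E : Subgroup G} {e : Fin 4 → G} {K : Ctx z E e} {n r x : G}

theorem conj_z_t0 (h : NG K n r x) : IsConj z (t0 z e) := isConj_iff.2 ⟨n, h.cyc.1⟩

theorem z_mem_U (h : NG K n r x) : z ∈ K.U := K.Z0_le_U ((K.mem_Z0).2 (Or.inr (Or.inl rfl)))

theorem z_mem_G2 (h : NG K n r x) : z ∈ h.G2 := h.U_le_G2 h.z_mem_U

theorem Z0_conj (h : NG K n r x) {c : G} (hc : c ∈ K.Z0) (h1 : c ≠ 1) : IsConj z c := by
  rcases (K.mem_Z0).1 hc with q | q | q | q <;> rw [q]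
  · exact absurd q h1
  · exact h.conj_z_t0
  · exact h.conj_z_t0.trans (isConj_iff.2 ⟨n, h.cyc.2⟩)

theorem G2_of_conj (h : NG K n r x) {a b : G} (ha : a ∈ h.G2) (hab : IsConj a b) : b ∈ h.G2 := by
  obtain ⟨g, rfl⟩ := isConj_iff.1 hab
  exact h.G2_normal.conj_mem a ha g

theorem G1_of_conj (h : NG K n r x) {a b : G} (ha : a ∈ h.G1) (hab : IsConj a b) : b ∈ h.G1 := by
  obtain ⟨g, rfl⟩ := isConj_iff.1 hab
  exact (h.psi1.normal_ker).conj_mem a ha g

theorem inFour_Z0 (h : NG K n r x) {q : G} : InFour z (t0 z e) q ↔ q ∈ K.Z0 := (K.mem_Z0).symm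

theorem r_fixed_two (h : NG K n r x) {u : G} (hu : u ∈ K.U) (hc : Cong K u (r * r * u * (r * r)⁻¹)) : u ∈ K.Z0 := by
  refine h.r_fixed hu (K.cong_symm ?_)
  have := h.r_conj_cong (g := r) (fun a ha => h.conj_r_Z0 ha) hc
  rwa [show r * (r * r * u * (r * r)⁻¹) * r⁻¹ = (r * r * r) * u * (r * r * r)⁻¹ by group, h.r3, one_mul, inv_one,
    mul_one] at this

/-- The forms of the elements of `C_{G₂}(z)`. -/
theorem G2C_dec (h : NG K n r x) {g : G} (hg : g ∈ h.G2) (hgC : g ∈ centralizer ({z} : Set G)) :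
    ∃ v ∈ K.U, g = v ∨ g = v * r ∨ g = v * (r * r) := by
  obtain ⟨hCC, hs⟩ := (h.G2_inf_C hgC).1 hg
  obtain ⟨v, hv, q⟩ := h.CC_dec hCC
  have sx : Equiv.Perm.sign (rho z e x) = -1 := sign_invol _ h.rho_x.1 h.rho_x.2
  have sr : Equiv.Perm.sign (rho z e r) = 1 := sign_three _ h.rho_r.1
  have hrm := h.r_mem
  have hxm := h.x_mem
  rcases q with q | q | q | q | q | q
  · exact ⟨v, hv, Or.inl q⟩
  · exact ⟨v, hv, Or.inr (Or.inl q)⟩
  · exact ⟨v, hv, Or.inr (Or.inr q)⟩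
  all_goals
    exfalso
    rw [q] at hs
    revert hs
    simp [K.rho_mul, hv.1, hv.2, hrm, hxm, mul_mem hrm hrm, mul_mem hxm hrm, mul_mem hxm (mul_mem hrm hrm),
      sx, sr, map_mul]

/-- The only elements of `C_{G₂}(z)` centralising an element of `A ∖ Z₀` are in `A`. -/
theorem cent_a_C (h : NG K n r x) {a g : G} (ha : a ∈ A K n r) (ha0 : a ∉ K.Z0) (hg : g ∈ h.G2)
    (hgz : Commute g z) (hga : Commute g a) : g ∈ A K n r := by
  obtain ⟨v, hv, q⟩ := h.G2C_dec hg (mem_centralizer_singleton_iff.2 hgz.eq)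
  have haU := h.A_le_U ha
  have key : ∀ s ∈ CC z e, g = v * s → Cong K a (s * a * s⁻¹) := fun s hs e1 => by
    have h1 : v * (s * a * s⁻¹) * v⁻¹ = a := by
      rw [show v * (s * a * s⁻¹) * v⁻¹ = (v * s) * a * (v * s)⁻¹ by group, ← e1, hga.eq, mul_inv_cancel_right]
    have h2 : v * (s * a * s⁻¹) = a * v := mul_inv_eq_iff_eq_mul.1 h1
    have hsU := h.conj_U_CC hs haU
    have hcm := K.comm_mem_Z0 hv hsU
    rw [h2] at hcm
    have hcc : (s * a * s⁻¹ * v) = v * ((v⁻¹ * (s * a * s⁻¹)) * v) := by group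
    unfold Cong at hcm ⊢
    have := K.Z0_conj_CC hv.1 hcm
    rw [show v * ((a * v)⁻¹ * (s * a * s⁻¹ * v)) * v⁻¹ = a⁻¹ * (s * a * s⁻¹) by group] at this
    rw [← this] at hcm
    exact hcm
  rcases q with q | q | q
  · exact h.cent_A ha ha0 (q ▸ hv) hga.symm
  · exact absurd (h.r_fixed haU (key r h.r_mem q)) ha0
  · exact absurd (h.r_fixed_two haU (key (r * r) (mul_mem h.r_mem h.r_mem) q)) ha0

/-- Involutions of `U` outside `Z₀` form one class of `G`. -/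
theorem U_invol_class (h : NG K n r x) {a u : G} (ha : a ∈ A K n r) (ha0 : a ∉ K.Z0) (hu : u ∈ K.U)
    (h2 : u * u = 1) : u ∈ K.Z0 ∨ ∃ g ∈ CC z e, g * a * g⁻¹ = u := by
  by_cases hu0 : u ∈ K.Z0
  · exact Or.inl hu0
  right
  have hA : ∀ b ∈ A K n r, b ∉ K.Z0 → ∃ g ∈ CC z e, g * a * g⁻¹ = b := fun b hb hb0 =>
    h.A_orbit (CC z e) (fun v hv => hv.1) h.r_mem ha ha0 hb hb0
  rcases h.invol_mem hu h2 with q | q
  · exact hA u q hu0
  · have hx0 : x * u * x⁻¹ ∉ K.Z0 := fun h0 => hu0 (by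
      have := h.conj_x_Z0 h0
      rwa [show x * (x * u * x⁻¹) * x⁻¹ = (x * x) * u * (x * x)⁻¹ by group, h.x2, one_mul, inv_one, mul_one] at this)
    obtain ⟨g, hg, he⟩ := hA _ (h.x_span' q) hx0
    refine ⟨x⁻¹ * g, mul_mem (inv_mem h.x_mem) hg, ?_⟩
    rw [show x⁻¹ * g * a * (x⁻¹ * g)⁻¹ = x⁻¹ * (g * a * g⁻¹) * x by group, he]
    group

/-- Every involution of `G₂` is conjugate into `U`. -/
theorem G2_invol_class (h : NG K n r x) {u : G} (hu : u ∈ h.G2) (h2 : u * u = 1) :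
    ∃ v ∈ K.U, v * v = 1 ∧ IsConj u v := by
  obtain ⟨g, hg⟩ := h.exists_conj_C h2
  have h2' : g * u * g⁻¹ * (g * u * g⁻¹) = 1 := by rw [conj_mul, h2, mul_one, mul_inv_cancel]
  exact ⟨_, h.G2_invol_C (h.G2_normal.conj_mem u hu g) hg h2', h2', isConj_iff.2 ⟨g, rfl⟩⟩

/-- The elements of `C_{CC}(x)`. -/
theorem cent_x_CC (h : NG K n r x) {y : G} (hy : y ∈ CC z e) (hyx : Commute y x) : y ∈ K.Z0 ∨ y * x ∈ K.Z0 := by
  have hr : rho z e y * rho z e x = rho z e x * rho z e y := by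
    rw [← K.rho_mul hy h.x_mem, ← K.rho_mul h.x_mem hy, hyx.eq]
  rcases (by decide +kernel : ∀ a b : Equiv.Perm (Fin 3), a * a = 1 → a ≠ 1 → b * a = a * b →
      b = 1 ∨ b * a = 1) _ _ h.rho_x.1 h.rho_x.2 hr with q | q
  · exact Or.inl (h.cent_x ⟨hy, q⟩ hyx.symm)
  · exact Or.inr (h.cent_x ⟨mul_mem hy h.x_mem, by rw [K.rho_mul hy h.x_mem, q]⟩
      (hyx.symm.mul_right (Commute.refl x)))

theorem x_not_U (h : NG K n r x) : x ∉ K.U := fun hU => h.rho_x.2 hU.2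

theorem mul_x_conj (h : NG K n r x) {c : G} (hc : c ∈ K.Z0) : ∃ g ∈ CC z e, g * x * g⁻¹ = c * x := by
  have hcx : Commute x c := K.Z0_central hc h.x_mem
  refine h.outer_class (mul_mem (K.Z0_le_CC hc) h.x_mem) ?_ fun hU => h.x_not_U ?_
  · rw [hcx.mul_mul_mul_comm, K.Z0_sq hc, h.x2, one_mul]
  · have := mul_mem (inv_mem (K.Z0_le_U hc)) hU
    rwa [inv_mul_cancel_left] at this

/-- The centraliser of `x` in `G₁`. -/
theorem x_cell (h : NG K n r x) : ∃ H : Subgroup G, IsCell z (t0 z e) n H ∧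
    (∀ k ∈ H, k ∈ h.G1 ∧ Commute k x) ∧ x ∉ H ∧
    ∀ g ∈ h.G1, Commute g x → g ∈ H ∨ g * x ∈ H := by
  set L := h.G1 ⊓ centralizer ({x} : Set G) with hL
  have memL : ∀ {g : G}, g ∈ L ↔ g ∈ h.G1 ∧ Commute g x := fun {g} => by
    rw [hL, Subgroup.mem_inf, mem_centralizer_singleton_iff]; rfl
  have hzL : z ∈ L := memL.2 ⟨h.G2_le_G1 h.z_mem_G2, (K.comm_z h.x_mem.1).symm⟩
  have htL : t0 z e ∈ L := memL.2 ⟨h.G1_of_conj (h.G2_le_G1 h.z_mem_G2) h.conj_z_t0, (K.CC_t0 h.x_mem).symm⟩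
  have hnL : n ∈ L := memL.2 ⟨h.G2_le_G1 h.n_mem_G2, h.nx⟩
  have hsplit : ∀ q ∈ L, Commute q z → q ∈ K.Z0 ∨ q * x ∈ K.Z0 := fun q hq hqz =>
    h.cent_x_CC ((h.G1_inf_C (mem_centralizer_singleton_iff.2 hqz.eq)).1 (memL.1 hq).1) (memL.1 hq).2
  have hsub : ∀ (q : L), Commute q ⟨z, hzL⟩ → Commute (q : G) z := fun q hq => congrArg Subtype.val hq.eq
  have D : Data (⟨z, hzL⟩ : L) ⟨t0 z e, htL⟩ ⟨n, hnL⟩ :=
    { z_ne := fun q => K.frame.extra.z_ne (congrArg Subtype.val q)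
      t_ne := fun q => K.t0_ne_one (congrArg Subtype.val q)
      t_ne_z := fun q => K.t0_ne_z (congrArg Subtype.val q)
      sq := fun q hq => Subtype.ext (by
        show (q : G) * q = 1
        rcases hsplit q q.2 (hsub q hq) with s | s
        · exact K.Z0_sq s
        · have hqx : Commute (q : G) x := (memL.1 q.2).2
          have := K.Z0_sq s
          rwa [hqx.symm.mul_mul_mul_comm, h.x2, mul_one] at this)
      ht := Subtype.ext K.z_t0.symm.eq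
      m3 := Subtype.ext h.n3
      mz := Subtype.ext h.cyc.1
      mt := Subtype.ext h.cyc.2
      cl := fun g hg => by
        have hgz : Commute ((g : G) * z * (g : G)⁻¹) z := congrArg Subtype.val hg.eq
        have hgx : Commute ((g : G) * z * (g : G)⁻¹) x :=
          (memL.1 (mul_mem (mul_mem g.2 hzL) (inv_mem g.2))).2
        by_cases he : (g : G) * z * (g : G)⁻¹ = z
        · exact Or.inl (Subtype.ext he)
        · exact Or.inr ((h.x_fused_cases ⟨isConj_iff.2 ⟨_, rfl⟩, mem_centralizer_singleton_iff.2 hgz.eq, he⟩ hgx).imp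
            (fun e1 => Subtype.ext e1) fun e1 => Subtype.ext e1)
      fix := fun q hq => four_iff.2 ((h.inFour_Z0).2 (by
        show (q : G)⁻¹ * (n * (q : G) * n⁻¹) ∈ K.Z0
        rcases hsplit q q.2 (hsub q hq) with s | s
        · exact mul_mem (inv_mem s) (h.conj_n_Z0 s)
        · set c := (q : G) * x
          have e1 : (q : G) = c * x := by rw [mul_assoc, h.x2, mul_one]
          rw [e1, show (c * x)⁻¹ * (n * (c * x) * n⁻¹) = x⁻¹ * (c⁻¹ * (n * c * n⁻¹)) * (n * x * n⁻¹) by group,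
            h.nx.eq, mul_inv_cancel_right]
          have := h.conj_x_Z0 (mul_mem (inv_mem s) (h.conj_n_Z0 s))
          rwa [h.x_inv] at this ⊢)) }
  obtain ⟨H, hHL, hH, -, hiff, hdec⟩ := exists_cell hzL htL hnL D
  have hxC : Commute x z := K.comm_z h.x_mem.1
  have hxL : x ∈ L := memL.2 ⟨h.x_mem_G1, Commute.refl x⟩
  refine ⟨H, hH, fun k hk => memL.1 (hHL hk), fun hxH => h.x_not_U (K.Z0_le_U ?_), fun g hg hgx => ?_⟩
  · exact (h.inFour_Z0).1 ((hiff x hxL hxC).1 hxH)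
  · obtain ⟨q, hqL, hqz, hmem⟩ := hdec g (memL.2 ⟨hg, hgx⟩)
    rcases hsplit q hqL hqz with s | s
    · left
      have := mul_mem hmem ((hiff q hqL hqz).2 ((h.inFour_Z0).2 s))
      rwa [inv_mul_cancel_right] at this
    · right
      have hqxH : q * x ∈ H := (hiff _ (mul_mem hqL hxL) (hqz.mul_left hxC)).2 ((h.inFour_Z0).2 s)
      have := mul_mem hmem hqxH
      rwa [← mul_assoc, inv_mul_cancel_right] at this

/-- The centraliser in `G₂` of an element of `fixU (n r)`, when `z` is not conjugate into `U ∖ Z₀`. -/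
theorem a_cell (h : NG K n r x) (hII : ∀ u ∈ K.U, IsConj z u → u ∈ K.Z0) {a : G}
    (ha : a ∈ fixU K (n * r)) (ha1 : a ≠ 1) :
    ∃ H : Subgroup G, IsCell z (t0 z e) (n * r) H ∧ (∀ k ∈ H, k ∈ h.G2 ∧ Commute k a) ∧ a ∉ H ∧
      (∀ k ∈ h.G2, Commute k a → IsConj z k → k ∈ H) ∧
      (∀ g, ∀ k ∈ H, g ∈ h.G2 → Commute g a → g * k * g⁻¹ ∈ H) ∧
      (∀ g ∈ h.G2, Commute g a → ∃ q ∈ A K n r, g * q⁻¹ ∈ H) ∧
      (∀ q ∈ A K n r, q ∈ H ↔ q ∈ K.Z0) := by
  set L := h.G2 ⊓ centralizer ({a} : Set G) with hL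
  have memL : ∀ {g : G}, g ∈ L ↔ g ∈ h.G2 ∧ Commute g a := fun {g} => by
    rw [hL, Subgroup.mem_inf, mem_centralizer_singleton_iff]; rfl
  have haA := h.fix_le_A ha
  have ha0 : a ∉ K.Z0 := fun h0 => ha1 (h.fix_inf_Z0 ha h0)
  have hAL : ∀ {q : G}, q ∈ A K n r → q ∈ L := fun {q} hq =>
    memL.2 ⟨h.U_le_G2 (h.A_le_U hq), h.A_comm hq haA⟩
  have hzA : z ∈ A K n r := h.Z0_le_A ((K.mem_Z0).2 (Or.inr (Or.inl rfl)))
  have htA : t0 z e ∈ A K n r := h.Z0_le_A ((K.mem_Z0).2 (Or.inr (Or.inr (Or.inl rfl))))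
  have hmL : n * r ∈ L := memL.2 ⟨mul_mem h.n_mem_G2 h.r_mem_G2, mul_inv_eq_iff_eq_mul.1 (h.fix_mem.1 ha).2⟩
  have hA : ∀ q ∈ L, Commute q z → q ∈ A K n r := fun q hq hqz =>
    h.cent_a_C haA ha0 (memL.1 hq).1 hqz (memL.1 hq).2
  have hsub : ∀ (q : L), Commute q ⟨z, hAL hzA⟩ → Commute (q : G) z := fun q hq => congrArg Subtype.val hq.eq
  have hrz : r * z * r⁻¹ = z := K.frame.conj_z h.r_mem.1
  have hrt : r * t0 z e * r⁻¹ = t0 z e := by rw [(K.CC_t0 h.r_mem).eq, mul_inv_cancel_right]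
  have D : Data (⟨z, hAL hzA⟩ : L) ⟨t0 z e, hAL htA⟩ ⟨n * r, hmL⟩ :=
    { z_ne := fun q => K.frame.extra.z_ne (congrArg Subtype.val q)
      t_ne := fun q => K.t0_ne_one (congrArg Subtype.val q)
      t_ne_z := fun q => K.t0_ne_z (congrArg Subtype.val q)
      sq := fun q hq => Subtype.ext (h.A_sq (hA q q.2 (hsub q hq)))
      ht := Subtype.ext K.z_t0.symm.eq
      m3 := Subtype.ext h.m3
      mz := Subtype.ext (by
        show n * r * z * (n * r)⁻¹ = t0 z e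
        rw [show n * r * z * (n * r)⁻¹ = n * (r * z * r⁻¹) * n⁻¹ by group, hrz, h.cyc.1])
      mt := Subtype.ext (by
        show n * r * t0 z e * (n * r)⁻¹ = t0 z e * z
        rw [show n * r * t0 z e * (n * r)⁻¹ = n * (r * t0 z e * r⁻¹) * n⁻¹ by group, hrt, h.cyc.2])
      cl := fun g hg => by
        have hgz : Commute ((g : G) * z * (g : G)⁻¹) z := congrArg Subtype.val hg.eq
        have := hII _ (h.A_le_U (hA _ (mul_mem (mul_mem g.2 (hAL hzA)) (inv_mem g.2)) hgz))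
          (isConj_iff.2 ⟨_, rfl⟩)
        rcases (K.mem_Z0).1 this with s | s | s | s
        · exact absurd (conj_eq_one_iff.1 s) K.frame.extra.z_ne
        · exact Or.inl (Subtype.ext s)
        · exact Or.inr (Or.inl (Subtype.ext s))
        · exact Or.inr (Or.inr (Subtype.ext s))
      fix := fun q hq => four_iff.2 ((h.inFour_Z0).2 (by
        show (q : G)⁻¹ * (n * r * (q : G) * (n * r)⁻¹) ∈ K.Z0
        obtain ⟨c, b, hc, hb, hq'⟩ := (hA q q.2 (hsub q hq) : (q : G) ∈ span K (n * r))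
        rw [hq']
        obtain ⟨hbU, hbf⟩ := h.fix_mem.1 hb
        rw [show (c * b)⁻¹ * (n * r * (c * b) * (n * r)⁻¹) = b⁻¹ * (c⁻¹ * (n * r * c * (n * r)⁻¹)) *
          (n * r * b * (n * r)⁻¹) by group, hbf]
        have h1 := mul_mem (inv_mem hc) (h.conj_m_Z0 hc)
        rw [← (K.Z0_central h1 (inv_mem hbU.1)).eq.symm, inv_mul_cancel_right]
        exact h1)) }
  obtain ⟨H, hHL, hH, hnorm, hiff, hdec⟩ := exists_cell (hAL hzA) (hAL htA) hmL D
  have hiffA : ∀ q ∈ A K n r, q ∈ H ↔ q ∈ K.Z0 := fun q hq =>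
    (hiff q (hAL hq) (K.comm_z (h.A_le_U hq).1.1)).trans h.inFour_Z0
  refine ⟨H, hH, fun k hk => memL.1 (hHL hk), fun hh => ha0 ((hiffA a haA).1 hh), ?_, ?_, ?_, hiffA⟩
  · intro k hk hka hzk
    have hk2 : k * k = 1 := by
      obtain ⟨g, rfl⟩ := isConj_iff.1 hzk
      rw [conj_mul, K.sq_z, mul_one, mul_inv_cancel]
    obtain ⟨g, hg⟩ := D.conj_into (k := ⟨k, memL.2 ⟨hk, hka⟩⟩) (Subtype.ext hk2)
    have hgk : (g : G) * k * (g : G)⁻¹ ∈ A K n r :=
      hA _ (mul_mem (mul_mem g.2 (memL.2 ⟨hk, hka⟩)) (inv_mem g.2)) (hsub _ hg)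
    have h0 := (hiffA _ hgk).2 (hII _ (h.A_le_U hgk) (hzk.trans (isConj_iff.2 ⟨_, rfl⟩)))
    have := hnorm _ (inv_mem g.2) _ h0
    rwa [show (g : G)⁻¹ * ((g : G) * k * (g : G)⁻¹) * (g : G)⁻¹⁻¹ = k by group] at this
  · exact fun g k hk hg hga => hnorm g (memL.2 ⟨hg, hga⟩) k hk
  · intro g hg hga
    obtain ⟨q, hqL, hqz, hmem⟩ := hdec g (memL.2 ⟨hg, hga⟩)
    exact ⟨q, hA q hqL hqz, hmem⟩

end Ctx.NG

end CfsgLib.Recognition.PSLThreeFourAut
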