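import Cfsg.Agent.Lib.ThreeTransp.Extraspecial

/-!
# The number of involutions of an extraspecial group of order 32
-/

set_option autoImplicit false
set_option linter.unusedSectionVars false

namespace CfsgLib.Recognition.PSLThreeFourAut

open CfsgLib.ThreeTransp.Extraspecial (Extra)

variable {G : Type*} [Group G] [Finite G] {Q : Subgroup G} {z : G}

theorem comm_or (h : Extra Q z) {x y : G} (hx : x ∈ Q) (hy : y ∈ Q) : x * y = y * x ∨ x * y = y * x * z := by
  rcases h.conj_cases hy hx with e | e
  · exact Or.inl (mul_inv_eq_iff_eq_mul.1 e)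
  · right
    rw [mul_inv_eq_iff_eq_mul] at e
    rw [e, mul_assoc, mul_assoc, h.z_comm hx]

theorem comm_mul_iff (h : Extra Q z) {x y v : G} (hx : x ∈ Q) (hy : y ∈ Q) (hv : v ∈ Q)
    (hyv : ¬ Commute y v) : Commute (x * y) v ↔ ¬ Commute x v := by
  have e := (comm_or h hy hv).resolve_left hyv
  have hzc : ∀ {q : G}, q ∈ Q → z * q = q * z := fun hq => h.z_comm hq
  rcases comm_or h hx hv with e' | e'
  · refine iff_of_false (fun hc => ?_) (not_not.2 e')
    have : x * y * v = x * (v * y * z) := by rw [mul_assoc, e]
    rw [hc.eq, ← mul_assoc v, ← e', mul_assoc x v y] at this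
    have h2 := mul_left_cancel this
    exact h.z_ne (by simpa using h2)
  · refine iff_of_true ?_ fun hc => h.z_ne (by
      have h3 := hc.eq
      rw [e'] at h3
      simpa using h3)
    show x * y * v = v * (x * y)
    calc x * y * v = x * (v * y * z) := by rw [mul_assoc, e]
      _ = x * v * (y * z) := by group
      _ = v * x * (z * y) * z := by rw [e']; group
      _ = v * x * y * (z * z) := by rw [hzc hy]; group
      _ = v * (x * y) := by rw [h.z_sq, mul_one, mul_assoc]

/-- The non-central involutions. -/
def invs (Q : Subgroup G) (z : G) : Set G := {u | u ∈ Q ∧ u * u = 1 ∧ u ≠ 1 ∧ u ≠ z}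

/-- There are at least ten non-central involutions. -/
theorem ten_le_invs (h : Extra Q z) (hQ : Nat.card Q = 32) : 10 ≤ (invs Q z).ncard := by
  classical
  haveI := Fintype.ofFinite ↥Q
  
  have hz2 := h.z_sq
  let ε : ↥Q → ℤ := fun x => if x * x = 1 then 1 else -1
  let c : ↥Q → ↥Q → ℤ := fun x y => if Commute (x : G) y then 1 else -1
  have hsq : ∀ x : ↥Q, (x : G) * x = 1 ∨ (x : G) * x = z := fun x => h.sq_cases x.2
  have hε : ∀ x y : ↥Q, ε (x * y) = ε x * ε y * c x y := by
    intro x y
    have hxy : ((x * y : ↥Q) : G) * (x * y : ↥Q) = (x : G) * x * ((y : G) * y) *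
        (if Commute (x : G) y then 1 else z) := by
      show (x : G) * y * (x * y) = _
      by_cases hc : Commute (x : G) y
      · rw [if_pos hc, mul_one]
        exact hc.symm.mul_mul_mul_comm _ _
      · rw [if_neg hc]
        have e := (comm_or h y.2 x.2).resolve_left fun e => hc e.symm
        calc (x : G) * y * (x * y) = x * ((y : G) * x) * y := by group
          _ = x * x * y * (z * y) := by rw [e]; group
          _ = _ := by rw [h.z_comm y.2]; group
    have key : ∀ w : ↥Q, ε w = if (w : G) * w = 1 then 1 else -1 := fun w => by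
      simp only [ε, Subtype.ext_iff, Subgroup.coe_mul, Subgroup.coe_one]
    rw [key, key, key, hxy]
    simp only [c]
    rcases hsq x with e1 | e1 <;> rcases hsq y with e2 | e2 <;> by_cases hc : Commute (x : G) y <;>
      simp [e1, e2, hc, h.z_ne, hz2]
  have hcself : ∀ x d : ↥Q, c x (x⁻¹ * d) = c x d := by
    intro x d
    simp only [c]
    refine if_congr ⟨fun hc => ?_, fun hc => ?_⟩ rfl rfl
    · simpa using (Commute.refl (x : G)).mul_right hc
    · exact ((Commute.refl (x : G)).inv_right).mul_right hc
  have hεinv : ∀ x : ↥Q, ε x * ε x = 1 := fun x => by simp only [ε]; split_ifs <;> norm_num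
  have hsumc : ∀ d : ↥Q, ∑ x : ↥Q, c x d = if (d : G) = 1 ∨ (d : G) = z then 32 else 0 := by
    intro d
    split_ifs with hd
    · have : ∀ x : ↥Q, c x d = 1 := fun x => if_pos (by
        rcases hd with hd | hd <;> rw [hd]
        · exact Commute.one_right _
        · exact (h.z_comm x.2).symm)
      rw [Finset.sum_congr rfl fun x _ => this x, Finset.sum_const, Finset.card_univ, ← Nat.card_eq_fintype_card,
        hQ]
      simp
    · push Not at hd
      obtain ⟨y, hy, hyc⟩ : ∃ y ∈ Q, ¬ Commute y (d : G) := by
        by_contra hne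
        push Not at hne
        rcases h.mem_center_cases d.2 (fun q hq => (hne q hq).eq.symm) with e | e
        · exact hd.1 e
        · exact hd.2 e
      have hflip : ∑ x : ↥Q, c x d = -∑ x : ↥Q, c x d := by
        rw [← Finset.sum_neg_distrib]
        refine Fintype.sum_equiv (Equiv.mulRight (⟨y, hy⟩ : ↥Q)) _ _ fun x => ?_
        simp only [c, Equiv.coe_mulRight, Subgroup.coe_mul, comm_mul_iff h x.2 hy d.2 hyc]
        split_ifs <;> simp
      linarith
  set S : ℤ := ∑ x : ↥Q, ε x with hS
  have hS2 : S * S = 64 := by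
    calc S * S = ∑ x : ↥Q, ∑ y : ↥Q, ε (x * y) * c x y := by
          rw [hS, Finset.sum_mul_sum]
          refine Finset.sum_congr rfl fun x _ => Finset.sum_congr rfl fun y _ => ?_
          rw [hε x y]
          simp only [c]; split_ifs <;> simp
      _ = ∑ x : ↥Q, ∑ d : ↥Q, ε d * c x d := by
          refine Finset.sum_congr rfl fun x _ => ?_
          refine Fintype.sum_equiv (Equiv.mulLeft x) _ _ fun y => ?_
          simp only [Equiv.coe_mulLeft]
          rw [← hcself x (x * y), inv_mul_cancel_left]
      _ = ∑ d : ↥Q, ε d * ∑ x : ↥Q, c x d := by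
          rw [Finset.sum_comm]; simp only [Finset.mul_sum]
      _ = ∑ d : ↥Q, if (d : G) = 1 ∨ (d : G) = z then 32 else 0 := by
          refine Finset.sum_congr rfl fun d _ => ?_
          rw [hsumc d]
          split_ifs with hd
          · have : ε d = 1 := if_pos (Subtype.ext (by rcases hd with hd | hd <;> simp [hd, hz2]))
            rw [this, one_mul]
          · simp
      _ = 64 := by
          rw [← Finset.sum_filter]
          have : (Finset.univ.filter fun d : ↥Q => (d : G) = 1 ∨ (d : G) = z) =
              {1, ⟨z, h.z_mem⟩} := by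
            ext d; simp only [Finset.mem_filter, Finset.mem_univ, true_and, Finset.mem_insert, Finset.mem_singleton, Subtype.ext_iff, Subgroup.coe_one]
          rw [this, Finset.sum_pair (fun e => h.z_ne (congrArg Subtype.val e).symm)]
          norm_num
  set T := (Finset.univ.filter fun x : ↥Q => x * x = 1) with hT
  have hST : S = 2 * (T.card : ℤ) - 32 := by
    rw [hS, ← Finset.sum_filter_add_sum_filter_not Finset.univ (fun x : ↥Q => x * x = 1)]
    have h1 := Finset.card_filter_add_card_filter_not (s := (Finset.univ : Finset ↥Q)) (fun x : ↥Q => x * x = 1)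
    rw [Finset.card_univ, ← Nat.card_eq_fintype_card, hQ] at h1
    rw [Finset.sum_congr rfl (fun x hx => (if_pos (Finset.mem_filter.1 hx).2 : ε x = 1)),
      Finset.sum_congr rfl (fun x hx => (if_neg (Finset.mem_filter.1 hx).2 : ε x = -1)), Finset.sum_const,
      Finset.sum_const, ← hT]
    rw [← hT] at h1
    simp only [nsmul_eq_mul, mul_one, mul_neg]
    omega
  have hTI : T.card = (invs Q z).ncard + 2 := by
    have e1 : T.card = ({u : G | u ∈ Q ∧ u * u = 1} : Set G).ncard := by
      rw [← Nat.card_coe_set_eq, ← Nat.card_eq_finsetCard]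
      exact Nat.card_congr
        { toFun := fun x => ⟨(x.1 : G), x.1.2, congrArg Subtype.val (Finset.mem_filter.1 x.2).2⟩
          invFun := fun x => ⟨⟨x.1, x.2.1⟩, Finset.mem_filter.2 ⟨Finset.mem_univ _, Subtype.ext x.2.2⟩⟩
          left_inv := fun x => rfl
          right_inv := fun x => rfl }
    have e2 : ({u : G | u ∈ Q ∧ u * u = 1} : Set G) = invs Q z ∪ {1, z} := by
      ext u
      simp only [invs, Set.mem_union, Set.mem_insert_iff, Set.mem_singleton_iff, Set.mem_ofPred_eq]
      constructor
      · intro hu; by_cases h1 : u = 1 <;> by_cases h2 : u = z <;> tauto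
      · rintro (hu | rfl | rfl)
        · exact ⟨hu.1, hu.2.1⟩
        · exact ⟨one_mem _, one_mul _⟩
        · exact ⟨h.z_mem, hz2⟩
    rw [e1, e2, Set.ncard_union_eq, Set.ncard_pair (Ne.symm h.z_ne)]
    rw [Set.disjoint_left]
    rintro u hu (rfl | rfl)
    · exact hu.2.2.1 rfl
    · exact hu.2.2.2 rfl
  have : S = 8 ∨ S = -8 := by
    have h0 : (S - 8) * (S + 8) = 0 := by ring_nf; nlinarith [hS2]
    rcases mul_eq_zero.1 h0 with e | e
    · left; linarith
    · right; linarith
  rcases this with e | e <;> omega

end CfsgLib.Recognition.PSLThreeFourAut
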