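import Cfsg.Agent.Lib.Recognition.PSLThreeFourAut.Act
import Cfsg.Agent.Lib.Characterizations.HallJankoCount
import Cfsg.Prelude.Def_Transfer

/-!
# Existence of coordinates

The five pairs of non-central involutions of `E` are permuted faithfully by `H/E ≅ S₄`, which fixes one
of them.
-/

set_option autoImplicit false
set_option maxRecDepth 100000
set_option linter.unusedSectionVars false

namespace CfsgLib.Recognition.PSLThreeFourAut

open CfsgLib.ThreeTransp.Extraspecial (Extra)
open Subgroup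

variable {G : Type*} [Group G] [Finite G] {Q : Subgroup G} {z : G}

theorem perm4_gen : ∃ a b : Equiv.Perm (Fin 4), a ^ 4 = 1 ∧ a * a ≠ 1 ∧ b ^ 3 = 1 ∧ b ≠ 1 ∧
    a * b * (a * b) = 1 ∧ ∀ g, ∃ (i : Fin 4) (j : Fin 3) (k : Fin 4) (l : Fin 3),
      g = a ^ i.val * b ^ j.val * (a ^ k.val * b ^ l.val) :=
  ⟨Equiv.swap 0 1 * Equiv.swap 1 2 * Equiv.swap 2 3, Equiv.swap 1 3 * Equiv.swap 3 2, by decide +kernel⟩

theorem perm5_fix : ∀ σ : Equiv.Perm (Fin 5), σ ^ 4 = 1 → σ * σ ≠ 1 → ∀ τ : Equiv.Perm (Fin 5),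
    τ ^ 3 = 1 → τ ≠ 1 → σ * τ * (σ * τ) = 1 → ∃ i, σ i = i ∧ τ i = i := by
  decide +kernel

/-- A homomorphism from `S₄` into `S₅` which is injective fixes a point. -/
theorem exists_fixed_point (ψ : Equiv.Perm (Fin 4) →* Equiv.Perm (Fin 5)) (hψ : Function.Injective ψ) :
    ∃ f, ∀ g, ψ g f = f := by
  obtain ⟨a, b, ha4, ha2, hb3, hb1, hab, hgen⟩ := perm4_gen
  obtain ⟨f, hfa, hfb⟩ := perm5_fix (ψ a) (by rw [← map_pow, ha4, map_one])
    (fun h => ha2 (hψ (by rw [map_mul, h, map_one]))) (ψ b) (by rw [← map_pow, hb3, map_one])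
    (fun h => hb1 (hψ (by rw [h, map_one]))) (by rw [← map_mul, ← map_mul, hab, map_one])
  refine ⟨f, fun g => ?_⟩
  have hs : ∀ x ∈ ({a, b} : Set (Equiv.Perm (Fin 4))), x ∈ (MulAction.stabilizer (Equiv.Perm (Fin 5)) f).comap ψ := by
    rintro x (rfl | rfl)
    · exact hfa
    · exact hfb
  obtain ⟨i, j, k, l, rfl⟩ := hgen g
  exact ((MulAction.stabilizer (Equiv.Perm (Fin 5)) f).comap ψ).mul_mem
    (mul_mem (pow_mem (hs a (by simp)) _) (pow_mem (hs b (by simp)) _))
    (mul_mem (pow_mem (hs a (by simp)) _) (pow_mem (hs b (by simp)) _))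

/-- No elementary abelian subgroup of order eight. -/
def NoEight (Q : Subgroup G) (z : G) : Prop :=
  ∀ u ∈ invs Q z, ∀ v ∈ invs Q z, Commute u v → Near z u v

theorem noEight_of_hyp (h : Extra Q z)
    (hminus : ∀ A : Subgroup ↥Q, Cfsg.IsElementaryAbelian 2 A → Nat.card ↥A ≠ 8) : NoEight Q z := by
  classical
  rintro u ⟨huQ, hu2, hu1, huz⟩ v ⟨hvQ, hv2, hv1, hvz⟩ hc
  by_contra hn
  simp only [Near, not_or] at hn
  let zq : ↥Q := ⟨z, h.z_mem⟩
  let uq : ↥Q := ⟨u, huQ⟩
  let vq : ↥Q := ⟨v, hvQ⟩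
  have czu : Commute zq uq := Subtype.ext (h.z_comm huQ)
  have czv : Commute zq vq := Subtype.ext (h.z_comm hvQ)
  have cuv : Commute uq vq := Subtype.ext hc.eq
  have hz2 : zq ^ 2 = 1 := Subtype.ext (by simp [zq, pow_two, h.z_sq])
  have hu2' : uq ^ 2 = 1 := Subtype.ext (by simp [uq, pow_two, hu2])
  have hv2' : vq ^ 2 = 1 := Subtype.ext (by simp [vq, pow_two, hv2])
  let f : Fin 2 × Fin 2 × Fin 2 → ↥Q := fun p => zq ^ p.1.val * (uq ^ p.2.1.val * vq ^ p.2.2.val)
  have hadd : ∀ (x : ↥Q), x ^ 2 = 1 → ∀ i j : Fin 2, x ^ i.val * x ^ j.val = x ^ ((i + j : Fin 2)).val := by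
    intro x hx i j
    fin_cases i <;> fin_cases j <;> simp_all [pow_two]
  have hmul : ∀ p q, f p * f q = f (p + q) := fun p q => by
    simp only [f, Prod.fst_add, Prod.snd_add, ← hadd _ hz2, ← hadd _ hu2', ← hadd _ hv2']
    rw [((((czu.pow_pow q.1 p.2.1).mul_right (czv.pow_pow q.1 p.2.2))).symm).mul_mul_mul_comm,
      ((cuv.pow_pow q.2.1 p.2.2)).symm.mul_mul_mul_comm]
  have hf0 : f 0 = 1 := by simp [f]
  let A : Subgroup ↥Q :=
    { carrier := Set.range f
      one_mem' := ⟨0, hf0⟩
      mul_mem' := by rintro _ _ ⟨p, rfl⟩ ⟨q, rfl⟩; exact ⟨p + q, (hmul p q).symm⟩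
      inv_mem' := by
        rintro _ ⟨p, rfl⟩
        refine ⟨p, (inv_eq_of_mul_eq_one_right ?_).symm⟩
        rw [hmul, show p + p = 0 from (by decide : ∀ p : Fin 2 × Fin 2 × Fin 2, p + p = 0) p, hf0] }
  have hA : Cfsg.IsElementaryAbelian 2 A := by
    refine ⟨⟨⟨?_⟩⟩, ?_⟩
    · rintro ⟨_, p, rfl⟩ ⟨_, q, rfl⟩
      exact Subtype.ext (show f p * f q = f q * f p by rw [hmul, hmul, add_comm])
    · rintro _ ⟨p, rfl⟩
      rw [pow_two, hmul, show p + p = 0 from (by decide : ∀ p : Fin 2 × Fin 2 × Fin 2, p + p = 0) p, hf0]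
  have hinj : Function.Injective f := by
    have hne : ∀ p, p ≠ 0 → f p ≠ 1 := by
      intro p hp e
      have e' := congrArg Subtype.val e
      obtain ⟨a, b, c⟩ := p
      fin_cases a <;> fin_cases b <;> fin_cases c <;> simp [f, zq, uq, vq] at e' hp
      · exact hv1 e'
      · exact hu1 e'
      · exact hn.1 (mul_left_cancel (hu2.trans e'.symm)).symm
      · exact h.z_ne e'
      · exact hvz (mul_left_cancel (h.z_sq.trans e'.symm)).symm
      · exact huz (mul_left_cancel (h.z_sq.trans e'.symm)).symm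
      · refine hn.2 (mul_left_cancel (a := z * u) ?_)
        rw [mul_assoc, e', show z * u * (u * z) = z * (u * u) * z by group, hu2, mul_one, h.z_sq]
    intro p q e
    by_contra hpq
    refine hne (p + q) (fun e' => hpq ((by decide : ∀ p q : Fin 2 × Fin 2 × Fin 2, p + q = 0 → p = q) p q e')) ?_
    rw [← hmul, e, hmul, show q + q = 0 from (by decide : ∀ p : Fin 2 × Fin 2 × Fin 2, p + p = 0) q, hf0]
  exact hminus A hA ((Nat.card_congr (Equiv.ofInjective f hinj).symm).trans (by simp))

theorem near_rfl (x : G) : Near z x x := Or.inl rfl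

theorem near_sy (h : Extra Q z) {x y : G} (hn : Near z x y) : Near z y x := by
  rcases hn with rfl | rfl
  · exact Or.inl rfl
  · exact Or.inr (by rw [mul_assoc, h.z_sq, mul_one])

theorem near_tr (h : Extra Q z) {x y w : G} (h1 : Near z x y) (h2 : Near z y w) : Near z x w := by
  rcases h1 with rfl | rfl <;> rcases h2 with rfl | rfl
  · exact Or.inl rfl
  · exact Or.inr rfl
  · exact Or.inr rfl
  · exact Or.inl (by rw [mul_assoc, h.z_sq, mul_one])

theorem near_mul' (h : Extra Q z) {a b c d : G} (hc : c ∈ Q) (h1 : Near z a b) (h2 : Near z c d) :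
    Near z (a * c) (b * d) := by
  rcases h1 with rfl | rfl <;> rcases h2 with rfl | rfl
  · exact Or.inl rfl
  · exact Or.inr (mul_assoc _ _ _).symm
  · exact Or.inr (by rw [mul_assoc a z, h.z_comm hc, ← mul_assoc])
  · exact Or.inl (by rw [mul_assoc a z, ← mul_assoc z, h.z_comm hc, mul_assoc c z, h.z_sq, mul_one])

theorem comm_of_near (h : Extra Q z) {x y v : G} (hv : v ∈ Q) (hn : Near z x y) :
    Commute y v ↔ Commute x v := by
  have hz : Commute z v := h.z_comm hv
  rcases hn with rfl | rfl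
  · exact Iff.rfl
  · exact ⟨fun hc => by simpa [mul_assoc, h.z_sq] using hc.mul_left hz, fun hc => hc.mul_left hz⟩

/-- The five pairs of non-central involutions. -/
theorem exists_five (h : Extra Q z) (hQ : Nat.card Q = 32) (h8 : NoEight Q z) :
    ∃ v : Fin 5 → G, (∀ i, v i ∈ invs Q z) ∧ (∀ i j, Near z (v i) (v j) → i = j) ∧
      ∀ u ∈ invs Q z, ∃ i, Near z (v i) u := by
  classical
  have h10 := ten_le_invs h hQ
  have pick : ∀ l : List G, 2 * l.length < 10 → ∃ u ∈ invs Q z, ∀ a ∈ l, ¬ Near z a u := by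
    intro l hl
    by_contra hne
    push Not at hne
    have hsub : invs Q z ⊆ ((l.toFinset ∪ l.toFinset.image (· * z) : Finset G) : Set G) := fun u hu => by
      obtain ⟨a, ha, r | r⟩ := hne u hu
      · exact Finset.mem_coe.2 (Finset.mem_union_left _ (List.mem_toFinset.2 (r ▸ ha)))
      · exact Finset.mem_coe.2 (Finset.mem_union_right _ (Finset.mem_image.2 ⟨a, List.mem_toFinset.2 ha, r.symm⟩))
    have := Set.ncard_le_ncard hsub
    rw [Set.ncard_coe_finset] at this
    have h1 := Finset.card_union_le l.toFinset (l.toFinset.image (· * z))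
    have h2 := Finset.card_image_le (s := l.toFinset) (f := (· * z))
    have h3 := List.toFinset_card_le l
    omega
  obtain ⟨a, ha, -⟩ := pick [] (by simp)
  obtain ⟨b, hb, hb'⟩ := pick [a] (by simp)
  obtain ⟨c, hc, hc'⟩ := pick [a, b] (by simp)
  obtain ⟨d, hd, hd'⟩ := pick [a, b, c] (by simp)
  have nc : ∀ {x y : G}, x ∈ invs Q z → y ∈ invs Q z → ¬ Near z x y → ¬ Commute x y :=
    fun hx hy hn hcm => hn (h8 _ hx _ hy hcm)
  have nab := nc ha hb (hb' a (by simp))
  have nac := nc ha hc (hc' a (by simp))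
  have nbc := nc hb hc (hc' b (by simp))
  have nad := nc ha hd (hd' a (by simp))
  have nbd := nc hb hd (hd' b (by simp))
  have ncd := nc hc hd (hd' c (by simp))
  set w := a * b * (c * d) with hw
  have hwQ : w ∈ Q := mul_mem (mul_mem ha.1 hb.1) (mul_mem hc.1 hd.1)
  have two : ∀ {x y v : G}, x ∈ Q → y ∈ Q → v ∈ Q → (Commute (x * y) v ↔ (Commute x v ↔ Commute y v)) := by
    intro x y v hx hy hv
    by_cases hy' : Commute y v
    · simp only [hy', iff_true]
      exact ⟨fun hcm => by simpa [mul_assoc] using hcm.mul_left hy'.inv_left, fun hcm => hcm.mul_left hy'⟩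
    · simp only [hy', iff_false]
      exact comm_mul_iff h hx hy hv hy'
  have sq2 : ∀ {x y : G}, x ∈ invs Q z → y ∈ invs Q z → ¬ Commute x y → x * y * (x * y) = z := by
    intro x y hx hy hn
    have e := (comm_or h hy.1 hx.1).resolve_left fun e => hn e.symm
    calc x * y * (x * y) = x * (y * x) * y := by group
      _ = x * x * (y * (z * y)) := by rw [e]; group
      _ = y * y * z := by rw [hx.2.1, one_mul, h.z_comm hy.1, mul_assoc]
      _ = z := by rw [hy.2.1, one_mul]
  have habc : Commute (a * b) c := (two ha.1 hb.1 hc.1).2 (iff_of_false nac nbc)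
  have habd : Commute (a * b) d := (two ha.1 hb.1 hd.1).2 (iff_of_false nad nbd)
  have hw2 : w * w = 1 := by
    rw [hw, (habc.mul_right habd).symm.mul_mul_mul_comm, sq2 ha hb nab, sq2 hc hd ncd, h.z_sq]
  have wcomm : ∀ {v : G}, v ∈ Q →
      (Commute w v ↔ ((Commute a v ↔ Commute b v) ↔ (Commute c v ↔ Commute d v))) := fun hv => by
    rw [two (mul_mem ha.1 hb.1) (mul_mem hc.1 hd.1) hv, two ha.1 hb.1 hv, two hc.1 hd.1 hv]
  have nwa : ¬ Commute w a := by
    rw [wcomm ha.1]
    simp [Commute.refl a, mt Commute.symm nab, mt Commute.symm nac, mt Commute.symm nad]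
  have nwb : ¬ Commute w b := by
    rw [wcomm hb.1]; simp [Commute.refl b, nab, mt Commute.symm nbc, mt Commute.symm nbd]
  have nwc : ¬ Commute w c := by
    rw [wcomm hc.1]; simp [Commute.refl c, nac, nbc, mt Commute.symm ncd]
  have nwd : ¬ Commute w d := by
    rw [wcomm hd.1]; simp [Commute.refl d, nad, nbd, ncd]
  have hwI : w ∈ invs Q z := ⟨hwQ, hw2, fun e => nwa (e ▸ Commute.one_left a),
    fun e => nwa (e ▸ (h.z_comm ha.1 : Commute z a))⟩
  let v : Fin 5 → G := ![a, b, c, d, w]
  have hv : ∀ i, v i ∈ invs Q z := fun i => by fin_cases i <;> assumption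
  have hvv : ∀ i j, i ≠ j → ¬ Commute (v i) (v j) := by
    intro i j hij
    fin_cases i <;> fin_cases j <;> first
      | exact absurd rfl hij
      | assumption
      | exact fun hcm => nab hcm.symm
      | exact fun hcm => nac hcm.symm
      | exact fun hcm => nad hcm.symm
      | exact fun hcm => nbc hcm.symm
      | exact fun hcm => nbd hcm.symm
      | exact fun hcm => ncd hcm.symm
      | exact fun hcm => nwa hcm.symm
      | exact fun hcm => nwb hcm.symm
      | exact fun hcm => nwc hcm.symm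
      | exact fun hcm => nwd hcm.symm
  refine ⟨v, hv, fun i j hn => ?_, fun u hu => ?_⟩
  · by_contra hij
    exact hvv j i (Ne.symm hij) ((comm_of_near h (hv i).1 hn).2 (Commute.refl (v i)))
  · by_contra hne
    push Not at hne
    have nau := nc ha hu (hne 0)
    have nbu := nc hb hu (hne 1)
    have ncu := nc hc hu (hne 2)
    have ndu := nc hd hu (hne 3)
    exact hne 4 (h8 _ hwI _ hu ((wcomm hu.1).2 (iff_of_true (iff_of_false nau nbu) (iff_of_false ncu ndu))))

/-- Coordinates for `E` in `C_G(z)`. -/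
theorem exists_frame (z : G) (hz : orderOf z = 2)
    (E : Subgroup ↥(centralizer ({z} : Set G))) [E.Normal]
    (hE : Cfsg.IsExtraspecial 2 ↥E) (hE32 : Nat.card ↥E = 32)
    (hEminus : ∀ A : Subgroup ↥E, Cfsg.IsElementaryAbelian 2 A → Nat.card ↥A ≠ 8)
    (hCE : centralizer (E : Set ↥(centralizer ({z} : Set G))) ≤ E)
    (q : (↥(centralizer ({z} : Set G)) ⧸ E) ≃* Equiv.Perm (Fin 4)) :
    ∃ (E' : Subgroup G) (e : Fin 4 → G), Frame z E' e ∧ Nat.card (centralizer ({z} : Set G)) = 768 := by
  classical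
  have hcard : Nat.card (centralizer ({z} : Set G)) = 768 := by
    rw [Subgroup.card_eq_card_quotient_mul_card_subgroup E, Nat.card_congr q.toEquiv, hE32,
      Nat.card_perm, Nat.card_fin]
    rfl
  let E' : Subgroup G := E.map (centralizer ({z} : Set G)).subtype
  let eE : ↥E ≃* ↥E' := Subgroup.equivMapOfInjective E (centralizer ({z} : Set G)).subtype (centralizer ({z} : Set G)).subtype_injective
  have hzC : z ∈ (centralizer ({z} : Set G)) := mem_centralizer_singleton_iff.2 rfl
  have hzc : ∀ c ∈ (centralizer ({z} : Set G)), c * z = z * c := fun c hc => mem_centralizer_singleton_iff.1 hc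
  have hzE : (⟨z, hzC⟩ : (centralizer ({z} : Set G))) ∈ E := hCE fun c _ => Subtype.ext (hzc c c.2)
  have hzE' : z ∈ E' := ⟨_, hzE, rfl⟩
  have hle : E' ≤ (centralizer ({z} : Set G)) := Subgroup.map_subtype_le _
  have hx : Extra E' z := by
    obtain ⟨z', hz'⟩ := CfsgLib.ThreeTransp.Extraspecial.exists_extra
      (CfsgLib.Characterizations.HallJankoCount.isExtraspecial_congr eE hE)
    rcases hz'.mem_center_cases hzE' (fun x hx => (hzc x (hle hx)).symm) with r | r
    · exact absurd r (CfsgLib.Involution.Dihedral.ne_one hz)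
    · exact r ▸ hz'
  have hQ : Nat.card E' = 32 := by rw [← Nat.card_congr eE.toEquiv, hE32]
  have h8 : NoEight E' z := noEight_of_hyp hx fun A hA hA8 => by
    refine hEminus (A.map eE.symm.toMonoidHom) ⟨⟨⟨?_⟩⟩, ?_⟩ ?_
    · rintro ⟨_, x, hx, rfl⟩ ⟨_, y, hy, rfl⟩
      refine Subtype.ext ?_
      show eE.symm x * eE.symm y = eE.symm y * eE.symm x
      have hcm : x * y = y * x := congrArg Subtype.val (hA.1.is_comm.comm ⟨x, hx⟩ ⟨y, hy⟩)
      rw [← map_mul, ← map_mul, hcm]
    · rintro _ ⟨x, hx, rfl⟩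
      rw [← map_pow, hA.2 x hx, map_one]
    · rw [Subgroup.card_map_of_injective eE.symm.injective, hA8]
  have hnorm : ∀ c ∈ (centralizer ({z} : Set G)), ∀ x ∈ E', c * x * c⁻¹ ∈ E' := by
    rintro c hc _ ⟨x, hx, rfl⟩
    exact ⟨⟨c, hc⟩ * x * ⟨c, hc⟩⁻¹, Subgroup.Normal.conj_mem inferInstance x hx _, rfl⟩
  have hcent : ∀ c ∈ (centralizer ({z} : Set G)), (∀ x ∈ E', c * x = x * c) → c ∈ E' := fun c hc hfix =>
    ⟨⟨c, hc⟩, hCE fun x hx => Subtype.ext (hfix x ⟨x, hx, rfl⟩).symm, rfl⟩
  obtain ⟨v, hv, hvinj, hvall⟩ := exists_five hx hQ h8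
  -- the action on the five pairs
  have hcj : ∀ c : (centralizer ({z} : Set G)), ∀ i, ∃ j, Near z (v j) ((c : G) * v i * (c : G)⁻¹) := fun c i => by
    refine hvall _ ⟨hnorm c c.2 _ (hv i).1, by rw [conj_mul, (hv i).2.1]; group,
      fun e => (hv i).2.2.1 (conj_eq_one_iff.1 e), fun e => (hv i).2.2.2 ?_⟩
    have e2 : (c : G) * z * (c : G)⁻¹ = z := mul_inv_eq_iff_eq_mul.2 (hzc c c.2)
    exact mul_left_cancel (mul_right_cancel (e.trans e2.symm))
  choose j hj using hcj
  have huniq : ∀ {a b : Fin 5} {x : G}, Near z (v a) x → Near z (v b) x → a = b := fun h1 h2 =>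
    hvinj _ _ (near_tr hx h1 (near_sy hx h2))
  have hconj : ∀ (c : (centralizer ({z} : Set G))) {x y : G}, Near z x y → Near z ((c : G) * x * (c : G)⁻¹) ((c : G) * y * (c : G)⁻¹) := by
    intro c x y hn
    rcases hn with rfl | rfl
    · exact Or.inl rfl
    · exact Or.inr (by rw [← conj_mul, mul_inv_eq_iff_eq_mul.2 (hzc c c.2)])
  have hjone : ∀ i, j 1 i = i := fun i => huniq (hj 1 i) (by simp [Near])
  have hjmul : ∀ c d : (centralizer ({z} : Set G)), ∀ i, j (c * d) i = j c (j d i) := fun c d i => by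
    refine huniq (hj (c * d) i) (near_tr hx (hj c _) ?_)
    have := hconj c (hj d i)
    rw [show ((c * d : (centralizer ({z} : Set G))) : G) * v i * ((c * d : (centralizer ({z} : Set G))) : G)⁻¹ = (c : G) * ((d : G) * v i * (d : G)⁻¹) * (c : G)⁻¹ by
      simp [mul_assoc]]
    exact this
  let φ : (centralizer ({z} : Set G)) →* Equiv.Perm (Fin 5) :=
    { toFun := fun c =>
        { toFun := j c
          invFun := j c⁻¹
          left_inv := fun i => by rw [← hjmul, inv_mul_cancel, hjone]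
          right_inv := fun i => by rw [← hjmul, mul_inv_cancel, hjone] }
      map_one' := Equiv.ext hjone
      map_mul' := fun c d => Equiv.ext (hjmul c d) }
  have hφE : E ≤ φ.ker := fun x hxE => by
    refine MonoidHom.mem_ker.2 (Equiv.ext fun i => huniq (hj x i) ?_)
    exact hx.conj_cases (hv i).1 ⟨x, hxE, rfl⟩
  -- words in the involutions
  have frameOf : ∀ f : Fin 5, ∀ g : Fin 4, v f * v (f.succAbove g) ∈ E' := fun f g =>
    mul_mem (hv _).1 (hv _).1
  have ncv : ∀ {a b : Fin 5}, a ≠ b → ¬ Commute (v a) (v b) := fun hab hcm =>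
    hab (hvinj _ _ (h8 _ (hv _) _ (hv _) hcm))
  have hsq : ∀ f : Fin 5, ∀ g : Fin 4, v f * v (f.succAbove g) * (v f * v (f.succAbove g)) = z := by
    intro f g
    have hn : v f * v (f.succAbove g) ≠ v (f.succAbove g) * v f := ncv (Fin.succAbove_ne f g).symm
    have e := (comm_or hx (hv (f.succAbove g)).1 (hv f).1).resolve_left (Ne.symm hn)
    set a := v f with ha
    set b := v (f.succAbove g) with hb
    calc a * b * (a * b) = a * (b * a) * b := by group
      _ = a * a * (b * (z * b)) := by rw [e]; group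
      _ = b * b * z := by rw [(hv f).2.1, one_mul, hx.z_comm (hv (f.succAbove g)).1, mul_assoc]
      _ = z := by rw [(hv (f.succAbove g)).2.1, one_mul]
  have hanti : ∀ f : Fin 5, ∀ g g' : Fin 4, g ≠ g' → v f * v (f.succAbove g') * (v f * v (f.succAbove g)) =
      v f * v (f.succAbove g) * (v f * v (f.succAbove g')) * z := by
    intro f g g' hgg
    refine (comm_or hx (frameOf f g') (frameOf f g)).resolve_left fun e => ?_
    have n1 := ncv (Fin.succAbove_ne f g).symm
    have n2 := ncv (Fin.succAbove_ne f g').symm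
    have n3 := ncv (fun e : f.succAbove g = f.succAbove g' => hgg (Fin.succAbove_right_injective e))
    have hA : ¬ Commute (v f * v (f.succAbove g)) (v f) := fun hcm =>
      (comm_mul_iff hx (hv _).1 (hv _).1 (hv _).1 fun hh => n1 hh.symm).1 hcm (Commute.refl _)
    have hB : Commute (v f * v (f.succAbove g)) (v (f.succAbove g')) :=
      (comm_mul_iff hx (hv _).1 (hv _).1 (hv _).1 n3).2 n2
    have hc : Commute (v f * v (f.succAbove g)) (v f * v (f.succAbove g')) := e.symm
    refine hA ?_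
    simpa [mul_assoc] using hc.mul_right hB.inv_right
  -- the kernel is `E`
  have hker : φ.ker = E := by
    refine le_antisymm (fun c hc => ?_) hφE
    let K : Subgroup G := φ.ker.map (centralizer ({z} : Set G)).subtype
    have hKC : K ≤ (centralizer ({z} : Set G)) := Subgroup.map_subtype_le _
    have hEK : E' ≤ K := Subgroup.map_mono hφE
    let zK : ↥K := ⟨z, hEK hzE'⟩
    let EK : Subgroup ↥K := E'.subgroupOf K
    let eK : ↥EK ≃* ↥E' := Subgroup.subgroupOfEquivOfLe hEK
    have hxK : Extra EK zK := by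
      obtain ⟨z', hz'⟩ := CfsgLib.ThreeTransp.Extraspecial.exists_extra
        (CfsgLib.Characterizations.HallJankoCount.isExtraspecial_congr eK.symm hx.ext)
      rcases hz'.mem_center_cases (show zK ∈ EK from hzE')
        (fun x _ => Subtype.ext (hzc x (hKC x.2)).symm) with r | r
      · exact absurd (congrArg Subtype.val r) (CfsgLib.Involution.Dihedral.ne_one hz)
      · exact r ▸ hz'
    have hcz : ∀ x : ↥K, x ∈ centralizer ({zK} : Set ↥K) := fun x =>
      mem_centralizer_singleton_iff.2 (Subtype.ext (hzc x (hKC x.2)))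
    let e0 : Fin 4 → ↥K := fun g => ⟨v 0 * v ((0 : Fin 5).succAbove g), hEK (frameOf 0 g)⟩
    have F : Frame zK EK e0 :=
      { extra := hxK
        card_E := by rw [Nat.card_congr eK.toEquiv, hQ]
        mem := fun g => frameOf 0 g
        sq := fun g => Subtype.ext (hsq 0 g)
        anti := fun g g' hgg => Subtype.ext (hanti 0 g g' hgg)
        norm := fun h _ x hxE => hnorm h (hKC h.2) x hxE
        perm := fun h _ g => ⟨g, by
          obtain ⟨h', hh', hhe⟩ := h.2
          have hfix : ∀ i, Near z (v i) ((h : G) * v i * (h : G)⁻¹) := fun i => by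
            have h1 : j h' i = i := congrArg (fun p : Equiv.Perm (Fin 5) => p i) (MonoidHom.mem_ker.1 hh')
            have h2 := hj h' i
            rw [h1] at h2
            exact hhe ▸ h2
          have hn := near_mul' hx (hv ((0 : Fin 5).succAbove g)).1 (hfix 0) (hfix ((0 : Fin 5).succAbove g))
          rw [conj_mul] at hn
          rcases hn with r | r
          · exact Or.inl (Subtype.ext r)
          · exact Or.inr (Subtype.ext r)⟩
        cent := fun h _ hfix => hcent h (hKC h.2) fun x hxE =>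
          congrArg Subtype.val (hfix ⟨x, hEK hxE⟩ hxE) }
    have hcK : (c : G) ∈ K := ⟨c, hc, rfl⟩
    have hsig : sig zK e0 ⟨(c : G), hcK⟩ = 1 := by
      refine Equiv.ext fun g => F.near_unique (F.near_sig (hcz _) g) ?_
      have hfix : ∀ i, Near z (v i) ((c : G) * v i * (c : G)⁻¹) := fun i => by
        have h1 : j c i = i := congrArg (fun p : Equiv.Perm (Fin 5) => p i) (MonoidHom.mem_ker.1 hc)
        have h2 := hj c i
        rwa [h1] at h2
      have hn := near_mul' hx (hv ((0 : Fin 5).succAbove g)).1 (hfix 0) (hfix ((0 : Fin 5).succAbove g))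
      rw [conj_mul] at hn
      rw [Equiv.Perm.one_apply]
      rcases hn with r | r
      · exact Or.inl (Subtype.ext r)
      · exact Or.inr (Subtype.ext r)
    obtain ⟨c', hc', hce⟩ := F.mem_E_of_sig (hcz _) hsig
    exact (Subtype.ext hce : c' = c) ▸ hc'
  let ψ₀ : ((centralizer ({z} : Set G)) ⧸ E) →* Equiv.Perm (Fin 5) := QuotientGroup.lift E φ hφE
  have hψ₀ : Function.Injective ψ₀ := by
    rw [← MonoidHom.ker_eq_bot_iff, eq_bot_iff]
    intro x hxk
    induction x using QuotientGroup.induction_on with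
    | H c => exact Subgroup.mem_bot.2 ((QuotientGroup.eq_one_iff c).2 (hker ▸ hxk))
  obtain ⟨f, hf⟩ := exists_fixed_point (ψ₀.comp q.symm.toMonoidHom) (hψ₀.comp q.symm.injective)
  refine ⟨E', fun g => v f * v (f.succAbove g), ?_, hcard⟩
  exact
    { extra := hx
      card_E := hQ
      mem := frameOf f
      sq := hsq f
      anti := hanti f
      norm := hnorm
      perm := fun h hh g => by
        have hff : j ⟨h, hh⟩ f = f := by
          have := hf (q (QuotientGroup.mk ⟨h, hh⟩))
          change ψ₀ (q.symm (q (QuotientGroup.mk ⟨h, hh⟩))) f = f at this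
          rw [MulEquiv.symm_apply_apply] at this
          exact this
        have hne : j ⟨h, hh⟩ (f.succAbove g) ≠ f := fun e => Fin.succAbove_ne f g
          ((φ ⟨h, hh⟩).injective (e.trans hff.symm))
        obtain ⟨g', hg'⟩ := Fin.exists_succAbove_eq hne
        have h1 := hj ⟨h, hh⟩ f
        rw [hff] at h1
        have h2 := hj ⟨h, hh⟩ (f.succAbove g)
        rw [← hg'] at h2
        have hn := near_mul' hx (hv (f.succAbove g')).1 h1 h2
        rw [conj_mul] at hn
        exact ⟨g', hn⟩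
      cent := hcent }

end CfsgLib.Recognition.PSLThreeFourAut
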