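import Cfsg.Agent.Lib.Recognition.PSLThreeFourAut.Index

/-!
# The subgroups of index two and four
-/

set_option autoImplicit false
set_option maxRecDepth 100000
set_option linter.unusedSectionVars false

namespace CfsgLib.Recognition.PSLThreeFourAut

open Subgroup

variable {G : Type*} [Group G] [Finite G]

theorem perm3_two_sub : ∀ a b : Equiv.Perm (Fin 3), a * a = 1 → a ≠ 1 → b ≠ 1 → b ≠ a →
    (b * b * b = 1 ∨ b * a * (b * a) * (b * a) = 1 ∧ b * a ≠ 1) := by
  decide +kernel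

theorem pairing_four : ∀ p : Equiv.Perm (Fin 4), pairing p * pairing p = 1 → p * p * (p * p) = 1 := by
  decide +kernel

theorem pairing_dt : ∀ p : Equiv.Perm (Fin 4), p = 1 ∨ IsDT p → pairing p = 1 := by decide +kernel

theorem sign_three : ∀ a : Equiv.Perm (Fin 3), a * a * a = 1 → Equiv.Perm.sign a = 1 := by decide +kernel

theorem sign_invol : ∀ a : Equiv.Perm (Fin 3), a * a = 1 → a ≠ 1 → Equiv.Perm.sign a = -1 := by decide +kernel

theorem eq_one_of_three {Y : Type*} [Group Y] {a : Y} (h3 : a * a * a = 1) {k : ℕ} (h2 : a ^ 2 ^ k = 1) : a = 1 := by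
  have h3' : a ^ 3 = 1 := by rw [pow_succ, pow_two, h3]
  have hco : Nat.Coprime (2 ^ k) 3 := Nat.Coprime.pow_left _ (by norm_num)
  have := pow_gcd_eq_one.2 ⟨h2, h3'⟩
  rwa [hco.gcd_eq_one, pow_one] at this

namespace Ctx

variable {z : G} {E : Subgroup G} {e : Fin 4 → G} {n r x : G}

/-- A Sylow subgroup. -/
def Syl (K : Ctx z E e) (x : G) (hx : x ∈ centralizer ({z} : Set G)) (hx2 : rho z e x * rho z e x = 1) : Subgroup G where
  carrier := {h | h ∈ centralizer ({z} : Set G) ∧ (rho z e h = 1 ∨ rho z e h = rho z e x)}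
  one_mem' := ⟨one_mem _, Or.inl K.rho_one⟩
  mul_mem' := fun {a b} ha hb => ⟨mul_mem ha.1 hb.1, by
    rw [rho, K.frame.sig_mul ha.1 hb.1, map_mul]
    rcases ha.2 with s | s <;> rcases hb.2 with t | t <;> rw [rho] at s t <;> rw [s, t]
    · exact Or.inl (one_mul 1)
    · exact Or.inr (one_mul _)
    · exact Or.inr (mul_one _)
    · exact Or.inl hx2⟩
  inv_mem' := fun {a} ha => ⟨inv_mem ha.1, by
    rw [rho, K.frame.sig_inv ha.1, map_inv]
    rcases ha.2 with s | s <;> rw [rho] at s <;> rw [s]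
    · exact Or.inl inv_one
    · exact Or.inr (inv_eq_of_mul_eq_one_right hx2)⟩

theorem rho_mul_C (K : Ctx z E e) {a b : G} (ha : a ∈ centralizer ({z} : Set G))
    (hb : b ∈ centralizer ({z} : Set G)) : rho z e (a * b) = rho z e a * rho z e b := by
  rw [rho, rho, rho, K.frame.sig_mul ha hb, map_mul]

theorem rho_E (K : Ctx z E e) {q : G} (hq : q ∈ E) : rho z e q = 1 := by
  rw [rho, K.frame.sig_mem_E hq, map_one]

theorem cent_E (K : Ctx z E e) {w : G} (hw : w ∈ centralizer ({z} : Set G))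
    (hc : ∀ q ∈ E, w * q = q * w) : w = 1 ∨ w = z :=
  K.frame.mem_E_of_gens hw fun i => mul_inv_eq_iff_eq_mul.2 (hc _ (K.frame.mem i))

/-- The element `p`. -/
def p0 (_ : Ctx z E e) : G := el z e 7

theorem p0_mem (K : Ctx z E e) : K.p0 ∈ E := K.frame.el_mem 7

theorem p0_sq (K : Ctx z E e) : K.p0 * K.p0 = 1 := by
  unfold p0
  rw [K.frame.el_mul (by norm_num) (by norm_num), show Model.mul 7 7 = 0 by decide +kernel, Frame.el_zero]

theorem p0_moves (K : Ctx z E e) : ¬ Commute K.p0 (t0 z e) := fun hc => by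
  have h := hc.eq
  unfold p0 t0 at h
  rw [K.frame.el_mul (by norm_num) (by norm_num), K.frame.el_mul (by norm_num) (by norm_num)] at h
  have := K.frame.el_inj (Model.mul_lt _ (by norm_num) _ (by norm_num)) (Model.mul_lt _ (by norm_num) _ (by norm_num)) h
  revert this
  decide +kernel

theorem C_dec (K : Ctx z E e) {h : G} (hh : h ∈ centralizer ({z} : Set G)) :
    h ∈ CC z e ∨ ∃ c ∈ CC z e, h = K.p0 * c := by
  rcases K.commute_t0_or hh with q | q
  · exact Or.inl (K.mem_CC hh q)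
  refine Or.inr ⟨K.p0⁻¹ * h, K.mem_CC (mul_mem (inv_mem (K.mem_C K.p0_mem)) hh) ?_, (mul_inv_cancel_left _ _).symm⟩
  have e2 := (K.commute_t0_or (K.mem_C K.p0_mem)).resolve_left K.p0_moves
  refine mul_inv_eq_iff_eq_mul.1 ?_
  rw [show K.p0⁻¹ * h * t0 z e * (K.p0⁻¹ * h)⁻¹ = K.p0⁻¹ * (h * t0 z e * h⁻¹) * K.p0 by group, q, ← e2]
  group

namespace NG

variable {K : Ctx z E e}

/-- The chosen Sylow subgroup. -/
def T (h : NG K n r x) : Subgroup G := K.Syl x h.x_mem.1 h.rho_x.1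

theorem mem_T (h : NG K n r x) {a : G} :
    a ∈ h.T ↔ a ∈ centralizer ({z} : Set G) ∧ (rho z e a = 1 ∨ rho z e a = rho z e x) := Iff.rfl

theorem E_le_T (h : NG K n r x) {q : G} (hq : q ∈ E) : q ∈ h.T := ⟨K.mem_C hq, Or.inl (K.rho_E hq)⟩

theorem T_pgroup (h : NG K n r x) : IsPGroup 2 h.T :=
  K.isPGroup_of_sig h.T (fun _ ha => ha.1) fun a ha => pairing_four _ (by
    rcases ha.2 with s | s <;> rw [rho] at s <;> rw [s]
    · exact one_mul 1
    · exact h.rho_x.1)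

theorem rho_hom (h : NG K n r x) : ∃ f : ↥(centralizer ({z} : Set G)) →* Equiv.Perm (Fin 3), ∀ a, f a = rho z e (a : G) :=
  ⟨MonoidHom.mk' (fun a => rho z e (a : G)) fun a b => K.rho_mul_C a.2 b.2, fun _ => rfl⟩

theorem T_maximal (h : NG K n r x) {S : Subgroup G} (hS : IsPGroup 2 S) (hT : h.T ≤ S) : S = h.T := by
  classical
  haveI : Fact (Nat.Prime 2) := ⟨Nat.prime_two⟩
  refine le_antisymm ?_ hT
  haveI : Nontrivial S := ⟨⟨z, hT (h.E_le_T K.frame.extra.z_mem)⟩, 1, fun e1 => K.frame.extra.z_ne (congrArg Subtype.val e1)⟩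
  have hnt := hS.center_nontrivial
  obtain ⟨⟨w, hw⟩, hw1⟩ := exists_ne (1 : center S)
  have hwc : ∀ a ∈ S, a * (w : G) = (w : G) * a := fun a ha => congrArg Subtype.val (mem_center_iff.1 hw ⟨a, ha⟩)
  have hwC : (w : G) ∈ centralizer ({z} : Set G) :=
    mem_centralizer_singleton_iff.2 (hwc z (hT (h.E_le_T K.frame.extra.z_mem))).symm
  have hwz : (w : G) = z := (K.cent_E hwC fun q hq => (hwc q (hT (h.E_le_T hq))).symm).resolve_left
    fun e1 => hw1 (Subtype.ext (Subtype.ext e1))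
  obtain ⟨f, hf⟩ := h.rho_hom
  intro a ha
  have haC : a ∈ centralizer ({z} : Set G) := mem_centralizer_singleton_iff.2 (hwz ▸ hwc a ha)
  refine ⟨haC, ?_⟩
  by_contra hne
  push Not at hne
  have hpow : ∀ b ∈ S, b ∈ centralizer ({z} : Set G) → rho z e b * rho z e b * rho z e b = 1 → rho z e b = 1 := by
    intro b hb hbC h3
    obtain ⟨k, hk⟩ := hS ⟨b, hb⟩
    refine eq_one_of_three h3 (k := k) ?_
    rw [← hf ⟨b, hbC⟩, ← map_pow, show (⟨b, hbC⟩ : ↥(centralizer ({z} : Set G))) ^ 2 ^ k = 1 from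
      Subtype.ext (by simpa using congrArg Subtype.val hk), map_one]
  have hxC := h.x_mem.1
  rcases perm3_two_sub _ _ h.rho_x.1 h.rho_x.2 hne.1 hne.2 with q | ⟨q1, q2⟩
  · exact hne.1 (hpow a ha haC q)
  · rw [← K.rho_mul_C haC hxC] at q1 q2
    exact q2 (hpow _ (mul_mem ha (hT ⟨hxC, Or.inr rfl⟩)) (mul_mem haC hxC) q1)

/-- `T` is a Sylow subgroup. -/
noncomputable def sylow (h : NG K n r x) : Sylow 2 G :=
  ⟨h.T, h.T_pgroup, fun hQ hle => h.T_maximal hQ hle⟩

theorem sylow_coe (h : NG K n r x) : ((h.sylow : Sylow 2 G) : Subgroup G) = h.T := rfl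

open Classical in
/-- Commuting with `t₀`. -/
noncomputable def chi1 (h : NG K n r x) : ↥((h.sylow : Sylow 2 G) : Subgroup G) →* ℤˣ :=
  MonoidHom.mk' (fun a => if Commute (a : G) (t0 z e) then 1 else -1) fun a b => by
    have ha : (a : G) ∈ centralizer ({z} : Set G) := a.2.1
    have hb : (b : G) ∈ centralizer ({z} : Set G) := b.2.1
    have key : ∀ g ∈ centralizer ({z} : Set G), ¬ Commute g (t0 z e) → g * t0 z e * g⁻¹ = t0 z e * z :=
      fun g hg hn => (K.commute_t0_or hg).resolve_left hn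
    have fix : ∀ g : G, Commute g (t0 z e) → g * t0 z e * g⁻¹ = t0 z e := fun g hg => by
      rw [hg.eq, mul_inv_cancel_right]
    have e0 : ((a * b : ↥((h.sylow : Sylow 2 G) : Subgroup G)) : G) = (a : G) * b := rfl
    have e1 : (a : G) * b * t0 z e * ((a : G) * b)⁻¹ = a * (b * t0 z e * (b : G)⁻¹) * (a : G)⁻¹ := by group
    have back : ∀ g : G, g * t0 z e * g⁻¹ = t0 z e → Commute g (t0 z e) := fun g hg =>
      mul_inv_eq_iff_eq_mul.1 hg
    have hne : t0 z e * z ≠ t0 z e := fun q => K.frame.extra.z_ne (mul_eq_left.1 q)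
    have hz : (a : G) * z * (a : G)⁻¹ = z := K.frame.conj_z ha
    rw [e0]
    by_cases ca : Commute (a : G) (t0 z e) <;> by_cases cb : Commute (b : G) (t0 z e)
    · simp [ca, cb, ca.mul_left cb]
    · have : ¬ Commute ((a : G) * b) (t0 z e) := fun c => hne (by
        have q := fix _ c
        rw [e1, key _ hb cb, ← conj_mul, hz, fix _ ca] at q
        exact q)
      simp [ca, cb, this]
    · have : ¬ Commute ((a : G) * b) (t0 z e) := fun c => hne (by
        have q := fix _ c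
        rw [e1, fix _ cb, key _ ha ca] at q
        exact q)
      simp [ca, cb, this]
    · have : Commute ((a : G) * b) (t0 z e) := back _ (by
        rw [e1, key _ hb cb, ← conj_mul, hz, key _ ha ca, mul_assoc, K.sq_z, mul_one])
      simp [ca, cb, this]

/-- The sign. -/
noncomputable def chi2 (h : NG K n r x) : ↥((h.sylow : Sylow 2 G) : Subgroup G) →* ℤˣ :=
  MonoidHom.mk' (fun a => Equiv.Perm.sign (rho z e (a : G))) fun a b => by
    rw [← map_mul, ← K.rho_mul_C a.2.1 b.2.1]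
    rfl

/-- The first homomorphism. -/
noncomputable def psi1 (h : NG K n r x) : G →* ℤˣ := MonoidHom.transfer h.chi1

/-- The second homomorphism. -/
noncomputable def psi2 (h : NG K n r x) : G →* ℤˣ := MonoidHom.transfer h.chi2

theorem psi1_p0 (h : NG K n r x) : h.psi1 K.p0 = -1 := by
  classical
  refine transfer_value h.sylow h.chi1 K.p0 K.p0_sq _ fun g hg => ?_
  show (if Commute (g⁻¹ * K.p0 * g) (t0 z e) then (1 : ℤˣ) else -1) = -1
  refine if_neg fun hc => ?_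
  have hN : NoPair z (g⁻¹ * K.p0 * g) := by
    have := noPair_conj (g := g⁻¹) (K.ptype_noPair K.p0_mem K.p0_sq K.p0_moves)
    rwa [inv_inv] at this
  exact K.t0_ne_z (hN z (t0 z e) (IsConj.refl z) (isConj_iff.2 ⟨n, h.cyc.1⟩)
    (K.comm_z hg.1).symm hc.symm K.z_t0).symm

/-- The conjugates of `x` in `C(z)` induce transpositions and fix `t₀`. -/
theorem x_conj_C (h : NG K n r x) {y : G} (hy : y ∈ centralizer ({z} : Set G)) (hxy : IsConj x y) :
    IsTR (sig z e y) ∧ Commute y (t0 z e) := by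
  obtain ⟨g, hg⟩ := isConj_iff.1 hxy
  have h2 : y * y = 1 := by rw [← hg, conj_mul, h.x2, mul_one, mul_inv_cancel]
  have hback : g⁻¹ * y * g⁻¹⁻¹ = x := by rw [← hg]; group
  have hnz : y ≠ z := fun e1 => h.x_not_conj_z (e1 ▸ hxy).symm
  have ht : IsConj z (t0 z e) := isConj_iff.2 ⟨n, h.cyc.1⟩
  have hn1 : y ≠ 1 := fun e1 => by
    rw [← hg, conj_eq_one_iff] at e1
    exact h.rho_x.2 (by rw [e1, K.rho_one])
  rcases K.invol_cases hy h2 hn1 hnz with (q | q) | ⟨hE, hc⟩ | q | q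
  · exact absurd ((hxy.trans (q ▸ ht.symm : IsConj y z)).symm) h.x_not_conj_z
  · exact absurd ((hxy.trans (q ▸ (ht.trans K.t0z_conj).symm : IsConj y z)).symm) h.x_not_conj_z
  · exact absurd (hback ▸ noPair_conj (g := g⁻¹) (K.ptype_noPair hE h2 hc)) h.x_pair
  · exact absurd hback (h.dt_not_conj_x hy q h2)
  · refine ⟨q, ?_⟩
    by_contra hc
    exact h.tr_not_conj_x hy q h2 hc hback

theorem conj_mem_x (h : NG K n r x) {g : G} (hg : g⁻¹ * x * g ∈ ((h.sylow : Sylow 2 G) : Subgroup G)) :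
    IsTR (sig z e (g⁻¹ * x * g)) ∧ Commute (g⁻¹ * x * g) (t0 z e) :=
  h.x_conj_C hg.1 (isConj_iff.2 ⟨g⁻¹, by group⟩)

theorem psi1_x (h : NG K n r x) : h.psi1 x = 1 := by
  classical
  refine transfer_value h.sylow h.chi1 x h.x2 _ fun g hg => ?_
  exact if_pos (h.conj_mem_x hg).2

theorem psi2_x (h : NG K n r x) : h.psi2 x = -1 := by
  refine transfer_value h.sylow h.chi2 x h.x2 _ fun g hg => ?_
  show Equiv.Perm.sign (pairing (sig z e (g⁻¹ * x * g))) = -1
  rw [pairing_sign]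
  exact (h.conj_mem_x hg).1.2

theorem hom_U (h : NG K n r x) (f : G →* ℤˣ) {u : G} (hu : u ∈ K.U) : f u = 1 := by
  have hconj : ∀ g a : G, f (g * a * g⁻¹) = f a := fun g a => by
    rw [map_mul, map_mul, map_inv, mul_comm (f g), mul_inv_cancel_right]
  have ht : f (t0 z e) = f z := by rw [← h.cyc.1, hconj]
  have hz : f z = 1 := by
    have h2 : f (t0 z e * z) = f (t0 z e) := by rw [← h.cyc.2, hconj]
    rwa [map_mul, mul_eq_left] at h2
  have hZ : ∀ c ∈ K.Z0, f c = 1 := fun c hc => by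
    rcases (K.mem_Z0).1 hc with q | q | q | q <;> rw [q]
    · exact map_one f
    · exact hz
    · rw [ht, hz]
    · rw [map_mul, ht, hz, one_mul]
  have hfix : ∀ a ∈ fixU K (n * r), f a = 1 := fun a ha => by
    have hb := h.r_fix_conj ha
    have hc := h.r_fix_conj hb
    have haA := h.fix_le_A ha
    have hbA := h.fix_le_A hb
    have hcA := h.fix_le_A hc
    set w := a * (r * a * r⁻¹) * (r * (r * a * r⁻¹) * r⁻¹) with hw
    have hwfix : w ∈ fixU K (n * r) := mul_mem (mul_mem ha hb) hc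
    have hrot : r * w * r⁻¹ = w := by
      have e1 : r * (r * (r * a * r⁻¹) * r⁻¹) * r⁻¹ = a := by
        rw [show r * (r * (r * a * r⁻¹) * r⁻¹) * r⁻¹ = (r * r * r) * a * (r * r * r)⁻¹ by group, h.r3]
        group
      rw [hw, show r * (a * (r * a * r⁻¹) * (r * (r * a * r⁻¹) * r⁻¹)) * r⁻¹ = (r * a * r⁻¹) *
        (r * (r * a * r⁻¹) * r⁻¹) * (r * (r * (r * a * r⁻¹) * r⁻¹) * r⁻¹) by group, e1,
        mul_assoc a, (h.A_comm haA (mul_mem hbA hcA)).eq]
    have hw1 : w = 1 := h.fix_inf_Z0 hwfix (h.r_fixed hwfix.1 (by rw [hrot]; exact K.cong_refl w))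
    have := congrArg f hw1
    rw [hw, map_mul, map_mul, hconj, hconj, hconj, map_one, Int.units_mul_self, one_mul] at this
    exact this
  have hA : ∀ a ∈ A K n r, f a = 1 := by
    rintro _ ⟨c, a, hc, ha, rfl⟩
    rw [map_mul, hZ c hc, hfix a ha, one_mul]
  obtain ⟨a, b, ha, hb, rfl⟩ := h.dec_AB hu
  rw [map_mul, hA a ha, one_mul, ← hconj x b]
  exact hA _ (h.x_span' hb)

theorem hom_CC (h : NG K n r x) (f : G →* ℤˣ) {y : G} (hy : y ∈ CC z e) :
    f y = if Equiv.Perm.sign (rho z e y) = 1 then 1 else f x := by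
  have hr : f r = 1 := units_odd f h.r3
  have sr : Equiv.Perm.sign (rho z e r) = 1 := sign_three _ h.rho_r.1
  have sx : Equiv.Perm.sign (rho z e x) = -1 := sign_invol _ h.rho_x.1 h.rho_x.2
  obtain ⟨v, hv, q⟩ := h.CC_dec hy
  have hv1 : rho z e v = 1 := hv.2
  have hrm := h.r_mem
  have hxm := h.x_mem
  rcases q with rfl | rfl | rfl | rfl | rfl | rfl <;>
    simp [K.rho_mul, hv.1, hrm, hxm, mul_mem hrm hrm, mul_mem hxm hrm, mul_mem hxm (mul_mem hrm hrm),
      hv1, h.hom_U f hv, hr, sr, sx, map_mul]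

theorem psi1_CC (h : NG K n r x) {y : G} (hy : y ∈ CC z e) : h.psi1 y = 1 := by
  rw [h.hom_CC h.psi1 hy, h.psi1_x, ite_self]

theorem psi2_CC (h : NG K n r x) {y : G} (hy : y ∈ CC z e) : h.psi2 y = Equiv.Perm.sign (rho z e y) := by
  rw [h.hom_CC h.psi2 hy, h.psi2_x]
  rcases Int.units_eq_one_or (Equiv.Perm.sign (rho z e y)) with q | q <;> rw [q] <;> decide

/-- The subgroup of index two. -/
noncomputable def G1 (h : NG K n r x) : Subgroup G := h.psi1.ker

/-- The subgroup of index four. -/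
noncomputable def G2 (h : NG K n r x) : Subgroup G := h.psi1.ker ⊓ h.psi2.ker

theorem G2_normal (h : NG K n r x) : h.G2.Normal := by unfold G2; infer_instance

theorem mem_G1 (h : NG K n r x) {g : G} : g ∈ h.G1 ↔ h.psi1 g = 1 := MonoidHom.mem_ker

theorem mem_G2 (h : NG K n r x) {g : G} : g ∈ h.G2 ↔ h.psi1 g = 1 ∧ h.psi2 g = 1 := Iff.rfl

theorem G2_le_G1 (h : NG K n r x) : h.G2 ≤ h.G1 := inf_le_left

theorem G1_inf_C (h : NG K n r x) {g : G} (hg : g ∈ centralizer ({z} : Set G)) : g ∈ h.G1 ↔ g ∈ CC z e := by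
  rw [h.mem_G1]
  rcases K.C_dec hg with q | ⟨c, hc, rfl⟩
  · exact iff_of_true (h.psi1_CC q) q
  · refine iff_of_false (by rw [map_mul, h.psi1_p0, h.psi1_CC hc]; decide) fun hm => K.p0_moves ?_
    have := mul_mem hm (inv_mem hc)
    rw [mul_inv_cancel_right] at this
    exact K.CC_t0 this

theorem G2_inf_C (h : NG K n r x) {g : G} (hg : g ∈ centralizer ({z} : Set G)) :
    g ∈ h.G2 ↔ g ∈ CC z e ∧ Equiv.Perm.sign (rho z e g) = 1 := by
  constructor
  · intro hm
    have hCC := (h.G1_inf_C hg).1 (h.G2_le_G1 hm)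
    exact ⟨hCC, by rw [← h.psi2_CC hCC]; exact (h.mem_G2.1 hm).2⟩
  · rintro ⟨hCC, hs⟩
    exact h.mem_G2.2 ⟨h.psi1_CC hCC, by rw [h.psi2_CC hCC, hs]⟩

theorem U_le_G2 (h : NG K n r x) {u : G} (hu : u ∈ K.U) : u ∈ h.G2 :=
  h.mem_G2.2 ⟨h.hom_U _ hu, h.hom_U _ hu⟩

theorem r_mem_G2 (h : NG K n r x) : r ∈ h.G2 := h.mem_G2.2 ⟨units_odd _ h.r3, units_odd _ h.r3⟩

theorem n_mem_G2 (h : NG K n r x) : n ∈ h.G2 := h.mem_G2.2 ⟨units_odd _ h.n3, units_odd _ h.n3⟩

theorem x_mem_G1 (h : NG K n r x) : x ∈ h.G1 := h.mem_G1.2 h.psi1_x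

theorem x_not_mem_G2 (h : NG K n r x) : x ∉ h.G2 := fun hm => by
  have := (h.mem_G2.1 hm).2
  rw [h.psi2_x] at this
  exact absurd this (by decide)

/-- `G = G₂ C(z)`. -/
theorem exists_C (h : NG K n r x) (g : G) : ∃ c ∈ centralizer ({z} : Set G), g * c⁻¹ ∈ h.G2 := by
  have hp := K.mem_C K.p0_mem
  have hx := h.x_mem.1
  have hpp := h.psi1_p0
  have hxx := h.psi1_x
  have hx2 := h.psi2_x
  rcases Int.units_eq_one_or (h.psi1 g) with a | a <;> rcases Int.units_eq_one_or (h.psi2 g) with b | b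
  · exact ⟨1, one_mem _, h.mem_G2.2 (by simp [a, b])⟩
  · exact ⟨x, hx, h.mem_G2.2 (by simp [a, b, hxx, hx2])⟩
  · rcases Int.units_eq_one_or (h.psi2 K.p0) with c | c
    · exact ⟨K.p0, hp, h.mem_G2.2 (by simp [a, b, hpp, c])⟩
    · exact ⟨K.p0 * x, mul_mem hp hx, h.mem_G2.2 (by simp [a, b, hpp, c, hxx, hx2])⟩
  · rcases Int.units_eq_one_or (h.psi2 K.p0) with c | c
    · exact ⟨K.p0 * x, mul_mem hp hx, h.mem_G2.2 (by simp [a, b, hpp, c, hxx, hx2])⟩
    · exact ⟨K.p0, hp, h.mem_G2.2 (by simp [a, b, hpp, c])⟩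

theorem conj_in_G2 (h : NG K n r x) {u : G} (hu : IsConj z u) : ∃ g ∈ h.G2, g * z * g⁻¹ = u := by
  obtain ⟨g, rfl⟩ := isConj_iff.1 hu
  obtain ⟨c, hc, hm⟩ := h.exists_C g
  refine ⟨g * c⁻¹, hm, ?_⟩
  have hz := K.frame.conj_z (inv_mem hc)
  rw [show g * c⁻¹ * z * (g * c⁻¹)⁻¹ = g * (c⁻¹ * z * c⁻¹⁻¹) * g⁻¹ by group, hz]

theorem card_G1 (h : NG K n r x) : Nat.card G = 2 * Nat.card h.G1 := by
  have hs : Function.Surjective h.psi1 := fun c => by
    rcases Int.units_eq_one_or c with q | q <;> rw [q]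
    · exact ⟨1, map_one _⟩
    · exact ⟨_, h.psi1_p0⟩
  rw [← Subgroup.index_mul_card h.psi1.ker, Subgroup.index_ker, MonoidHom.range_eq_top.2 hs, Subgroup.card_top]
  congr 1
  simp

theorem card_G2 (h : NG K n r x) : Nat.card G = 4 * Nat.card h.G2 := by
  have hs : Function.Surjective (h.psi1.prod h.psi2) := fun c => by
    obtain ⟨a, b⟩ := c
    have hx2 := h.psi2_x
    have hx1 := h.psi1_x
    have hp := h.psi1_p0
    rcases Int.units_eq_one_or a with rfl | rfl <;> rcases Int.units_eq_one_or b with rfl | rfl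
    · exact ⟨1, map_one _⟩
    · exact ⟨x, Prod.ext hx1 hx2⟩
    · rcases Int.units_eq_one_or (h.psi2 K.p0) with c | c
      · exact ⟨K.p0, Prod.ext hp c⟩
      · exact ⟨K.p0 * x, Prod.ext (by simp [hp, hx1]) (by simp [c, hx2])⟩
    · rcases Int.units_eq_one_or (h.psi2 K.p0) with c | c
      · exact ⟨K.p0 * x, Prod.ext (by simp [hp, hx1]) (by simp [c, hx2])⟩
      · exact ⟨K.p0, Prod.ext hp c⟩
  rw [← Subgroup.index_mul_card (h.psi1.prod h.psi2).ker, Subgroup.index_ker, MonoidHom.range_eq_top.2 hs,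
    Subgroup.card_top]
  have : (h.psi1.prod h.psi2).ker = h.G2 := MonoidHom.ker_prod _ _
  rw [this]
  simp

/-- The involutions of `G₂` commuting with `z` lie in `U`. -/
theorem G2_invol_C (h : NG K n r x) {u : G} (hu : u ∈ h.G2) (huC : u ∈ centralizer ({z} : Set G))
    (h2 : u * u = 1) : u ∈ K.U := by
  obtain ⟨hCC, hs⟩ := (h.G2_inf_C huC).1 hu
  refine ⟨hCC, ?_⟩
  by_contra h1
  have := sign_invol _ (by rw [← K.rho_mul hCC hCC, h2, K.rho_one]) h1
  rw [hs] at this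
  exact absurd this (by decide)

/-- The involutions of `G₁` commuting with `z` lie in `U` or are conjugate to `x`. -/
theorem G1_invol_C (h : NG K n r x) {u : G} (hu : u ∈ h.G1) (huC : u ∈ centralizer ({z} : Set G))
    (h2 : u * u = 1) : u ∈ K.U ∨ ∃ g ∈ CC z e, g * x * g⁻¹ = u := by
  by_cases hU : u ∈ K.U
  · exact Or.inl hU
  · exact Or.inr (h.outer_class ((h.G1_inf_C huC).1 hu) h2 hU)

/-- Every involution of a normal subgroup has a conjugate in `C(z)`. -/
theorem exists_conj_C (h : NG K n r x) {u : G} (h2 : u * u = 1) :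
    ∃ g : G, g * u * g⁻¹ ∈ centralizer ({z} : Set G) := by
  haveI : Fact (Nat.Prime 2) := ⟨Nat.prime_two⟩
  have hp : IsPGroup 2 (zpowers u) := by
    refine fun a => ⟨1, ?_⟩
    obtain ⟨j, hj⟩ := a.2
    refine Subtype.ext ?_
    rw [Subgroup.coe_pow, Subgroup.coe_one, ← hj, pow_one, ← zpow_natCast, ← zpow_mul, mul_comm, zpow_mul,
      zpow_natCast, pow_two, h2, one_zpow]
  obtain ⟨Q, hQ⟩ := hp.exists_le_sylow
  obtain ⟨g, hg⟩ := MulAction.exists_smul_eq G Q h.sylow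
  refine ⟨g, (h.mem_T.1 ?_).1⟩
  have : g * u * g⁻¹ ∈ ((g • Q : Sylow 2 G) : Subgroup G) := ⟨u, hQ (mem_zpowers u), rfl⟩
  rw [hg] at this
  exact this

end NG

end Ctx

end CfsgLib.Recognition.PSLThreeFourAut
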