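import Cfsg.Agent.S3277
import Cfsg.Agent.Lib.Recognition.PSLThreeFourAut.Transfer

/-!
# An elementary abelian involution centraliser with a rotated four-group
-/

set_option autoImplicit false
set_option linter.unusedSectionVars false

namespace CfsgLib.Recognition.PSLThreeFourAut.FourSplit

open Subgroup

variable {L : Type*} [Group L] [Finite L] {z t m : L}

/-- The four-group. -/
def InFour (z t q : L) : Prop := q = 1 ∨ q = z ∨ q = t ∨ q = t * z

/-- The data. -/
structure Data (z t m : L) : Prop where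
  z_ne : z ≠ 1
  t_ne : t ≠ 1
  t_ne_z : t ≠ z
  sq : ∀ q : L, Commute q z → q * q = 1
  ht : Commute t z
  m3 : m * m * m = 1
  mz : m * z * m⁻¹ = t
  mt : m * t * m⁻¹ = t * z
  cl : ∀ g : L, Commute (g * z * g⁻¹) z → g * z * g⁻¹ = z ∨ g * z * g⁻¹ = t ∨ g * z * g⁻¹ = t * z
  fix : ∀ q : L, Commute q z → InFour z t (q⁻¹ * (m * q * m⁻¹))

namespace Data

variable (D : Data z t m)

include D

theorem z_sq : z * z = 1 := D.sq z (Commute.refl z)

theorem four_comm {q : L} (hq : InFour z t q) : Commute q z := by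
  rcases hq with q' | q' | q' | q' <;> rw [q']
  · exact Commute.one_left z
  · exact D.ht
  · exact D.ht.mul_left (Commute.refl z)

theorem comm {a b : L} (ha : Commute a z) (hb : Commute b z) : Commute a b := by
  have h := D.sq (a * b) (ha.mul_left hb)
  have ia := inv_eq_of_mul_eq_one_right (D.sq a ha)
  have ib := inv_eq_of_mul_eq_one_right (D.sq b hb)
  show a * b = b * a
  rw [← inv_eq_of_mul_eq_one_right h, mul_inv_rev, ia, ib]

theorem four_inv {p : L} (hp : InFour z t p) : InFour z t p⁻¹ := by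
  rw [inv_eq_of_mul_eq_one_right (D.sq p (D.four_comm hp))]; exact hp

theorem four_mul {p q : L} (hp : InFour z t p) (hq : InFour z t q) : InFour z t (p * q) := by
  have zz := D.z_sq
  have tt := D.sq t D.ht
  have zt : z * t = t * z := D.ht.eq.symm
  have a1 : t * (t * z) = z := by rw [← mul_assoc, tt, one_mul]
  have a2 : t * z * z = t := by rw [mul_assoc, zz, mul_one]
  have a3 : z * (t * z) = t := by rw [← mul_assoc, zt, a2]
  have a4 : t * z * t = z := by rw [mul_assoc, zt, a1]
  have a5 : t * z * (t * z) = 1 := D.sq _ (D.ht.mul_left (Commute.refl z))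
  unfold InFour
  rcases hp with r | r | r | r <;> rcases hq with s | s | s | s <;> rw [r, s] <;>
    simp [zz, tt, zt, a1, a2, a3, a4, a5]

theorem mt2 : m * (t * z) * m⁻¹ = z := by
  rw [← conj_mul, D.mt, D.mz, (D.comm (D.ht.mul_left (Commute.refl z)) D.ht).eq, ← mul_assoc,
    D.sq t D.ht, one_mul]

theorem four_mem {q : L} (hq : Commute q z) : Commute (m * q * m⁻¹) z := by
  have := hq.mul_left (D.four_comm (D.fix q hq))
  rwa [mul_inv_cancel_left] at this

theorem normal_step {g : L} (hg : Commute (g * z * g⁻¹) z) :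
    ∃ i : ℕ, ∃ q, Commute q z ∧ g = m ^ i * q := by
  obtain ⟨i, hi⟩ : ∃ i : ℕ, g * z * g⁻¹ = m ^ i * z * (m ^ i)⁻¹ := by
    rcases D.cl g hg with r | r | r
    · exact ⟨0, by rw [r, pow_zero, one_mul, inv_one, mul_one]⟩
    · exact ⟨1, by rw [r, pow_one, D.mz]⟩
    · refine ⟨2, ?_⟩
      rw [r, pow_two, show m * m * z * (m * m)⁻¹ = m * (m * z * m⁻¹) * m⁻¹ by group, D.mz, D.mt]
  refine ⟨i, (m ^ i)⁻¹ * g, ?_, (mul_inv_cancel_left _ _).symm⟩
  refine mul_inv_eq_iff_eq_mul.1 ?_
  rw [show (m ^ i)⁻¹ * g * z * ((m ^ i)⁻¹ * g)⁻¹ = (m ^ i)⁻¹ * (g * z * g⁻¹) * m ^ i by group, hi]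
  group

theorem is_sylow : ∃ S : Sylow 2 L, (S : Subgroup L) = centralizer ({z} : Set L) := by
  classical
  haveI : Fact (Nat.Prime 2) := ⟨Nat.prime_two⟩
  set Q := centralizer ({z} : Set L) with hQ
  have memQ : ∀ {q : L}, q ∈ Q ↔ Commute q z := fun {q} => mem_centralizer_singleton_iff
  have hp : IsPGroup 2 Q := fun q => ⟨1, Subtype.ext (by
    rw [Subgroup.coe_pow, Subgroup.coe_one, pow_one, pow_two]; exact D.sq q (memQ.1 q.2))⟩
  refine ⟨⟨Q, hp, fun {R} hR hQR => ?_⟩, rfl⟩
  by_contra hne
  have hlt : Q < R := lt_of_le_of_ne hQR (Ne.symm hne)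
  haveI : Group.IsNilpotent R := hR.isNilpotent
  have hlt' : Q.subgroupOf R < ⊤ := lt_top_iff_ne_top.2 fun e1 => hlt.not_ge (subgroupOf_eq_top.1 e1)
  obtain ⟨g, hgN, hgn⟩ := SetLike.exists_of_lt (Group.normalizerCondition_of_isNilpotent _ hlt')
  have hz : z ∈ Q := memQ.2 (Commute.refl z)
  have hgz : Commute ((g : L) * z * (g : L)⁻¹) z :=
    memQ.1 ((Subgroup.mem_normalizer_iff.1 hgN ⟨z, hQR hz⟩).1 hz)
  obtain ⟨i, q, hq, he⟩ := D.normal_step hgz
  have hm : m ^ i ∈ R := by
    have := mul_mem g.2 (inv_mem (hQR (memQ.2 hq)))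
    rwa [he, mul_inv_cancel_right] at this
  obtain ⟨k, hk⟩ := hR ⟨_, hm⟩
  have h3 : m ^ i * m ^ i * m ^ i = 1 := by
    rw [← pow_add, ← pow_add, show i + i + i = 3 * i by omega, pow_mul, pow_succ, pow_two, D.m3, one_pow]
  have hm1 : m ^ i = 1 := eq_one_of_three h3 (k := k) (by simpa using congrArg Subtype.val hk)
  rw [hm1, one_mul] at he
  exact hgn (show (g : L) ∈ Q from he ▸ memQ.2 hq)

theorem conj_into {k : L} (hk : k * k = 1) : ∃ g : L, Commute (g * k * g⁻¹) z := by
  haveI : Fact (Nat.Prime 2) := ⟨Nat.prime_two⟩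
  obtain ⟨S, hS⟩ := D.is_sylow
  have hp : IsPGroup 2 (zpowers k) := by
    refine fun a => ⟨1, ?_⟩
    obtain ⟨j, hj⟩ := a.2
    refine Subtype.ext ?_
    rw [Subgroup.coe_pow, Subgroup.coe_one, ← hj, pow_one, ← zpow_natCast, ← zpow_mul, mul_comm, zpow_mul,
      zpow_natCast, pow_two, hk, one_zpow]
  obtain ⟨P, hP⟩ := hp.exists_le_sylow
  obtain ⟨g, hg⟩ := MulAction.exists_smul_eq L P S
  have hmem : g * k * g⁻¹ ∈ ((g • P : Sylow 2 L) : Subgroup L) := ⟨k, hP (mem_zpowers k), rfl⟩
  rw [hg, hS] at hmem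
  exact ⟨g, mem_centralizer_singleton_iff.1 hmem⟩

theorem fusion {a g : L} (ha : Commute a z) (hg : Commute (g⁻¹ * a * g) z) :
    InFour z t (a⁻¹ * (g⁻¹ * a * g)) := by
  classical
  haveI : Fact (Nat.Prime 2) := ⟨Nat.prime_two⟩
  obtain ⟨S, hS⟩ := D.is_sylow
  have memS : ∀ {q : L}, q ∈ (S : Subgroup L) ↔ Commute q z := fun {q} => by
    rw [hS]; exact mem_centralizer_singleton_iff
  haveI : IsMulCommutative S := ⟨⟨fun p q => Subtype.ext (D.comm (memS.1 p.2) (memS.1 q.2)).eq⟩⟩
  obtain ⟨u, hu, he⟩ := S.conj_eq_normalizer_conj_of_mem a g (memS.2 ha) (memS.2 hg)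
  have hu' := inv_mem hu
  obtain ⟨i, q, hq, hiq⟩ := D.normal_step (g := u⁻¹)
    (memS.1 ((Subgroup.mem_normalizer_iff.1 hu' z).1 (memS.2 (Commute.refl z))))
  have e1 : g⁻¹ * a * g = m ^ i * a * (m ^ i)⁻¹ := by
    calc g⁻¹ * a * g = u⁻¹ * a * u⁻¹⁻¹ := by rw [he, inv_inv]
      _ = m ^ i * (q * a * q⁻¹) * (m ^ i)⁻¹ := by rw [hiq]; group
      _ = _ := by rw [(D.comm hq ha).eq, mul_inv_cancel_right]
  rw [e1]
  have key : ∀ j : ℕ, InFour z t (a⁻¹ * (m ^ j * a * (m ^ j)⁻¹)) ∧ Commute (m ^ j * a * (m ^ j)⁻¹) z := by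
    intro j
    induction j with
    | zero => exact ⟨Or.inl (by simp), by simpa using ha⟩
    | succ k ihk =>
      obtain ⟨h1, h2⟩ := ihk
      have h3 := D.fix _ h2
      have e : m ^ (k + 1) * a * (m ^ (k + 1))⁻¹ = m * (m ^ k * a * (m ^ k)⁻¹) * m⁻¹ := by
        rw [pow_succ']; group
      rw [e]
      refine ⟨?_, D.four_mem h2⟩
      have h5 := D.four_mul h1 h3
      rwa [show a⁻¹ * (m ^ k * a * (m ^ k)⁻¹) * ((m ^ k * a * (m ^ k)⁻¹)⁻¹ * (m * (m ^ k * a * (m ^ k)⁻¹) * m⁻¹)) =
        a⁻¹ * (m * (m ^ k * a * (m ^ k)⁻¹) * m⁻¹) by group] at h5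
  exact (key i).1

/-- The complement. -/
theorem exists_kernel : ∃ K0 : Subgroup L, K0.Normal ∧ m ∈ K0 ∧
    (∀ q, Commute q z → (q ∈ K0 ↔ InFour z t q)) ∧ ∀ g, ∃ q, Commute q z ∧ g * q⁻¹ ∈ K0 := by
  classical
  haveI : Fact (Nat.Prime 2) := ⟨Nat.prime_two⟩
  obtain ⟨S, hS⟩ := D.is_sylow
  set Q : Subgroup L := (S : Subgroup L) with hQdef
  have memQ : ∀ {q : L}, q ∈ Q ↔ Commute q z := fun {q} => by
    rw [hS]; exact mem_centralizer_singleton_iff
  letI : CommGroup Q :=
    { (inferInstance : Group Q) with mul_comm := fun p q => Subtype.ext (D.comm (memQ.1 p.2) (memQ.1 q.2)).eq }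
  let Zq : Subgroup Q :=
    { carrier := {q | InFour z t (q : L)}
      one_mem' := Or.inl rfl
      mul_mem' := fun {p q} hp hq => D.four_mul hp hq
      inv_mem' := fun {p} hp => D.four_inv hp }
  let φ : Q →* Q ⧸ Zq := QuotientGroup.mk' Zq
  have hexp : ∀ c : Q ⧸ Zq, c * c = 1 := fun c => by
    induction c using QuotientGroup.induction_on with
    | _ q => rw [← QuotientGroup.mk_mul, show q * q = 1 from Subtype.ext (D.sq q (memQ.1 q.2)), QuotientGroup.mk_one]
  have hval : ∀ a : Q, MonoidHom.transfer φ (a : L) = φ a := by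
    intro a
    have hodd : (φ a) ^ Q.index = φ a := by
      have hnd : ¬ 2 ∣ Q.index := S.not_dvd_index
      rw [← Nat.mod_add_div Q.index 2, pow_add, pow_mul, pow_two, hexp, one_pow, mul_one,
        show Q.index % 2 = 1 by omega, pow_one]
    haveI : Fintype (Quotient (MulAction.orbitRel (zpowers (a : L)) (L ⧸ Q))) := Fintype.ofFinite _
    rw [← hodd, index_eq_sum_minimalPeriod Q (a : L), ← Finset.prod_pow_eq_pow_sum,
      MonoidHom.transfer_eq_prod_quotient_orbitRel_zpowers_quot]
    refine Finset.prod_congr rfl fun q _ => ?_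
    have ha2 : (a : L) * a = 1 := D.sq a (memQ.1 a.2)
    have hk : Function.minimalPeriod ((a : L) • ·) q.out ∣ 2 := by
      refine Function.IsPeriodicPt.minimalPeriod_dvd ?_
      show (a : L) • (a : L) • q.out = q.out
      rw [smul_smul, ha2, one_smul]
    have hmem := QuotientGroup.out_conj_pow_minimalPeriod_mem Q (a : L) q.out
    show φ ⟨_, hmem⟩ = _
    revert hmem
    generalize Function.minimalPeriod ((a : L) • ·) q.out = k at hk ⊢
    intro hmem
    rcases (Nat.dvd_prime Nat.prime_two).mp hk with rfl | rfl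
    · rw [pow_one (φ a)]
      refine ((QuotientGroup.eq).2 ?_).symm
      show InFour z t ((a : L)⁻¹ * (q.out.out⁻¹ * (a : L) ^ 1 * q.out.out))
      rw [pow_one]
      exact D.fusion (memQ.1 a.2) (memQ.1 (by simpa using hmem))
    · rw [pow_two (φ a), hexp, ← map_one φ]
      exact congrArg φ (Subtype.ext (by simp [pow_two, ha2]))
  set f := MonoidHom.transfer φ with hf
  refine ⟨f.ker, inferInstance, ?_, fun q hq => ?_, fun g => ?_⟩
  · rw [MonoidHom.mem_ker]
    have h3 : f m * f m * f m = 1 := by rw [← map_mul, ← map_mul, D.m3, map_one]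
    rwa [hexp, one_mul] at h3
  · rw [MonoidHom.mem_ker, hval ⟨q, memQ.2 hq⟩]
    exact QuotientGroup.eq_one_iff _
  · obtain ⟨q, hq⟩ := QuotientGroup.mk'_surjective Zq (f g)
    refine ⟨q, memQ.1 q.2, ?_⟩
    rw [MonoidHom.mem_ker, map_mul, map_inv, hval, ← hq]
    exact mul_inv_cancel _

end Data

/-- The structure of a group with a rotated four-group as involution centraliser. -/
theorem four_group (D : Data z t m) (h4 : ∀ q, Commute q z → InFour z t q) :
    (Nat.card L = 12 ∨ Nat.card L = 60) ∧ Nat.card (centralizer ({z} : Set L)) = 4 ∧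
      ∀ k : L, k * k = 1 → k ≠ 1 → IsConj z k := by
  classical
  haveI : Fact (Nat.Prime 2) := ⟨Nat.prime_two⟩
  haveI := Fintype.ofFinite L
  set Q := centralizer ({z} : Set L) with hQ
  have memQ : ∀ {q : L}, q ∈ Q ↔ InFour z t q := fun {q} =>
    ⟨fun h => h4 q (mem_centralizer_singleton_iff.1 h), fun h => mem_centralizer_singleton_iff.2 (D.four_comm h).eq⟩
  have hne : t * z ≠ 1 := fun e => D.t_ne_z (by
    rw [← inv_eq_of_mul_eq_one_right D.z_sq]; exact eq_inv_of_mul_eq_one_left e)
  have hQ4 : Nat.card Q = 4 := by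
    have he : (Q : Set L) = ↑({1, z, t, t * z} : Finset L) := by
      ext q; simp [memQ, InFour]
    rw [← SetLike.coe_sort_coe, Nat.card_coe_set_eq, he, Set.ncard_coe_finset]
    have e1 : z ≠ t * z := fun q => D.t_ne (mul_eq_right.1 q.symm)
    have e2 : t ≠ t * z := fun q => D.z_ne (mul_eq_left.1 q.symm)
    simp [D.z_ne.symm, D.t_ne.symm, hne.symm, D.t_ne_z.symm, e1, e2]
  have hexp : ∀ q ∈ Q, q ^ 2 = 1 := fun q hq => by
    rw [pow_two]; exact D.sq q (mem_centralizer_singleton_iff.1 hq)
  have hcard : Nat.card L = 12 ∨ Nat.card L = 60 := by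
    by_cases hn : Q.Normal
    · left
      let f : Fin 3 × Q → L := fun p => m ^ p.1.val * (p.2 : L)
      have hf : Function.Bijective f := by
        constructor
        · rintro ⟨i, a⟩ ⟨j, b⟩ hab
          have ez : ∀ w : Q, (w : L) * z * (w : L)⁻¹ = z := fun w =>
            mul_inv_eq_iff_eq_mul.2 (mem_centralizer_singleton_iff.1 w.2)
          have e1 : m ^ i.val * (a : L) = m ^ j.val * b := hab
          have e2 : m ^ i.val * z * (m ^ i.val)⁻¹ = m ^ j.val * z * (m ^ j.val)⁻¹ := by
            calc m ^ i.val * z * (m ^ i.val)⁻¹ = (m ^ i.val * (a : L)) * z * (m ^ i.val * (a : L))⁻¹ := by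
                  conv_lhs => arg 1; arg 2; rw [← ez a]
                  group
              _ = (m ^ j.val * (b : L)) * z * (m ^ j.val * (b : L))⁻¹ := by rw [e1]
              _ = _ := by
                  conv_rhs => arg 1; arg 2; rw [← ez b]
                  group
          have f0 : m ^ 0 * z * (m ^ 0)⁻¹ = z := by simp
          have f1 : m ^ 1 * z * (m ^ 1)⁻¹ = t := by rw [pow_one, D.mz]
          have f2 : m ^ 2 * z * (m ^ 2)⁻¹ = t * z := by
            rw [pow_two, show m * m * z * (m * m)⁻¹ = m * (m * z * m⁻¹) * m⁻¹ by group, D.mz, D.mt]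
          have e3 : z ≠ t * z := fun q => D.t_ne (mul_eq_right.1 q.symm)
          have e4 : t ≠ t * z := fun q => D.z_ne (mul_eq_left.1 q.symm)
          have hij : i = j := by
            fin_cases i <;> fin_cases j <;> simp only [f0, f1, f2] at e2 <;> first
              | rfl
              | exact absurd e2 D.t_ne_z
              | exact absurd e2.symm D.t_ne_z
              | exact absurd e2 e3
              | exact absurd e2.symm e3
              | exact absurd e2 e4
              | exact absurd e2.symm e4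
          subst hij
          exact Prod.ext rfl (Subtype.ext (mul_left_cancel e1))
        · intro g
          have hgz : Commute (g * z * g⁻¹) z := mem_centralizer_singleton_iff.1
            (hn.conj_mem z (mem_centralizer_singleton_iff.2 rfl) g)
          obtain ⟨i, q, hq, he⟩ := D.normal_step hgz
          refine ⟨(⟨i % 3, Nat.mod_lt _ (by norm_num)⟩, ⟨q, mem_centralizer_singleton_iff.2 hq.eq⟩), ?_⟩
          show m ^ (i % 3) * q = g
          conv_rhs => rw [he, ← Nat.mod_add_div i 3, pow_add, pow_mul, pow_succ, pow_two, D.m3, one_pow, mul_one]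
      rw [← Nat.card_eq_of_bijective f hf, Nat.card_prod, Nat.card_fin, hQ4]
    · right
      have hzo : orderOf z = 2 := orderOf_eq_prime (by rw [pow_two]; exact D.z_sq) D.z_ne
      have hmne : m ≠ 1 := fun e => D.t_ne_z (by rw [← D.mz, e]; group)
      have hnc : ¬ Cfsg.HasNormalPComplement 2 L := by
        rintro ⟨P, N, hN, hc⟩
        haveI := hN
        obtain ⟨k, hk⟩ := IsPGroup.iff_card.1 P.2
        have hidx : N.index = Nat.card (P : Subgroup L) := hc.symm.index_eq_card
        have hoddN : ¬ 2 ∣ Nat.card N := by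
          rw [← hc.index_eq_card]; exact P.not_dvd_index
        have hmN : m ∈ N := by
          rw [← QuotientGroup.eq_one_iff]
          refine eq_one_of_three (k := k) ?_ ?_
          · rw [← QuotientGroup.mk_mul, ← QuotientGroup.mk_mul, D.m3, QuotientGroup.mk_one]
          · rw [← hk, ← hidx, Subgroup.index_eq_card]
            exact pow_card_eq_one'
        have htz : t * z ∈ N := by
          have e1 : m * (z * m⁻¹ * z⁻¹) = t * z := by
            rw [← mul_assoc, ← mul_assoc, D.mz, inv_eq_of_mul_eq_one_right D.z_sq]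
          rw [← e1]
          exact mul_mem hmN (hN.conj_mem _ (inv_mem hmN) z)
        have h2 : orderOf (t * z) = 2 :=
          orderOf_eq_prime (by rw [pow_two]; exact D.sq _ (D.ht.mul_left (Commute.refl z))) hne
        have hdvd : 2 ∣ Nat.card N := h2 ▸ Subgroup.orderOf_dvd_natCard N htz
        exact hoddN hdvd
      have hnsm : ∀ E : Subgroup L, E.Normal → Cfsg.IsElementaryAbelian 2 E → Nat.card ↥E ≠ 2 ∧ Nat.card ↥E ≠ 4 := by
        intro V hV hVe
        constructor
        · intro h2
          obtain ⟨v, w, hvw, huniv⟩ := Nat.card_eq_two_iff.1 h2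
          obtain ⟨c, hc1⟩ : ∃ c : V, c ≠ 1 := by
            by_cases hv : v = 1
            · exact ⟨w, fun e => hvw (hv.trans e.symm)⟩
            · exact ⟨v, hv⟩
          have hfix : ∀ g : L, g * (c : L) * g⁻¹ = c := fun g => by
            have hm1 := hV.conj_mem _ c.2 g
            have : ∀ a : V, a = 1 ∨ a = c := fun a => by
              rcases (Set.eq_univ_iff_forall.1 huniv a : a = v ∨ a = w) with r | r <;>
                rcases (Set.eq_univ_iff_forall.1 huniv c : c = v ∨ c = w) with s | s <;>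
                rcases (Set.eq_univ_iff_forall.1 huniv 1 : (1 : V) = v ∨ (1 : V) = w) with q | q
              all_goals first
                | exact Or.inr (r.trans s.symm)
                | exact Or.inl (r.trans q.symm)
                | exact absurd (s.trans q.symm) hc1
            rcases this ⟨_, hm1⟩ with r | r
            · refine absurd (Subtype.ext ?_) hc1
              exact conj_eq_one_iff.1 (congrArg Subtype.val r)
            · exact congrArg Subtype.val r
          have hcm := hfix m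
          rcases h4 c (mul_inv_eq_iff_eq_mul.1 (hfix z)).symm with r | r | r | r
          · exact hc1 (Subtype.ext r)
          · rw [r, D.mz] at hcm
            exact D.t_ne_z hcm
          · rw [r, D.mt] at hcm
            exact D.z_ne (mul_eq_left.1 hcm)
          · rw [r, D.mt2] at hcm
            exact D.t_ne (mul_eq_right.1 hcm.symm)
        · intro h4V
          have hV2 : ∀ v ∈ V, v * v = 1 := fun v hv => by
            rw [← pow_two]; exact hVe.2 v hv
          haveI := Fintype.ofFinite V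
          let σ : Equiv.Perm V :=
            Function.Involutive.toPerm (fun v : V => ⟨z * v * z⁻¹, hV.conj_mem _ v.2 z⟩) fun v => Subtype.ext (by
              show z * (z * (v : L) * z⁻¹) * z⁻¹ = v
              rw [inv_eq_of_mul_eq_one_right D.z_sq, show z * (z * (v : L) * z) * z = z * z * v * (z * z) by group,
                D.z_sq, one_mul, mul_one])
          have hσ : σ ^ 2 ^ 1 = 1 := by
            ext v
            simp only [pow_one, pow_two, Equiv.Perm.mul_apply, Equiv.Perm.one_apply]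
            exact congrArg Subtype.val (Function.Involutive.toPerm_involutive _ v)
          obtain ⟨c, hc, hc1⟩ := Equiv.Perm.exists_fixed_point_of_prime' (p := 2) (n := 1)
            (by rw [← Nat.card_eq_fintype_card, h4V]; norm_num) hσ (a := (1 : V))
            (Subtype.ext (show z * ((1 : V) : L) * z⁻¹ = 1 by simp))
          have hcz : Commute (c : L) z := by
            have := mul_inv_eq_iff_eq_mul.1 (congrArg Subtype.val hc : z * (c : L) * z⁻¹ = c)
            exact this.symm
          have hmV : ∀ v ∈ V, m * v * m⁻¹ ∈ V := fun v hv => hV.conj_mem v hv m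
          have hall : z ∈ V ∧ t ∈ V := by
            rcases h4 c hcz with r | r | r | r
            · exact absurd (Subtype.ext r) hc1
            · have hzV : z ∈ V := r ▸ c.2
              exact ⟨hzV, D.mz ▸ hmV z hzV⟩
            · have htV : t ∈ V := r ▸ c.2
              have htzV : t * z ∈ V := D.mt ▸ hmV t htV
              exact ⟨D.mt2 ▸ hmV _ htzV, htV⟩
            · have hzV : z ∈ V := D.mt2 ▸ hmV _ (r ▸ c.2)
              exact ⟨hzV, D.mz ▸ hmV z hzV⟩
          refine hn ?_
          have : Q = V := by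
            refine Subgroup.eq_of_le_of_card_ge (fun q hq => ?_) (by rw [hQ4, h4V])
            rcases memQ.1 hq with r | r | r | r <;> rw [r]
            · exact one_mem V
            · exact hall.1
            · exact hall.2
            · exact mul_mem hall.2 hall.1
          rw [this]; exact hV
      obtain ⟨e⟩ := Cfsg.Agent.S3277.result z hzo hQ4 hexp hnc hnsm
      rw [Nat.card_congr e.toEquiv, nat_card_alternatingGroup, Nat.card_fin]
      rfl
  refine ⟨hcard, hQ4, fun k hk hk1 => ?_⟩
  obtain ⟨S, hS⟩ := D.is_sylow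
  have hp : IsPGroup 2 (zpowers k) := by
    refine fun a => ⟨1, ?_⟩
    obtain ⟨j, hj⟩ := a.2
    refine Subtype.ext ?_
    rw [Subgroup.coe_pow, Subgroup.coe_one, ← hj, pow_one, ← zpow_natCast, ← zpow_mul, mul_comm, zpow_mul,
      zpow_natCast, pow_two, hk, one_zpow]
  obtain ⟨P, hP⟩ := hp.exists_le_sylow
  obtain ⟨g, hg⟩ := MulAction.exists_smul_eq L P S
  have hmem : g * k * g⁻¹ ∈ ((g • P : Sylow 2 L) : Subgroup L) := ⟨k, hP (mem_zpowers k), rfl⟩
  rw [hg, hS] at hmem
  rcases memQ.1 hmem with r | r | r | r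
  · exact absurd (conj_eq_one_iff.1 r) hk1
  · exact (isConj_iff.2 ⟨g, r⟩).symm
  · exact (isConj_iff.2 ⟨m, D.mz⟩).trans (isConj_iff.2 ⟨g, r⟩).symm
  · exact ((isConj_iff.2 ⟨m, D.mz⟩).trans (isConj_iff.2 ⟨m, D.mt⟩)).trans (isConj_iff.2 ⟨g, r⟩).symm

end CfsgLib.Recognition.PSLThreeFourAut.FourSplit
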