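import Mathlib

/-!
# The group `Q₈ ∘ D₈` and the automorphisms inducing permutations of four generators

The thirty-two elements are the numbers below `32`: the four low bits are exponents of generators
`e₀, …, e₃` (each of order four with the same square, pairwise anticommuting), the top bit is the
exponent of the central involution.
-/

set_option autoImplicit false
set_option maxRecDepth 100000

namespace CfsgLib.Recognition.PSLThreeFourAut.Model

/-- Right multiplication by the `j`-th generator. -/
def step (n j : ℕ) : ℕ :=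
  let c := ((List.range 4).filter fun i => decide (j ≤ i) && n.testBit i).length % 2
  Nat.xor ((Nat.xor (n % 16) (2 ^ j))) (16 * ((n / 16 + c) % 2))

/-- Multiplication. -/
def mul (a b : ℕ) : ℕ :=
  Nat.xor ((List.range 4).foldl (fun r j => if b.testBit j then step r j else r) a) (16 * (b / 16 % 2))

/-- The extension of the images of the generators to all elements. -/
def ap (im : List ℕ) (n : ℕ) : ℕ :=
  Nat.xor ((List.range 4).foldl (fun r j => if n.testBit j then mul r (im.getD j 0) else r) 0)
    (16 * (n / 16 % 2))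

/-- Composition of automorphisms given by images. -/
def comp (a b : List ℕ) : List ℕ := b.map (ap a)

/-- The identity. -/
def idl : List ℕ := [1, 2, 4, 8]

/-- All permutations of `0, …, 3`. -/
def perms : List (List ℕ) :=
  [[0, 1, 2, 3], [0, 1, 3, 2], [0, 2, 1, 3], [0, 2, 3, 1], [0, 3, 1, 2], [0, 3, 2, 1],
    [1, 0, 2, 3], [1, 0, 3, 2], [1, 2, 0, 3], [1, 2, 3, 0], [1, 3, 0, 2], [1, 3, 2, 0],
    [2, 0, 1, 3], [2, 0, 3, 1], [2, 1, 0, 3], [2, 1, 3, 0], [2, 3, 0, 1], [2, 3, 1, 0],
    [3, 0, 1, 2], [3, 0, 2, 1], [3, 1, 0, 2], [3, 1, 2, 0], [3, 2, 0, 1], [3, 2, 1, 0]]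

/-- The double transpositions. -/
def dts : List (List ℕ) := [[1, 0, 3, 2], [2, 3, 0, 1], [3, 2, 1, 0]]

/-- The transpositions. -/
def trs : List (List ℕ) :=
  [[1, 0, 2, 3], [2, 1, 0, 3], [3, 1, 2, 0], [0, 2, 1, 3], [0, 3, 2, 1], [0, 1, 3, 2]]

/-- The four-cycles. -/
def fcs : List (List ℕ) :=
  [[1, 2, 3, 0], [1, 3, 0, 2], [2, 3, 1, 0], [2, 0, 3, 1], [3, 2, 0, 1], [3, 0, 1, 2]]

/-- The sixteen lifts of a permutation. -/
def lifts (p : List ℕ) : List (List ℕ) :=
  (List.range 16).map fun s => (List.range 4).map fun i =>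
    2 ^ (p.getD i 0) + 16 * (if s.testBit i then 1 else 0)

/-- All automorphisms. -/
def auts : List (List ℕ) := perms.flatMap lifts

/-- The automorphisms with square one over a list of permutations. -/
def invols (l : List (List ℕ)) : List (List ℕ) :=
  (l.flatMap lifts).filter fun a => decide (comp a a = idl)

/-- The fixed elements. -/
def fixedBy (a : List ℕ) : List ℕ := (List.range 32).filter fun n => decide (ap a n = n)

theorem step_lt : ∀ a < 32, ∀ j < 4, step a j < 32 := by decide +kernel

theorem mul_lt : ∀ a < 32, ∀ b < 32, mul a b < 32 := by decide +kernel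

theorem mul_zero_left : ∀ a < 32, mul 0 a = a := by decide +kernel

theorem zero_or_flip : ∀ a < 32, a = 0 ∨ a = 16 ∨ ∃ j < 4, mul a (2 ^ j) = Nat.xor (mul (2 ^ j) a) 16 := by
  decide +kernel

theorem auts_length : auts.length = 384 := by decide +kernel

theorem ap_lt : ∀ a ∈ auts, ∀ n < 32, ap a n < 32 := by decide +kernel

theorem ap_central : ∀ a ∈ auts, ap a 0 = 0 ∧ ap a 16 = 16 := by decide +kernel

/-- The involutions of the group. -/
theorem sq_one : ∀ a < 32, mul a a = 0 → a ∈ [0, 16, 15, 31, 7, 11, 13, 14, 23, 27, 29, 30] := by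
  decide +kernel

/-- Which elements commute with the product of the four generators. -/
theorem comm_prod : ∀ a < 32, mul a a = 0 → mul a 15 = mul 15 a → a ∈ [0, 16, 15, 31] := by
  decide +kernel

theorem ptype_not_comm : ∀ a ∈ [7, 11, 13, 14, 23, 27, 29, 30], mul a 15 ≠ mul 15 a := by decide +kernel

theorem ptype_pair : ∀ a ∈ [7, 11, 13, 14, 23, 27, 29, 30], ∃ d < 32, ∃ f < 32, mul d d = 16 ∧ mul f f = 16 ∧
    mul (mul d f) (mul d f) = 16 ∧ mul d a = mul a d ∧ mul f a = mul a f := by decide +kernel

/-- An involution inducing a double transposition. -/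
theorem dt_fixed : ∀ a ∈ invols dts, ap a 15 = 15 ∧ fixedBy a = [0, 15, 16, 31] ∧
    ((List.range 32).filter fun n => decide (mul n (ap a n) = 0)).length = 8 := by decide +kernel

/-- An involution inducing a transposition centralises an element of order four. -/
theorem tr_four : ∀ a ∈ invols trs, ∃ d < 32, ap a d = d ∧ mul d d = 16 := by decide +kernel

theorem tr_fixed : ∀ a ∈ invols trs, (fixedBy a).length = 8 := by decide +kernel

theorem tr_dt : ∀ a ∈ invols trs, ∀ b ∈ invols dts, comp a b = comp b a → ap a 15 = 31 := by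
  decide +kernel

theorem fc_moves : ∀ a ∈ fcs.flatMap lifts, comp (comp a a) (comp a a) = idl → ap a 15 = 31 := by
  decide +kernel

theorem dt_dt : ∀ a ∈ invols dts, ∀ b ∈ dts.flatMap lifts, comp a b = comp b a →
    a.map (· % 16) ≠ b.map (· % 16) → ap b 15 = 15 := by
  decide +kernel

/-- Squares in the kernel of the action on `Z₀`. -/
theorem four_sq : ∀ a ∈ ([0, 1, 2, 3] :: dts).flatMap lifts, ap a 15 = 15 →
    comp a a = idl ∨ comp a a = idl.map (fun n => mul (mul 15 n) 15) := by
  decide +kernel

end CfsgLib.Recognition.PSLThreeFourAut.Model
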