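import Cfsg.Agent.Lib.Recognition.PSLThreeFourAut.Count
import Cfsg.Agent.Lib.Recognition.PSLThreeFourAut.Model
import Cfsg.Agent.Lib.Involution.Dihedral

/-!
# Coordinates in the centraliser of the involution

A `Frame` gives four generators of the normal subgroup `Q₈ ∘ D₈` permuted, up to the centre, by the
centraliser.  The centraliser then induces all `384` automorphisms of the model.
-/

set_option autoImplicit false
set_option maxRecDepth 100000
set_option linter.unusedSectionVars false

namespace CfsgLib.Recognition.PSLThreeFourAut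

open CfsgLib.ThreeTransp.Extraspecial (Extra)

variable {G : Type*} [Group G] [Finite G]

/-- Congruence modulo `⟨z⟩`. -/
def Near (z x y : G) : Prop := y = x ∨ y = x * z

/-- The word with the given exponents. -/
def word (z : G) (e : Fin 4 → G) (b0 b1 b2 b3 c : Bool) : G :=
  (if b0 then e 0 else 1) * ((if b1 then e 1 else 1) * ((if b2 then e 2 else 1) *
    ((if b3 then e 3 else 1) * (if c then z else 1))))

/-- The element with the given number. -/
def el (z : G) (e : Fin 4 → G) (n : ℕ) : G :=
  word z e (n.testBit 0) (n.testBit 1) (n.testBit 2) (n.testBit 3) (n.testBit 4)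

/-- The hypotheses in coordinates. -/
structure Frame (z : G) (E : Subgroup G) (e : Fin 4 → G) : Prop where
  extra : Extra E z
  card_E : Nat.card E = 32
  mem : ∀ i, e i ∈ E
  sq : ∀ i, e i * e i = z
  anti : ∀ i j, i ≠ j → e j * e i = e i * e j * z
  norm : ∀ h ∈ Subgroup.centralizer ({z} : Set G), ∀ q ∈ E, h * q * h⁻¹ ∈ E
  perm : ∀ h ∈ Subgroup.centralizer ({z} : Set G), ∀ i, ∃ j, Near z (e j) (h * e i * h⁻¹)
  cent : ∀ h ∈ Subgroup.centralizer ({z} : Set G), (∀ q ∈ E, h * q = q * h) → h ∈ E

theorem bits_step0 : ∀ a < 32, ∀ b : Fin 5, (Model.step a 0).testBit b =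
    ![!a.testBit 0, a.testBit 1, a.testBit 2, a.testBit 3,
      (a.testBit 4).xor ((a.testBit 0).xor ((a.testBit 1).xor ((a.testBit 2).xor (a.testBit 3))))] b := by
  decide +kernel

theorem bits_step1 : ∀ a < 32, ∀ b : Fin 5, (Model.step a 1).testBit b =
    ![a.testBit 0, !a.testBit 1, a.testBit 2, a.testBit 3,
      (a.testBit 4).xor ((a.testBit 1).xor ((a.testBit 2).xor (a.testBit 3)))] b := by
  decide +kernel

theorem bits_step2 : ∀ a < 32, ∀ b : Fin 5, (Model.step a 2).testBit b =
    ![a.testBit 0, a.testBit 1, !a.testBit 2, a.testBit 3,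
      (a.testBit 4).xor ((a.testBit 2).xor (a.testBit 3))] b := by
  decide +kernel

theorem bits_step3 : ∀ a < 32, ∀ b : Fin 5, (Model.step a 3).testBit b =
    ![a.testBit 0, a.testBit 1, a.testBit 2, !a.testBit 3, (a.testBit 4).xor (a.testBit 3)] b := by
  decide +kernel

theorem bits_flip : ∀ a < 32, ∀ b : Fin 5, (Nat.xor a 16).testBit b =
    ![a.testBit 0, a.testBit 1, a.testBit 2, a.testBit 3, !a.testBit 4] b := by
  decide +kernel

theorem mul_eq_steps : ∀ a < 32, ∀ b < 32, Model.mul a b =
    (let s0 := if b.testBit 0 then Model.step a 0 else a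
     let s1 := if b.testBit 1 then Model.step s0 1 else s0
     let s2 := if b.testBit 2 then Model.step s1 2 else s1
     let s3 := if b.testBit 3 then Model.step s2 3 else s2
     if b.testBit 4 then Nat.xor s3 16 else s3) := by
  decide +kernel

theorem ap_eq_steps : ∀ a ∈ Model.auts, ∀ n < 32, Model.ap a n =
    (let s0 := if n.testBit 0 then Model.mul 0 (a.getD 0 0) else 0
     let s1 := if n.testBit 1 then Model.mul s0 (a.getD 1 0) else s0
     let s2 := if n.testBit 2 then Model.mul s1 (a.getD 2 0) else s1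
     let s3 := if n.testBit 3 then Model.mul s2 (a.getD 3 0) else s2
     if n.testBit 4 then Nat.xor s3 16 else s3) := by
  decide +kernel

theorem list_of_perm : ∀ (p : Equiv.Perm (Fin 4)) (s : Fin 4 → Bool),
    ((List.finRange 4).map fun i => 2 ^ (p i).val + 16 * (if s i then 1 else 0)) ∈
      Model.lifts ((List.finRange 4).map fun i => (p i).val) := by
  decide +kernel

theorem perm_list : ∀ p : Equiv.Perm (Fin 4), ((List.finRange 4).map fun i => (p i).val) ∈ Model.perms := by
  decide +kernel

theorem flip_lt : ∀ a < 32, Nat.xor a 16 < 32 := by decide +kernel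

namespace Frame

variable {z : G} {E : Subgroup G} {e : Fin 4 → G}

theorem z_commute (F : Frame z E e) (i : Fin 4) : z * e i = e i * z := F.extra.z_comm (F.mem i)

theorem e_mem_C (F : Frame z E e) (i : Fin 4) : e i ∈ Subgroup.centralizer ({z} : Set G) :=
  F.extra.le_centralizer (F.mem i)

theorem word_mem (F : Frame z E e) (b0 b1 b2 b3 c : Bool) : word z e b0 b1 b2 b3 c ∈ E := by
  have hm : ∀ (b : Bool) (x : G), x ∈ E → (if b then x else 1) ∈ E := fun b x hx => by
    cases b <;> simp [hx, one_mem]
  exact mul_mem (hm _ _ (F.mem 0)) (mul_mem (hm _ _ (F.mem 1)) (mul_mem (hm _ _ (F.mem 2))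
    (mul_mem (hm _ _ (F.mem 3)) (hm _ _ F.extra.z_mem))))

theorem el_mem (F : Frame z E e) (n : ℕ) : el z e n ∈ E := F.word_mem _ _ _ _ _

theorem word_mul_z (F : Frame z E e) (b0 b1 b2 b3 c : Bool) :
    word z e b0 b1 b2 b3 c * z = word z e b0 b1 b2 b3 (!c) := by
  cases c <;> simp [word, mul_assoc, F.extra.z_sq]

section words

variable (F : Frame z E e)
include F

theorem zi (i : Fin 4) (x : G) : z * (e i * x) = e i * (z * x) := by
  rw [← mul_assoc, F.z_commute, mul_assoc]

theorem zz (x : G) : z * (z * x) = x := by rw [← mul_assoc, F.extra.z_sq, one_mul]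

theorem ii (i : Fin 4) (x : G) : e i * (e i * x) = z * x := by rw [← mul_assoc, F.sq]

theorem ji (i j : Fin 4) (h : i < j) (x : G) : e j * (e i * x) = e i * (e j * (z * x)) := by
  rw [← mul_assoc, F.anti i j h.ne, mul_assoc, mul_assoc]

theorem ji' (i j : Fin 4) (h : i < j) : e j * e i = e i * (e j * z) := by
  rw [F.anti i j h.ne, mul_assoc]

theorem word_mul0 (b0 b1 b2 b3 c : Bool) : word z e b0 b1 b2 b3 c * e 0 =
    word z e (!b0) b1 b2 b3 (c.xor (b0.xor (b1.xor (b2.xor b3)))) := by
  cases b0 <;> cases b1 <;> cases b2 <;> cases b3 <;> cases c <;>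
    simp [word, mul_assoc, zi F, zz F, ii F, F.sq, F.extra.z_sq, F.z_commute, ji F 0 1 (by decide),
      ji F 0 2 (by decide), ji F 0 3 (by decide), ji' F 0 1 (by decide), ji' F 0 2 (by decide),
      ji' F 0 3 (by decide)]

theorem word_mul1 (b0 b1 b2 b3 c : Bool) : word z e b0 b1 b2 b3 c * e 1 =
    word z e b0 (!b1) b2 b3 (c.xor (b1.xor (b2.xor b3))) := by
  cases b1 <;> cases b2 <;> cases b3 <;> cases c <;>
    simp [word, mul_assoc, zi F, zz F, ii F, F.sq, F.extra.z_sq, F.z_commute, ji F 1 2 (by decide),
      ji F 1 3 (by decide), ji' F 1 2 (by decide), ji' F 1 3 (by decide)]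

theorem word_mul2 (b0 b1 b2 b3 c : Bool) : word z e b0 b1 b2 b3 c * e 2 =
    word z e b0 b1 (!b2) b3 (c.xor (b2.xor b3)) := by
  cases b2 <;> cases b3 <;> cases c <;>
    simp [word, mul_assoc, zi F, zz F, ii F, F.sq, F.extra.z_sq, F.z_commute, ji F 2 3 (by decide),
      ji' F 2 3 (by decide)]

theorem word_mul3 (b0 b1 b2 b3 c : Bool) : word z e b0 b1 b2 b3 c * e 3 =
    word z e b0 b1 b2 (!b3) (c.xor b3) := by
  cases b3 <;> cases c <;>
    simp [word, mul_assoc, zi F, zz F, ii F, F.sq, F.extra.z_sq, F.z_commute]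

end words

theorem el_step0 (F : Frame z E e) {a : ℕ} (ha : a < 32) :
    el z e a * e 0 = el z e (Model.step a 0) := by
  have h := bits_step0 a ha
  unfold el
  rw [show (Model.step a 0).testBit 0 = (!a.testBit 0) from h 0,
    show (Model.step a 0).testBit 1 = (a.testBit 1) from h 1,
    show (Model.step a 0).testBit 2 = (a.testBit 2) from h 2,
    show (Model.step a 0).testBit 3 = (a.testBit 3) from h 3,
    show (Model.step a 0).testBit 4 = _ from h 4]
  exact F.word_mul0 _ _ _ _ _

theorem el_step1 (F : Frame z E e) {a : ℕ} (ha : a < 32) :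
    el z e a * e 1 = el z e (Model.step a 1) := by
  have h := bits_step1 a ha
  unfold el
  rw [show (Model.step a 1).testBit 0 = (a.testBit 0) from h 0,
    show (Model.step a 1).testBit 1 = (!a.testBit 1) from h 1,
    show (Model.step a 1).testBit 2 = (a.testBit 2) from h 2,
    show (Model.step a 1).testBit 3 = (a.testBit 3) from h 3,
    show (Model.step a 1).testBit 4 = _ from h 4]
  exact F.word_mul1 _ _ _ _ _

theorem el_step2 (F : Frame z E e) {a : ℕ} (ha : a < 32) :
    el z e a * e 2 = el z e (Model.step a 2) := by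
  have h := bits_step2 a ha
  unfold el
  rw [show (Model.step a 2).testBit 0 = (a.testBit 0) from h 0,
    show (Model.step a 2).testBit 1 = (a.testBit 1) from h 1,
    show (Model.step a 2).testBit 2 = (!a.testBit 2) from h 2,
    show (Model.step a 2).testBit 3 = (a.testBit 3) from h 3,
    show (Model.step a 2).testBit 4 = _ from h 4]
  exact F.word_mul2 _ _ _ _ _

theorem el_step3 (F : Frame z E e) {a : ℕ} (ha : a < 32) :
    el z e a * e 3 = el z e (Model.step a 3) := by
  have h := bits_step3 a ha
  unfold el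
  rw [show (Model.step a 3).testBit 0 = (a.testBit 0) from h 0,
    show (Model.step a 3).testBit 1 = (a.testBit 1) from h 1,
    show (Model.step a 3).testBit 2 = (a.testBit 2) from h 2,
    show (Model.step a 3).testBit 3 = (!a.testBit 3) from h 3,
    show (Model.step a 3).testBit 4 = _ from h 4]
  exact F.word_mul3 _ _ _ _ _

theorem el_step (F : Frame z E e) {a : ℕ} (ha : a < 32) (j : Fin 4) :
    el z e a * e j = el z e (Model.step a j) := by
  fin_cases j
  · exact F.el_step0 ha
  · exact F.el_step1 ha
  · exact F.el_step2 ha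
  · exact F.el_step3 ha

theorem el_flip (F : Frame z E e) {a : ℕ} (ha : a < 32) : el z e a * z = el z e (Nat.xor a 16) := by
  have h := bits_flip a ha
  unfold el
  rw [show (Nat.xor a 16).testBit 0 = a.testBit 0 from h 0,
    show (Nat.xor a 16).testBit 1 = a.testBit 1 from h 1,
    show (Nat.xor a 16).testBit 2 = a.testBit 2 from h 2,
    show (Nat.xor a 16).testBit 3 = a.testBit 3 from h 3,
    show (Nat.xor a 16).testBit 4 = !a.testBit 4 from h 4]
  exact F.word_mul_z _ _ _ _ _

theorem el_mul (F : Frame z E e) {a b : ℕ} (ha : a < 32) (hb : b < 32) :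
    el z e a * el z e b = el z e (Model.mul a b) := by
  rw [mul_eq_steps a ha b hb]
  simp only
  set s0 := if b.testBit 0 then Model.step a 0 else a with hs0
  have l0 : s0 < 32 := by rw [hs0]; split <;> [exact Model.step_lt a ha 0 (by norm_num); exact ha]
  set s1 := if b.testBit 1 then Model.step s0 1 else s0 with hs1
  have l1 : s1 < 32 := by rw [hs1]; split <;> [exact Model.step_lt _ l0 1 (by norm_num); exact l0]
  set s2 := if b.testBit 2 then Model.step s1 2 else s1 with hs2
  have l2 : s2 < 32 := by rw [hs2]; split <;> [exact Model.step_lt _ l1 2 (by norm_num); exact l1]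
  set s3 := if b.testBit 3 then Model.step s2 3 else s2 with hs3
  have l3 : s3 < 32 := by rw [hs3]; split <;> [exact Model.step_lt _ l2 3 (by norm_num); exact l2]
  have p0 : el z e s0 = el z e a * (if b.testBit 0 then e 0 else 1) := by
    rw [hs0]; split <;> [exact (F.el_step ha 0).symm; exact (mul_one _).symm]
  have p1 : el z e s1 = el z e s0 * (if b.testBit 1 then e 1 else 1) := by
    rw [hs1]; split <;> [exact (F.el_step l0 1).symm; exact (mul_one _).symm]
  have p2 : el z e s2 = el z e s1 * (if b.testBit 2 then e 2 else 1) := by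
    rw [hs2]; split <;> [exact (F.el_step l1 2).symm; exact (mul_one _).symm]
  have p3 : el z e s3 = el z e s2 * (if b.testBit 3 then e 3 else 1) := by
    rw [hs3]; split <;> [exact (F.el_step l2 3).symm; exact (mul_one _).symm]
  have p4 : el z e (if b.testBit 4 then Nat.xor s3 16 else s3) = el z e s3 * (if b.testBit 4 then z else 1) := by
    split <;> [exact (F.el_flip l3).symm; exact (mul_one _).symm]
  rw [p4, p3, p2, p1, p0]
  conv_lhs => arg 2; unfold el word
  simp only [mul_assoc]

theorem el_zero : el z e 0 = 1 := by simp [el, word, Nat.testBit]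

theorem el_16 : el z e 16 = z := by simp [el, word, Nat.testBit]

theorem el_gen (i : Fin 4) : el z e (2 ^ i.val) = e i := by
  fin_cases i <;> simp [el, word, Nat.testBit]

theorem el_inj (F : Frame z E e) {a b : ℕ} (ha : a < 32) (hb : b < 32) (h : el z e a = el z e b) : a = b := by
  have key : ∀ c < 32, el z e c = 1 → c = 0 := by
    intro c hc h1
    rcases Model.zero_or_flip c hc with r | r | ⟨j, hj, r⟩
    · exact r
    · rw [r, el_16] at h1; exact absurd h1 F.extra.z_ne
    · exfalso
      have hp : (2 : ℕ) ^ j < 32 := by interval_cases j <;> norm_num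
      have l := Model.mul_lt _ hp c hc
      have e1 := F.el_mul hc hp
      rw [r, ← F.el_flip l, ← F.el_mul hp hc, h1, one_mul, mul_one] at e1
      exact F.extra.z_ne (mul_eq_left.1 e1.symm)
  obtain ⟨c, hc, hcb, huniq⟩ : ∃ c < 32, Model.mul c b = 0 ∧ (Model.mul c a = 0 → a = b) := by
    have := (by decide +kernel : ∀ a < 32, ∀ b < 32, ∃ c < 32, Model.mul c b = 0 ∧ (Model.mul c a = 0 → a = b))
    exact this a ha b hb
  exact huniq (key _ (Model.mul_lt c hc a ha) (by rw [← F.el_mul hc ha, h, F.el_mul hc hb, hcb, el_zero]))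

theorem exists_el (F : Frame z E e) {x : G} (hx : x ∈ E) : ∃ n < 32, el z e n = x := by
  have hbij : Function.Bijective (fun n : Fin 32 => (⟨el z e n, F.el_mem n⟩ : E)) := by
    have hinj : Function.Injective (fun n : Fin 32 => (⟨el z e n, F.el_mem n⟩ : E)) := fun a b h =>
      Fin.ext (F.el_inj a.2 b.2 (congrArg Subtype.val h))
    exact (Nat.bijective_iff_injective_and_card _).2 ⟨hinj, by rw [Nat.card_fin, F.card_E]⟩
  obtain ⟨n, hn⟩ := hbij.2 ⟨x, hx⟩
  exact ⟨n, n.2, congrArg Subtype.val hn⟩

end Frame

end CfsgLib.Recognition.PSLThreeFourAut
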