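import Cfsg.Agent.Lib.Recognition.PSLThreeFourAut.Local

/-!
# The fusion of the central involution

A conjugate of `z` in `C(z)`, other than `z`, is `t₀`, `t₀z` or induces a double transposition; and
if there is one then `t₀` is conjugate to `z`.
-/

set_option autoImplicit false
set_option maxRecDepth 100000
set_option linter.unusedSectionVars false

namespace CfsgLib.Recognition.PSLThreeFourAut

open Subgroup
open scoped commutatorElement

variable {G : Type*} [Group G] [Finite G]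

theorem ptype_fixes : ∀ n ∈ [7, 11, 13, 14, 23, 27, 29, 30], ∃ k : Fin 4, ∀ p : Equiv.Perm (Fin 4),
    ∀ a ∈ Model.lifts (permList p), Model.ap a n = n → p k = k := by
  decide +kernel

theorem perm_fix_invol : ∀ (k : Fin 4) (p : Equiv.Perm (Fin 4)), p k = k → p ≠ 1 → p * p = 1 →
    Equiv.Perm.sign p = -1 := by
  decide +kernel

theorem perm_sq_of_sq : ∀ p : Equiv.Perm (Fin 4), p * p ≠ 1 → p * p * (p * p) = 1 →
    Equiv.Perm.sign p = -1 ∧ IsFC p := by
  decide +kernel

theorem perm_sq_not_tr : ∀ p : Equiv.Perm (Fin 4), ¬ IsTR (p * p) := by decide +kernel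

theorem tr_cent_comm : ∀ t : Equiv.Perm (Fin 4), IsTR t → ∀ a, a * t = t * a → ∀ b, b * t = t * b →
    a * b = b * a := by
  decide +kernel

theorem perm_fix_card (k : Fin 4) : (Finset.univ.filter fun p : Equiv.Perm (Fin 4) => p k = k).card = 6 := by
  revert k
  decide +kernel

namespace Ctx

variable {z : G} {E : Subgroup G} {e : Fin 4 → G}

/-- `u` is a conjugate of `z` in `C(z)` other than `z`. -/
def Fused (z u : G) : Prop := IsConj z u ∧ u ∈ centralizer ({z} : Set G) ∧ u ≠ z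

theorem sq_z (K : Ctx z E e) : z * z = 1 := K.frame.extra.z_sq

theorem fused_sq (K : Ctx z E e) {u : G} (hu : Fused z u) : u * u = 1 := by
  obtain ⟨g, rfl⟩ := isConj_iff.1 hu.1
  rw [conj_mul, K.sq_z, mul_one, mul_inv_cancel]

theorem fused_ne_one (K : Ctx z E e) {u : G} (hu : Fused z u) : u ≠ 1 := by
  obtain ⟨g, rfl⟩ := isConj_iff.1 hu.1
  exact fun h => K.frame.extra.z_ne (conj_eq_one_iff.1 h)

/-- The partner of a fused element. -/
theorem partner (K : Ctx z E e) {u : G} (hu : Fused z u) :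
    ∃ g : G, g * z * g⁻¹ = u ∧ Fused z (g⁻¹ * z * g) ∧
      (∀ h ∈ centralizer ({z} : Set G), Commute h u →
        g⁻¹ * h * g ∈ centralizer ({z} : Set G) ∧ Commute (g⁻¹ * h * g) (g⁻¹ * z * g)) := by
  obtain ⟨g, hg⟩ := isConj_iff.1 hu.1
  have hz : z = g⁻¹ * u * g := by rw [← hg]; group
  have huz : Commute u z := K.comm_z hu.2.1
  refine ⟨g, hg, ⟨isConj_iff.2 ⟨g⁻¹, by group⟩, mem_centralizer_singleton_iff.2 ?_, fun h => hu.2.2 ?_⟩, ?_⟩
  · show g⁻¹ * z * g * z = z * (g⁻¹ * z * g)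
    calc g⁻¹ * z * g * z = g⁻¹ * (z * (g * z * g⁻¹)) * g := by group
      _ = g⁻¹ * ((g * z * g⁻¹) * z) * g := by rw [hg, huz.eq]
      _ = z * (g⁻¹ * z * g) := by group
  · rw [← hg]
    calc g * z * g⁻¹ = g * (g⁻¹ * z * g) * g⁻¹ := by rw [h]
      _ = z := by group
  · intro h hh hc
    refine ⟨mem_centralizer_singleton_iff.2 ?_, ?_⟩
    · calc g⁻¹ * h * g * z = g⁻¹ * (h * (g * z * g⁻¹)) * g := by group
        _ = g⁻¹ * ((g * z * g⁻¹) * h) * g := by rw [hg, hc.eq]
        _ = z * (g⁻¹ * h * g) := by group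
    · show g⁻¹ * h * g * (g⁻¹ * z * g) = g⁻¹ * z * g * (g⁻¹ * h * g)
      calc g⁻¹ * h * g * (g⁻¹ * z * g) = g⁻¹ * (h * z) * g := by group
        _ = g⁻¹ * (z * h) * g := by rw [(K.comm_z hh).eq]
        _ = g⁻¹ * z * g * (g⁻¹ * h * g) := by group

theorem sig_sq (K : Ctx z E e) {u : G} (hu : u ∈ centralizer ({z} : Set G)) (h2 : u * u = 1) :
    sig z e u * sig z e u = 1 := by rw [← K.frame.sig_mul hu hu, h2, K.frame.sig_one]

/-- The kinds of involutions. -/
theorem invol_cases (K : Ctx z E e) {u : G} (hu : u ∈ centralizer ({z} : Set G)) (h2 : u * u = 1)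
    (h1 : u ≠ 1) (hz : u ≠ z) :
    (u = t0 z e ∨ u = t0 z e * z) ∨ (u ∈ E ∧ ¬ Commute u (t0 z e)) ∨ IsDT (sig z e u) ∨ IsTR (sig z e u) := by
  rcases perm_kinds _ (K.sig_sq hu h2) with r | r | r
  · have hE := K.frame.mem_E_of_sig hu r
    by_cases hc : Commute u (t0 z e)
    · rcases K.mem_Z0_of_E hE h2 hc with s | s | s | s
      · exact absurd s h1
      · exact absurd s hz
      · exact Or.inl (Or.inl s)
      · exact Or.inl (Or.inr s)
    · exact Or.inr (Or.inl ⟨hE, hc⟩)
  · exact Or.inr (Or.inr (Or.inl r))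
  · exact Or.inr (Or.inr (Or.inr r))

theorem card_le_of_sig (K : Ctx z E e) (S : Subgroup G) (hS : S ≤ centralizer ({z} : Set G))
    (P : Finset (Equiv.Perm (Fin 4))) (hP : ∀ h ∈ S, sig z e h ∈ P) : Nat.card S ≤ 32 * P.card := by
  classical
  haveI := Fintype.ofFinite S
  rw [Nat.card_eq_fintype_card]
  refine Finset.card_le_mul_card_image_of_maps_to (f := fun h : S => sig z e (h : G))
    (fun h _ => hP h h.2) 32 fun p _ => ?_
  by_cases hne : ∃ h : S, sig z e (h : G) = p
  · obtain ⟨h₀, rfl⟩ := hne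
    haveI := Fintype.ofFinite E
    rw [← K.frame.card_E, Nat.card_eq_fintype_card, ← Finset.card_univ]
    have hmem : ∀ h : S, sig z e (h : G) = sig z e (h₀ : G) → (h₀ : G)⁻¹ * (h : G) ∈ E := fun h hh =>
      K.frame.mem_E_of_sig (mul_mem (inv_mem (hS h₀.2)) (hS h.2))
        (by rw [K.frame.sig_mul (inv_mem (hS h₀.2)) (hS h.2), K.frame.sig_inv (hS h₀.2),
          hh, inv_mul_cancel])
    refine Finset.card_le_card_of_injOn (fun h => if hh : (h₀ : G)⁻¹ * h ∈ E then ⟨_, hh⟩ else 1)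
      (fun h _ => Finset.mem_univ _) fun a ha b hb hab => ?_
    simp only [dif_pos (hmem a (Finset.mem_filter.1 ha).2), dif_pos (hmem b (Finset.mem_filter.1 hb).2)] at hab
    exact Subtype.ext (mul_left_cancel (congrArg Subtype.val hab))
  · rw [Finset.filter_eq_empty_iff.2 fun h _ hh => hne ⟨h, hh⟩]
    simp

theorem card_cent_t0 (K : Ctx z E e) :
    384 ≤ Nat.card (centralizer ({z} : Set G) ⊓ centralizer ({t0 z e} : Set G) : Subgroup G) := by
  classical
  set C := centralizer ({z} : Set G) with hC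
  set S := C ⊓ centralizer ({t0 z e} : Set G) with hS
  obtain ⟨q, hq, hqe⟩ := K.frame.extra.exists_conj_eq K.t0_mem K.t0_ne_one K.t0_ne_z
  have hqC := K.mem_C hq
  haveI := Fintype.ofFinite C
  haveI := Fintype.ofFinite S
  let f : S ⊕ S → C := Sum.elim (fun s => ⟨s, s.2.1⟩) (fun s => ⟨q * s, mul_mem hqC s.2.1⟩)
  have hf : Function.Surjective f := by
    rintro ⟨h, hh⟩
    rcases K.commute_t0_or hh with r | r
    · exact ⟨Sum.inl ⟨h, hh, mem_centralizer_singleton_iff.2 r.eq⟩, rfl⟩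
    · refine ⟨Sum.inr ⟨q⁻¹ * h, C.mul_mem (C.inv_mem hqC) hh, mem_centralizer_singleton_iff.2 ?_⟩,
        Subtype.ext (mul_inv_cancel_left q h)⟩
      refine mul_inv_eq_iff_eq_mul.1 ?_
      rw [show q⁻¹ * h * t0 z e * (q⁻¹ * h)⁻¹ = q⁻¹ * (h * t0 z e * h⁻¹) * q by group, r, ← hqe]
      group
  have h := Nat.card_le_card_of_surjective f hf
  rw [K.card_C, Nat.card_sum] at h
  omega

theorem card_cent_ptype (K : Ctx z E e) {u : G} (hu : u ∈ E) (h2 : u * u = 1) (hc : ¬ Commute u (t0 z e)) :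
    Nat.card (centralizer ({z} : Set G) ⊓ centralizer ({u} : Set G) : Subgroup G) ≤ 192 ∧
      ∃ k : Fin 4, ∀ h ∈ centralizer ({z} : Set G), Commute h u → sig z e h k = k := by
  classical
  obtain ⟨n, hn, rfl⟩ := K.frame.exists_el hu
  have e1 : Model.mul n n = 0 := K.frame.el_inj (Model.mul_lt n hn n hn) (by norm_num)
    (by rw [← K.frame.el_mul hn hn, h2, Frame.el_zero])
  have hP : n ∈ [7, 11, 13, 14, 23, 27, 29, 30] := by
    have := Model.sq_one n hn e1
    simp only [List.mem_cons, List.not_mem_nil, or_false] at this ⊢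
    rcases this with rfl | rfl | rfl | rfl | r
    · exact absurd (Frame.el_zero (z := z) (e := e) ▸ Commute.one_left _) hc
    · refine absurd ?_ hc
      rw [Frame.el_16]
      exact K.frame.extra.z_comm K.t0_mem
    · exact absurd (Commute.refl _) hc
    · exact absurd (K.t0_mul_z ▸ (Commute.refl _).mul_left (K.frame.extra.z_comm K.t0_mem)) hc
    · exact r
  obtain ⟨k, hk⟩ := ptype_fixes n hP
  have hfix : ∀ h ∈ centralizer ({z} : Set G), Commute h (el z e n) → sig z e h k = k := fun h hh hcm =>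
    hk _ _ (K.frame.img_mem_lifts hh) ((K.frame.commute_el_iff hh hn).1 hcm)
  refine ⟨?_, k, hfix⟩
  have := K.card_le_of_sig _ inf_le_left (Finset.univ.filter fun p : Equiv.Perm (Fin 4) => p k = k) fun h hh =>
    Finset.mem_filter.2 ⟨Finset.mem_univ _, hfix h hh.1 (mem_centralizer_singleton_iff.1 hh.2)⟩
  rw [perm_fix_card] at this
  exact this

/-- The images of elements of order four of `E` that square to `z`. -/
theorem square_image (K : Ctx z E e) {u g d : G} (hg : g * z * g⁻¹ = u) (hw : Fused z (g⁻¹ * z * g))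
    (hd : d * d = z) (hD : g⁻¹ * d * g ∈ centralizer ({z} : Set G)) :
    sig z e (g⁻¹ * z * g) = sig z e (g⁻¹ * d * g) * sig z e (g⁻¹ * d * g) ∧
      (sig z e (g⁻¹ * z * g) = 1 → sig z e (g⁻¹ * d * g) ≠ 1) := by
  have e1 : g⁻¹ * d * g * (g⁻¹ * d * g) = g⁻¹ * z * g := by
    rw [show g⁻¹ * d * g * (g⁻¹ * d * g) = g⁻¹ * (d * d) * g by group, hd]
  refine ⟨by rw [← e1, K.frame.sig_mul hD hD], fun _ h1 => ?_⟩
  rcases K.frame.extra.sq_cases (K.frame.mem_E_of_sig hD h1) with r | r
  · exact K.fused_ne_one hw (e1.symm.trans r)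
  · exact hw.2.2 (e1.symm.trans r)

theorem not_ptype (K : Ctx z E e) {u : G} (hu : Fused z u) (hE : u ∈ E) : Commute u (t0 z e) := by
  by_contra hc
  have h2 := K.fused_sq hu
  obtain ⟨g, hg, hw, hmove⟩ := K.partner hu
  obtain ⟨d, f, hd, hf, hdu, hfu, hd2, hf2, hdf⟩ := K.ptype_pair hE h2 hc
  have hdf' : Commute (d * f) u := hdu.mul_left hfu
  obtain ⟨hDC, hDw⟩ := hmove d (K.mem_C hd) hdu
  obtain ⟨hFC, hFw⟩ := hmove f (K.mem_C hf) hfu
  obtain ⟨hPC, hPw⟩ := hmove (d * f) (K.mem_C (mul_mem hd hf)) hdf'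
  have hmul : g⁻¹ * (d * f) * g = g⁻¹ * d * g * (g⁻¹ * f * g) := by group
  have hP : sig z e (g⁻¹ * (d * f) * g) = sig z e (g⁻¹ * d * g) * sig z e (g⁻¹ * f * g) := by
    rw [hmul, K.frame.sig_mul hDC hFC]
  set w := g⁻¹ * z * g with hwdef
  -- each of the three images is odd, which is absurd
  suffices hodd : ∀ x, x * x = z → g⁻¹ * x * g ∈ centralizer ({z} : Set G) → Commute (g⁻¹ * x * g) w →
      Equiv.Perm.sign (sig z e (g⁻¹ * x * g)) = -1 by
    have a := hodd d hd2 hDC hDw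
    have b := hodd f hf2 hFC hFw
    have c := hodd (d * f) hdf hPC hPw
    rw [hP, map_mul, a, b] at c
    exact absurd c (by decide)
  intro x hx hX hXw
  obtain ⟨hsq, hne⟩ := K.square_image hg hw hx hX
  rcases K.invol_cases hw.2.1 (K.fused_sq hw) (K.fused_ne_one hw) hw.2.2 with r | ⟨hwE, hwc⟩ | r | r
  · -- the centralisers have different orders
    exfalso
    have e1 := (K.card_cent_ptype hE h2 hc).1
    have e2 := K.card_cent_t0
    have hsame : centralizer ({z} : Set G) ⊓ centralizer ({w} : Set G) =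
        centralizer ({z} : Set G) ⊓ centralizer ({t0 z e} : Set G) := by
      ext h
      simp only [Subgroup.mem_inf, mem_centralizer_singleton_iff]
      refine and_congr_right fun hh => ?_
      have hzh : Commute h z := hh
      rcases r with r | r
      · rw [r]
      · rw [r]
        refine ⟨fun hq => ?_, fun hq => (Commute.mul_right (show Commute h (t0 z e) from hq) hzh).eq⟩
        have := (show Commute h (t0 z e * z) from hq).mul_right hzh
        rwa [mul_assoc, K.sq_z, mul_one] at this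
    have h3 : (centralizer ({z} : Set G) ⊓ centralizer ({u} : Set G)).map (MulAut.conj g⁻¹).toMonoidHom =
        centralizer ({z} : Set G) ⊓ centralizer ({w} : Set G) := by
      ext h
      constructor
      · rintro ⟨y, ⟨hy, hyu⟩, rfl⟩
        have := hmove y hy (mem_centralizer_singleton_iff.1 hyu)
        simp only [MulEquiv.coe_toMonoidHom, MulAut.conj_apply, inv_inv]
        exact ⟨this.1, mem_centralizer_singleton_iff.2 this.2.eq⟩
      · rintro ⟨hy, hyw⟩
        have hy' : Commute h z := mem_centralizer_singleton_iff.1 hy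
        have hyw' : Commute h w := mem_centralizer_singleton_iff.1 hyw
        refine ⟨g * h * g⁻¹, ⟨mem_centralizer_singleton_iff.2 ?_, mem_centralizer_singleton_iff.2 ?_⟩, ?_⟩
        · calc g * h * g⁻¹ * z = g * (h * w) * g⁻¹ := by rw [hwdef]; group
            _ = g * (w * h) * g⁻¹ := by rw [hyw'.eq]
            _ = z * (g * h * g⁻¹) := by rw [hwdef]; group
        · calc g * h * g⁻¹ * u = g * (h * z) * g⁻¹ := by rw [← hg]; group
            _ = g * (z * h) * g⁻¹ := by rw [hy'.eq]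
            _ = u * (g * h * g⁻¹) := by rw [← hg]; group
        · simp only [MulEquiv.coe_toMonoidHom, MulAut.conj_apply]
          group
    rw [← hsame, ← h3, Subgroup.card_map_of_injective (MulAut.conj g⁻¹).injective] at e2
    omega
  · obtain ⟨k, hk⟩ := (K.card_cent_ptype hwE (K.fused_sq hw) hwc).2
    have h1 : sig z e w = 1 := K.frame.sig_mem_E hwE
    exact perm_fix_invol k _ (hk _ hX hXw) (hne h1) (hsq.symm.trans h1)
  · exact (perm_sq_of_sq _ (by rw [← hsq]; exact r.1) (by rw [← hsq]; exact r.2.1)).1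
  · exact absurd (hsq ▸ r) (perm_sq_not_tr _)

theorem not_tr (K : Ctx z E e) {u : G} (hu : Fused z u) : ¬ IsTR (sig z e u) := by
  intro hp
  obtain ⟨g, hg, hw, hmove⟩ := K.partner hu
  set w := g⁻¹ * z * g with hwdef
  obtain ⟨d, hd, hdu, hd2⟩ := K.tr_four hu.2.1 hp (K.fused_sq hu)
  obtain ⟨hDC, hDw⟩ := hmove d (K.mem_C hd) hdu.symm
  obtain ⟨hsq, -⟩ := K.square_image hg hw hd2 hDC
  -- the preimage of a commutator
  have hback : ∀ a b, a ∈ centralizer ({z} : Set G) → Commute a w → b ∈ centralizer ({z} : Set G) →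
      Commute b w → ⁅a, b⁆ = z → False := by
    intro a b ha haw hb hbw hab
    have mv : ∀ h, h ∈ centralizer ({z} : Set G) → Commute h w →
        g * h * g⁻¹ ∈ centralizer ({z} : Set G) ∧ Commute (g * h * g⁻¹) u := by
      intro h hh hhw
      refine ⟨mem_centralizer_singleton_iff.2 ?_, ?_⟩
      · calc g * h * g⁻¹ * z = g * (h * w) * g⁻¹ := by rw [hwdef]; group
          _ = g * (w * h) * g⁻¹ := by rw [hhw.eq]
          _ = z * (g * h * g⁻¹) := by rw [hwdef]; group
      · show _ = _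
        calc g * h * g⁻¹ * u = g * (h * z) * g⁻¹ := by rw [← hg]; group
          _ = g * (z * h) * g⁻¹ := by rw [(K.comm_z hh).eq]
          _ = u * (g * h * g⁻¹) := by rw [← hg]; group
    obtain ⟨a1, a2⟩ := mv a ha haw
    obtain ⟨b1, b2⟩ := mv b hb hbw
    have e1 : ⁅g * a * g⁻¹, g * b * g⁻¹⁆ = u := by
      rw [← hg, ← hab, commutatorElement_def, commutatorElement_def]; group
    have ca : sig z e (g * a * g⁻¹) * sig z e u = sig z e u * sig z e (g * a * g⁻¹) := by
      rw [← K.frame.sig_mul a1 hu.2.1, ← K.frame.sig_mul hu.2.1 a1, a2.eq]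
    have cb : sig z e (g * b * g⁻¹) * sig z e u = sig z e u * sig z e (g * b * g⁻¹) := by
      rw [← K.frame.sig_mul b1 hu.2.1, ← K.frame.sig_mul hu.2.1 b1, b2.eq]
    have hc := tr_cent_comm _ hp _ ca _ cb
    have : sig z e u = 1 := by
      rw [← e1, commutatorElement_def, K.frame.sig_mul (mul_mem (mul_mem a1 b1) (inv_mem a1)) (inv_mem b1),
        K.frame.sig_mul (mul_mem a1 b1) (inv_mem a1), K.frame.sig_mul a1 b1, K.frame.sig_inv a1,
        K.frame.sig_inv b1, hc, mul_inv_cancel_right, mul_inv_cancel]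
    rw [this] at hp
    exact absurd hp.2 (by simp)
  rcases K.invol_cases hw.2.1 (K.fused_sq hw) (K.fused_ne_one hw) hw.2.2 with r | ⟨hwE, hwc⟩ | r | r
  · -- `z` is a square in the centraliser of `t₀`
    obtain ⟨x, hxE, hxc, hx2⟩ : ∃ x ∈ E, Commute x (t0 z e) ∧ x * x = z := by
      refine ⟨e 0 * e 1, mul_mem (K.frame.mem 0) (K.frame.mem 1), ?_, ?_⟩ <;>
        rw [← Frame.el_gen (z := z) (e := e) 0, ← Frame.el_gen (z := z) (e := e) 1,
          K.frame.el_mul (by norm_num) (by norm_num)]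
      · show el z e _ * el z e 15 = el z e 15 * el z e _
        rw [K.frame.el_mul (Model.mul_lt _ (by norm_num) _ (by norm_num)) (by norm_num),
          K.frame.el_mul (by norm_num) (Model.mul_lt _ (by norm_num) _ (by norm_num))]
        congr 1
      · rw [K.frame.el_mul (Model.mul_lt _ (by norm_num) _ (by norm_num)) (Model.mul_lt _ (by norm_num) _ (by norm_num))]
        exact (congrArg (el z e) (by decide +kernel)).trans Frame.el_16
    have hxw : Commute x w := by
      rcases r with r | r <;> rw [r]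
      · exact hxc
      · exact hxc.mul_right (K.frame.extra.z_comm hxE).symm
    have hxC := K.mem_C hxE
    have m1 : g * x * g⁻¹ ∈ centralizer ({z} : Set G) := by
      refine mem_centralizer_singleton_iff.2 ?_
      calc g * x * g⁻¹ * z = g * (x * w) * g⁻¹ := by rw [hwdef]; group
        _ = g * (w * x) * g⁻¹ := by rw [hxw.eq]
        _ = z * (g * x * g⁻¹) := by rw [hwdef]; group
    refine perm_sq_not_tr (sig z e (g * x * g⁻¹)) ?_
    rwa [← K.frame.sig_mul m1 m1, conj_mul, hx2, hg]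
  · exact hwc (K.not_ptype hw hwE)
  · -- the image of `d` moves `t₀`
    have hfc := (perm_sq_of_sq _ (by rw [← hsq]; exact r.1) (by rw [← hsq]; exact r.2.1)).2
    have e4 : g⁻¹ * d * g * (g⁻¹ * d * g) * (g⁻¹ * d * g * (g⁻¹ * d * g)) = 1 := by
      rw [show g⁻¹ * d * g * (g⁻¹ * d * g) * (g⁻¹ * d * g * (g⁻¹ * d * g)) = g⁻¹ * (d * d * (d * d)) * g by
        group, hd2, K.sq_z]
      group
    have hmv := K.fc_moves hDC hfc e4
    refine hback _ _ hDC hDw K.t0_mem_C (K.dt_commute_t0 hw.2.1 r (K.fused_sq hw)).symm ?_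
    have e2 := (K.commute_t0_or hDC).resolve_left hmv
    rw [commutatorElement_def, e2, inv_eq_of_mul_eq_one_right K.t0_sq, mul_assoc,
      K.frame.extra.z_comm K.t0_mem, ← mul_assoc, K.t0_sq, one_mul]
  · exact absurd (hsq ▸ r) (perm_sq_not_tr _)

theorem fused_cases (K : Ctx z E e) {u : G} (hu : Fused z u) :
    u = t0 z e ∨ u = t0 z e * z ∨ IsDT (sig z e u) := by
  rcases K.invol_cases hu.2.1 (K.fused_sq hu) (K.fused_ne_one hu) hu.2.2 with (r | r) | ⟨hE, hc⟩ | r | r
  · exact Or.inl r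
  · exact Or.inr (Or.inl r)
  · exact absurd (K.not_ptype hu hE) hc
  · exact Or.inr (Or.inr r)
  · exact absurd r (K.not_tr hu)

theorem t0z_conj (K : Ctx z E e) : IsConj (t0 z e) (t0 z e * z) := by
  obtain ⟨q, -, hqe⟩ := K.frame.extra.exists_conj_eq K.t0_mem K.t0_ne_one K.t0_ne_z
  exact isConj_iff.2 ⟨q, hqe⟩

/-- If some other conjugate of `z` commutes with `z`, then `t₀` is one. -/
theorem t0_fused (K : Ctx z E e) {u : G} (hu : Fused z u) : IsConj z (t0 z e) := by
  have hT : ∀ v, v = t0 z e ∨ v = t0 z e * z → IsConj z v → IsConj z (t0 z e) := by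
    rintro v (rfl | rfl) h
    · exact h
    · exact h.trans K.t0z_conj.symm
  rcases K.fused_cases hu with r | r | hp
  · exact hT _ (Or.inl r) hu.1
  · exact hT _ (Or.inr r) hu.1
  obtain ⟨g, hg, hw, hmove⟩ := K.partner hu
  set w := g⁻¹ * z * g with hwdef
  rcases K.fused_cases hw with r | r | hwp
  · exact hT _ (Or.inl r) hw.1
  · exact hT _ (Or.inr r) hw.1
  have hu2 := K.fused_sq hu
  have hw2 := K.fused_sq hw
  have hzw : g⁻¹ * u * g = z := by rw [← hg]; group
  have ht0u := K.dt_commute_t0 hu.2.1 hp hu2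
  obtain ⟨hxC, hxw⟩ := hmove (t0 z e) K.t0_mem_C ht0u.symm
  set x := g⁻¹ * t0 z e * g with hxdef
  have hx2 : x * x = 1 := by
    rw [hxdef, show g⁻¹ * t0 z e * g * (g⁻¹ * t0 z e * g) = g⁻¹ * (t0 z e * t0 z e) * g by group, K.t0_sq]
    group
  have hxcj : IsConj x (t0 z e) := isConj_iff.2 ⟨g, by rw [hxdef]; group⟩
  have hdt : ∀ v, v ∈ centralizer ({z} : Set G) → v * v = 1 → IsDT (sig z e v) → IsConj z v := by
    intro v hv hv2 hvp
    obtain ⟨h, -, hh⟩ := K.dt_conj hu.2.1 hp hu2 hv hvp hv2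
    exact hu.1.trans (isConj_iff.2 ⟨h, hh⟩)
  rcases perm_kinds _ (K.sig_sq hxC hx2) with r | r | r
  · -- `x ∈ E`
    rcases K.dt_fixed hw.2.1 hwp hw2 (K.frame.mem_E_of_sig hxC r) hxw.symm with s | s | s | s
    · exact absurd s (fun s => K.t0_ne_one (by
        rw [show t0 z e = g * x * g⁻¹ by rw [hxdef]; group, s]; group))
    · exfalso
      have e1 : t0 z e = u := by rw [show t0 z e = g * x * g⁻¹ by rw [hxdef]; group, s, hg]
      rw [← e1, K.frame.sig_mem_E K.t0_mem] at hp
      exact hp.1 rfl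
    all_goals
      have hxC' := hxC
      refine (hdt (x * w) (mul_mem hxC hw.2.1) ?_ ?_).trans ?_
      · rw [hxw.symm.mul_mul_mul_comm, hx2, hw2, one_mul]
      · rw [K.frame.sig_mul hxC hw.2.1, r, one_mul]; exact hwp
      · refine IsConj.trans (isConj_iff.2 ⟨g, ?_⟩) K.t0z_conj.symm
        rw [hxdef, hwdef]
        group
  · exact (hdt x hxC hx2 r).trans hxcj
  · exfalso
    have hmv : ¬ Commute x (t0 z e) := K.tr_dt hxC r hx2 hw.2.1 hwp hw2 hxw
    have hwt := K.dt_commute_t0 hw.2.1 hwp hw2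
    obtain ⟨hTC, hTu⟩ : g * t0 z e * g⁻¹ ∈ centralizer ({z} : Set G) ∧ Commute (g * t0 z e * g⁻¹) u := by
      refine ⟨mem_centralizer_singleton_iff.2 ?_, ?_⟩
      · calc g * t0 z e * g⁻¹ * z = g * (t0 z e * w) * g⁻¹ := by rw [hwdef]; group
          _ = g * (w * t0 z e) * g⁻¹ := by rw [hwt.eq]
          _ = z * (g * t0 z e * g⁻¹) := by rw [hwdef]; group
      · show _ = _
        calc g * t0 z e * g⁻¹ * u = g * (t0 z e * z) * g⁻¹ := by rw [← hg]; group
          _ = g * (z * t0 z e) * g⁻¹ := by rw [(K.comm_z K.t0_mem_C).eq]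
          _ = u * (g * t0 z e * g⁻¹) := by rw [← hg]; group
    -- commutator preimage
    have hq : x * t0 z e * x⁻¹ * (t0 z e)⁻¹ = z := by
      rw [(K.commute_t0_or hxC).resolve_left hmv, inv_eq_of_mul_eq_one_right K.t0_sq, mul_assoc,
        K.frame.extra.z_comm K.t0_mem, ← mul_assoc, K.t0_sq, one_mul]
    set T := g * t0 z e * g⁻¹ with hTdef
    have hcomm : t0 z e * T * (t0 z e)⁻¹ * T⁻¹ = u := by
      calc t0 z e * T * (t0 z e)⁻¹ * T⁻¹ = g * (x * t0 z e * x⁻¹ * (t0 z e)⁻¹) * g⁻¹ := by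
            rw [hTdef, hxdef]; group
        _ = u := by rw [hq, hg]
    have hTsame : sig z e u = 1 := by
      rw [← hcomm, K.frame.sig_mul (mul_mem (mul_mem K.t0_mem_C hTC) (inv_mem K.t0_mem_C)) (inv_mem hTC),
        K.frame.sig_mul (mul_mem K.t0_mem_C hTC) (inv_mem K.t0_mem_C), K.frame.sig_mul K.t0_mem_C hTC,
        K.frame.sig_inv K.t0_mem_C, K.frame.sig_inv hTC, K.frame.sig_mem_E K.t0_mem]
      group
    exact hp.1 hTsame

end Ctx

end CfsgLib.Recognition.PSLThreeFourAut
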