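import Cfsg.Agent.Lib.Recognition.PSLThreeFourAut.Small

/-!
# Points and lines
-/

set_option autoImplicit false
set_option maxRecDepth 100000
set_option linter.unusedSectionVars false

namespace CfsgLib.Recognition.PSLThreeFourAut

open Subgroup CfsgLib.Involution FourSplit

variable {G : Type*} [Group G] [Finite G]

/-- The conjugate of a subgroup. -/
def cj (g : G) (X : Subgroup G) : Subgroup G := X.map (MulAut.conj g).toMonoidHom

theorem mem_cj {g u : G} {X : Subgroup G} : u ∈ cj g X ↔ g⁻¹ * u * g ∈ X := by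
  constructor
  · rintro ⟨v, hv, rfl⟩
    simp only [MulEquiv.coe_toMonoidHom, MulAut.conj_apply]
    rwa [show g⁻¹ * (g * v * g⁻¹) * g = v by group]
  · intro h
    exact ⟨_, h, by simp only [MulEquiv.coe_toMonoidHom, MulAut.conj_apply]; group⟩

theorem mem_cj' {g u : G} {X : Subgroup G} : g * u * g⁻¹ ∈ cj g X ↔ u ∈ X := by
  rw [mem_cj, show g⁻¹ * (g * u * g⁻¹) * g = u by group]

theorem cj_mul (g h : G) (X : Subgroup G) : cj g (cj h X) = cj (g * h) X := by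
  ext u
  simp only [mem_cj, mul_inv_rev, mul_assoc]

theorem cj_one (X : Subgroup G) : cj 1 X = X := by
  ext u; simp [mem_cj]

theorem card_cj (g : G) (X : Subgroup G) : Nat.card (cj g X) = Nat.card X :=
  Subgroup.card_map_of_injective (MulAut.conj g).injective

theorem cj_eq_of_maps {g : G} {X Y : Subgroup G} (hmap : ∀ u ∈ X, g * u * g⁻¹ ∈ Y)
    (hc : Nat.card X = Nat.card Y) : cj g X = Y := by
  refine Subgroup.eq_of_le_of_card_ge ?_ (by rw [card_cj, hc])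
  rintro _ ⟨v, hv, rfl⟩
  exact hmap v hv

theorem cj_inv_cancel (g : G) (X : Subgroup G) : cj g⁻¹ (cj g X) = X := by rw [cj_mul, inv_mul_cancel, cj_one]

/-- Counting by three. -/
theorem five_count {X : Subgroup G} (hX : Nat.card X = 16) (F : Set (Subgroup G))
    (huniq : ∀ u ∈ X, u ≠ 1 → ∃! Y, Y ∈ F ∧ u ∈ Y)
    (hfour : ∀ Y ∈ F, ∀ u ∈ X, u ≠ 1 → u ∈ Y → Nat.card (X ⊓ Y : Subgroup G) = 4) :
    {Y | Y ∈ F ∧ ∃ u ∈ X, u ≠ 1 ∧ u ∈ Y}.ncard = 5 := by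
  classical
  haveI := Fintype.ofFinite G
  set S : Finset G := Finset.univ.filter fun u => u ∈ X ∧ u ≠ 1
  have hS : S.card = 15 := by
    have h1 : S = (Finset.univ.filter fun u => u ∈ X).erase 1 := by
      ext u; simp [S, and_comm]
    rw [h1, Finset.card_erase_of_mem (by simp [one_mem])]
    have : (Finset.univ.filter fun u => u ∈ X).card = 16 := by
      rw [← hX, ← SetLike.coe_sort_coe, Nat.card_coe_set_eq, ← Set.ncard_coe_finset]
      congr 1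
      ext u; simp
    omega
  let f : G → Subgroup G := fun u => if hu : u ∈ X ∧ u ≠ 1 then (huniq u hu.1 hu.2).choose else ⊥
  have hf : ∀ u ∈ S, f u ∈ F ∧ u ∈ f u := fun u hu => by
    have hu' := (Finset.mem_filter.1 hu).2
    simp only [f, dif_pos hu']
    exact (huniq u hu'.1 hu'.2).choose_spec.1
  have himg : {Y | Y ∈ F ∧ ∃ u ∈ X, u ≠ 1 ∧ u ∈ Y} = ↑(S.image f) := by
    ext Y
    simp only [Set.mem_setOf_eq, Finset.coe_image, Set.mem_image, Finset.mem_coe]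
    constructor
    · rintro ⟨hY, u, hu, hu1, huY⟩
      have hu' : u ∈ S := Finset.mem_filter.2 ⟨Finset.mem_univ _, hu, hu1⟩
      exact ⟨u, hu', (huniq u hu hu1).unique (hf u hu') ⟨hY, huY⟩⟩
    · rintro ⟨u, hu, rfl⟩
      have hu' := (Finset.mem_filter.1 hu).2
      exact ⟨(hf u hu).1, u, hu'.1, hu'.2, (hf u hu).2⟩
  rw [himg, Set.ncard_coe_finset]
  have hfib : ∀ Y ∈ S.image f, (S.filter fun u => f u = Y).card = 3 := by
    intro Y hY
    obtain ⟨u0, hu0, rfl⟩ := Finset.mem_image.1 hY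
    have hu0' := (Finset.mem_filter.1 hu0).2
    have h4 := hfour _ (hf u0 hu0).1 u0 hu0'.1 hu0'.2 (hf u0 hu0).2
    have heq : (S.filter fun u => f u = f u0) =
        (Finset.univ.filter fun u => u ∈ X ⊓ f u0).erase 1 := by
      ext u
      simp only [Finset.mem_filter, Finset.mem_erase, Finset.mem_univ, true_and, Subgroup.mem_inf, S]
      constructor
      · rintro ⟨⟨hu, hu1⟩, hfu⟩
        exact ⟨hu1, hu, hfu ▸ (hf u (Finset.mem_filter.2 ⟨Finset.mem_univ _, hu, hu1⟩)).2⟩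
      · rintro ⟨hu1, hu, huY⟩
        exact ⟨⟨hu, hu1⟩, (huniq u hu hu1).unique (hf u (Finset.mem_filter.2 ⟨Finset.mem_univ _, hu, hu1⟩))
          ⟨(hf u0 hu0).1, huY⟩⟩
    rw [heq, Finset.card_erase_of_mem (by simp [one_mem])]
    have : (Finset.univ.filter fun u => u ∈ X ⊓ f u0).card = 4 := by
      rw [← h4, ← SetLike.coe_sort_coe (X ⊓ f u0), Nat.card_coe_set_eq, ← Set.ncard_coe_finset]
      congr 1
      ext u; simp
    omega
  have := Finset.card_eq_sum_card_fiberwise (s := S) (t := S.image f) (f := f) (fun u hu => Finset.mem_image_of_mem f hu)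
  rw [hS, Finset.sum_congr rfl hfib, Finset.sum_const, smul_eq_mul] at this
  omega

namespace Ctx.NG

variable {z : G} {E : Subgroup G} {e : Fin 4 → G} {K : Ctx z E e} {n r x : G}

/-- Every involution of `G₂` is conjugate to `z` under `G₂`. -/
theorem G2_conj (h : NG K n r x) (hU : ∀ u ∈ K.U, u * u = 1 → u ≠ 1 → IsConj z u) {u : G}
    (hu : u ∈ h.G2) (h2 : u * u = 1) (h1 : u ≠ 1) : ∃ g ∈ h.G2, g * z * g⁻¹ = u := by
  obtain ⟨v, hv, hv2, huv⟩ := h.G2_invol_class hu h2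
  refine h.conj_in_G2 ((hU v hv hv2 fun e1 => h1 ?_).trans huv.symm)
  obtain ⟨g, hg⟩ := isConj_iff.1 huv
  rw [e1, conj_eq_one_iff] at hg
  exact hg

/-- A 2-subgroup of `G₂` has order at most 64. -/
theorem two_sub_le (h : NG K n r x) {R : Subgroup G} (hR : IsPGroup 2 R) (hle : R ≤ h.G2) : Nat.card R ≤ 64 := by
  haveI : Fact (Nat.Prime 2) := ⟨Nat.prime_two⟩
  obtain ⟨Q, hQ⟩ := hR.exists_le_sylow
  obtain ⟨g, hg⟩ := MulAction.exists_smul_eq G Q h.sylow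
  rw [← K.card_U, ← card_cj g R]
  refine Subgroup.card_le_of_le fun u hu => ?_
  rw [mem_cj] at hu
  have huT : u ∈ h.T := by
    have : g * (g⁻¹ * u * g) * g⁻¹ ∈ ((g • Q : Sylow 2 G) : Subgroup G) := ⟨_, hQ hu, rfl⟩
    rw [hg, show g * (g⁻¹ * u * g) * g⁻¹ = u by group] at this
    exact this
  have huG : u ∈ h.G2 := by
    have := h.G2_normal.conj_mem _ (hle hu) g
    rwa [show g * (g⁻¹ * u * g) * g⁻¹ = u by group] at this
  obtain ⟨hCC, hs⟩ := (h.G2_inf_C huT.1).1 huG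
  refine ⟨hCC, huT.2.resolve_right fun q => ?_⟩
  rw [q, sign_invol _ h.rho_x.1 h.rho_x.2] at hs
  exact absurd hs (by decide)

theorem G2C_norm_A (h : NG K n r x) {g : G} (hg : g ∈ h.G2) (hgC : g ∈ centralizer ({z} : Set G)) :
    cj g (A K n r) = A K n r := by
  refine cj_eq_of_maps (fun u hu => ?_) rfl
  obtain ⟨v, hv, q | q | q⟩ := h.G2C_dec hg hgC <;> rw [q]
  · exact h.U_conj_A hv hu
  · rw [show v * r * u * (v * r)⁻¹ = v * (r * u * r⁻¹) * v⁻¹ by group]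
    exact h.U_conj_A hv (h.r_A hu)
  · rw [show v * (r * r) * u * (v * (r * r))⁻¹ = v * (r * (r * u * r⁻¹) * r⁻¹) * v⁻¹ by group]
    exact h.U_conj_A hv (h.r_A (h.r_A hu))

theorem U_conj_B (h : NG K n r x) {v u : G} (hv : v ∈ K.U) (hu : u ∈ B K n r) : v * u * v⁻¹ ∈ B K n r := by
  have e1 : x * (v * u * v⁻¹) * x⁻¹ = (x * v * x⁻¹) * (x * u * x⁻¹) * (x * v * x⁻¹)⁻¹ := by group
  have h2 := h.x_span (h.U_conj_A (h.conj_U_CC h.x_mem hv) (h.x_span' hu))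
  rw [← e1] at h2
  rwa [show x * (x * (v * u * v⁻¹) * x⁻¹) * x⁻¹ = (x * x) * (v * u * v⁻¹) * (x * x)⁻¹ by group, h.x2, one_mul,
    inv_one, mul_one] at h2

theorem cj_x_A (h : NG K n r x) : cj x (A K n r) = B K n r :=
  cj_eq_of_maps (fun _ hu => h.x_span hu) (by rw [h.card_A, h.card_B])

theorem cj_x_B (h : NG K n r x) : cj x (B K n r) = A K n r :=
  cj_eq_of_maps (fun _ hu => h.x_span' hu) (by rw [h.card_A, h.card_B])

/-- `A` and `B` are not conjugate in `G₂`. -/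
theorem not_AB (h : NG K n r x) {g : G} (hg : g ∈ h.G2) : cj g (A K n r) ≠ B K n r := by
  classical
  haveI : Fact (Nat.Prime 2) := ⟨Nat.prime_two⟩
  intro hgAB
  set N := h.G2 ⊓ normalizer (A K n r : Set G) with hN
  have hUN : K.U ≤ N := fun v hv => ⟨h.U_le_G2 hv, by
    refine Subgroup.mem_normalizer_iff.2 ?_
    intro u
    refine ⟨fun hu => h.U_conj_A hv hu, fun hu => ?_⟩
    have := h.U_conj_A (inv_mem hv) hu
    rwa [show v⁻¹ * (v * u * v⁻¹) * v⁻¹⁻¹ = u by group] at this⟩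
  have hVN : cj g⁻¹ K.U ≤ N := by
    intro w hw
    rw [mem_cj, inv_inv] at hw
    refine ⟨?_, ?_⟩
    · have := mul_mem (mul_mem (inv_mem hg) (h.U_le_G2 hw)) hg
      rwa [show g⁻¹ * (g * w * g⁻¹) * g = w by group] at this
    · refine Subgroup.mem_normalizer_iff.2 ?_
      have key : ∀ w', g * w' * g⁻¹ ∈ K.U → ∀ u ∈ A K n r, w' * u * w'⁻¹ ∈ A K n r := by
        intro w' hw' u hu
        have h1 : g * u * g⁻¹ ∈ B K n r := hgAB ▸ (mem_cj' (g := g)).2 hu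
        have h2 := h.U_conj_B hw' h1
        rw [show g * w' * g⁻¹ * (g * u * g⁻¹) * (g * w' * g⁻¹)⁻¹ = g * (w' * u * w'⁻¹) * g⁻¹ by group,
          ← hgAB, mem_cj'] at h2
        exact h2
      intro u
      refine ⟨key w hw u, fun hu => ?_⟩
      have := key w⁻¹ (by rw [show g * w⁻¹ * g⁻¹ = (g * w * g⁻¹)⁻¹ by group]; exact inv_mem hw) _ hu
      rwa [show w⁻¹ * (w * u * w⁻¹) * w⁻¹⁻¹ = u by group] at this
  have hU2 : IsPGroup 2 K.U := IsPGroup.of_card (n := 6) (by rw [K.card_U]; norm_num)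
  have mk : ∀ V : Subgroup G, IsPGroup 2 V → V ≤ N → Nat.card V = 64 →
      ∃ S : Sylow 2 N, (S : Subgroup N) = V.subgroupOf N := by
    intro V hV hVle hc
    refine ⟨⟨V.subgroupOf N, hV.comap_of_injective N.subtype N.subtype_injective, fun {R} hR hle => ?_⟩, rfl⟩
    refine (Subgroup.eq_of_le_of_card_ge hle ?_).symm
    have h64 := h.two_sub_le (hR.map N.subtype) fun y hy => by
      obtain ⟨y, -, rfl⟩ := hy
      exact y.2.1
    rw [Subgroup.card_map_of_injective N.subtype_injective] at h64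
    rw [Nat.card_congr (Subgroup.subgroupOfEquivOfLe hVle).toEquiv, hc]
    exact h64
  obtain ⟨S1, hS1⟩ := mk _ hU2 hUN K.card_U
  obtain ⟨S2, hS2⟩ := mk (cj g⁻¹ K.U) (hU2.map _) hVN (by rw [card_cj, K.card_U])
  obtain ⟨m, hm⟩ := MulAction.exists_smul_eq N S1 S2
  have hmA : ∀ u ∈ A K n r, (m : G) * u * (m : G)⁻¹ ∈ A K n r := fun u hu =>
    (Subgroup.mem_normalizer_iff.1 m.2.2 u).1 hu
  set q := g * (m : G) with hq
  have hqU : ∀ v ∈ K.U, q * v * q⁻¹ ∈ K.U := by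
    intro v hv
    have h1 : m * ⟨v, hUN hv⟩ * m⁻¹ ∈ ((m • S1 : Sylow 2 N) : Subgroup N) := by
      refine ⟨⟨v, hUN hv⟩, ?_, rfl⟩
      rw [SetLike.mem_coe, hS1]; exact hv
    rw [hm, hS2, Subgroup.mem_subgroupOf, mem_cj, inv_inv] at h1
    rw [hq, show g * (m : G) * v * (g * (m : G))⁻¹ = g * ((m : G) * v * (m : G)⁻¹) * g⁻¹ by group]
    exact h1
  have hqA : cj q (A K n r) = B K n r := by
    rw [hq, ← cj_mul, cj_eq_of_maps hmA rfl, hgAB]
  have hqG : q ∈ h.G2 := mul_mem hg m.2.1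
  have hU' : cj q K.U = K.U := cj_eq_of_maps hqU rfl
  have hzq : q * z * q⁻¹ ∈ K.Z0 := by
    refine h.center_U (hqU z h.z_mem_U) fun v hv => ?_
    rw [← hU', mem_cj] at hv
    have := (K.Z0_central ((K.mem_Z0).2 (Or.inr (Or.inl rfl))) hv.1).eq
    show q * z * q⁻¹ * v = v * (q * z * q⁻¹)
    calc q * z * q⁻¹ * v = q * (z * (q⁻¹ * v * q)) * q⁻¹ := by group
      _ = q * (q⁻¹ * v * q * z) * q⁻¹ := by rw [this]
      _ = _ := by group
  obtain ⟨s, hs, hsz, hsA⟩ : ∃ s ∈ h.G2, s * z * s⁻¹ = q * z * q⁻¹ ∧ cj s (A K n r) = A K n r := by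
    rcases (K.mem_Z0).1 hzq with e1 | e1 | e1 | e1
    · exact absurd (conj_eq_one_iff.1 e1) K.frame.extra.z_ne
    · exact ⟨1, one_mem _, by rw [e1]; group, cj_one _⟩
    · exact ⟨n, h.n_mem_G2, by rw [e1, h.cyc.1], cj_eq_of_maps (fun u hu => h.n_A hu) rfl⟩
    · refine ⟨n * n, mul_mem h.n_mem_G2 h.n_mem_G2, ?_, cj_eq_of_maps (fun u hu => ?_) rfl⟩
      · rw [e1, show n * n * z * (n * n)⁻¹ = n * (n * z * n⁻¹) * n⁻¹ by group, h.cyc.1, h.cyc.2]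
      · rw [show n * n * u * (n * n)⁻¹ = n * (n * u * n⁻¹) * n⁻¹ by group]
        exact h.n_A (h.n_A hu)
  have hcC : s⁻¹ * q ∈ centralizer ({z} : Set G) := mem_centralizer_singleton_iff.2 (mul_inv_eq_iff_eq_mul.1 (by
    rw [show s⁻¹ * q * z * (s⁻¹ * q)⁻¹ = s⁻¹ * (q * z * q⁻¹) * s by group, ← hsz]; group))
  have := h.G2C_norm_A (mul_mem (inv_mem hs) hqG) hcC
  rw [← cj_mul, hqA] at this
  have hBA : B K n r = A K n r := by
    rw [← cj_one (B K n r), show (1 : G) = s * s⁻¹ by group, ← cj_mul, this, hsA]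
  obtain ⟨a, -, -, ha, ha0⟩ := h.exists_A_out
  exact ha0 (h.A_inf_B ha (hBA.symm ▸ ha))

/-- The stabiliser of `A` is transitive on its involutions. -/
theorem A_trans (h : NG K n r x) (hU : ∀ u ∈ K.U, u * u = 1 → u ≠ 1 → IsConj z u) {a : G}
    (ha : a ∈ A K n r) (ha1 : a ≠ 1) : ∃ g ∈ h.G2, cj g (A K n r) = A K n r ∧ g * z * g⁻¹ = a := by
  obtain ⟨g, hg, he⟩ := h.G2_conj hU (h.U_le_G2 (h.A_le_U ha)) (h.A_sq ha) ha1
  refine ⟨g, hg, ?_, he⟩
  have hsq : ∀ v ∈ cj g⁻¹ (A K n r), v * v = 1 := fun v hv => by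
    rw [mem_cj, inv_inv] at hv
    have := h.A_sq hv
    rw [conj_mul] at this
    exact conj_eq_one_iff.1 this
  have hzW : z ∈ cj g⁻¹ (A K n r) := by rw [mem_cj, inv_inv, he]; exact ha
  have hWU : ∀ v ∈ cj g⁻¹ (A K n r), v ∈ K.U := fun v hv => by
    refine h.G2_invol_C ?_ (mem_centralizer_singleton_iff.2 (comm_of_sq hsq hv hzW).eq) (hsq v hv)
    rw [mem_cj, inv_inv] at hv
    have := mul_mem (mul_mem (inv_mem hg) (h.U_le_G2 (h.A_le_U hv))) hg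
    rwa [show g⁻¹ * (g * v * g⁻¹) * g = v by group] at this
  rcases h.eq_A_or_B hWU hsq (by rw [card_cj, h.card_A]) with q | q
  · conv_lhs => rw [← q]
    rw [cj_mul, mul_inv_cancel, cj_one]
  · exact absurd q (h.not_AB (inv_mem hg))

theorem B_trans (h : NG K n r x) (hU : ∀ u ∈ K.U, u * u = 1 → u ≠ 1 → IsConj z u) {b : G}
    (hb : b ∈ B K n r) (hb1 : b ≠ 1) : ∃ g ∈ h.G2, cj g (B K n r) = B K n r ∧ g * z * g⁻¹ = b := by
  obtain ⟨g, hg, hgA, he⟩ := h.A_trans hU (h.x_span' hb) (fun e1 => hb1 (conj_eq_one_iff.1 e1))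
  refine ⟨x * g * x⁻¹, h.G2_normal.conj_mem g hg x, ?_, ?_⟩
  · rw [← cj_mul, ← cj_mul, h.x_inv, h.cj_x_B, hgA, h.cj_x_A]
  · have hxz : x⁻¹ * z * x⁻¹⁻¹ = z := K.frame.conj_z (inv_mem h.x_mem.1)
    rw [show x * g * x⁻¹ * z * (x * g * x⁻¹)⁻¹ = x * (g * (x⁻¹ * z * x⁻¹⁻¹) * g⁻¹) * x⁻¹ by group, hxz, he,
      show x * (x * b * x⁻¹) * x⁻¹ = (x * x) * b * (x * x)⁻¹ by group, h.x2, one_mul, inv_one, mul_one]

/-- The points. -/
def IsPt (h : NG K n r x) (P : Subgroup G) : Prop := ∃ g ∈ h.G2, P = cj g (A K n r)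

/-- The lines. -/
def IsLn (h : NG K n r x) (L : Subgroup G) : Prop := ∃ g ∈ h.G2, L = cj g (B K n r)

theorem isPt_cj (h : NG K n r x) {P : Subgroup G} (hP : h.IsPt P) {g : G} (hg : g ∈ h.G2) : h.IsPt (cj g P) := by
  obtain ⟨f, hf, rfl⟩ := hP
  exact ⟨g * f, mul_mem hg hf, cj_mul g f _⟩

theorem isLn_cj (h : NG K n r x) {L : Subgroup G} (hL : h.IsLn L) {g : G} (hg : g ∈ h.G2) : h.IsLn (cj g L) := by
  obtain ⟨f, hf, rfl⟩ := hL
  exact ⟨g * f, mul_mem hg hf, cj_mul g f _⟩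

theorem pt_card (h : NG K n r x) {P : Subgroup G} (hP : h.IsPt P) : Nat.card P = 16 := by
  obtain ⟨g, -, rfl⟩ := hP; rw [card_cj, h.card_A]

theorem ln_card (h : NG K n r x) {P : Subgroup G} (hP : h.IsLn P) : Nat.card P = 16 := by
  obtain ⟨g, -, rfl⟩ := hP; rw [card_cj, h.card_B]

theorem pt_G2 (h : NG K n r x) {P : Subgroup G} (hP : h.IsPt P) {u : G} (hu : u ∈ P) :
    u ∈ h.G2 ∧ u * u = 1 := by
  obtain ⟨g, hg, rfl⟩ := hP
  rw [mem_cj] at hu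
  refine ⟨?_, ?_⟩
  · have := mul_mem (mul_mem hg (h.U_le_G2 (h.A_le_U hu))) (inv_mem hg)
    rwa [show g * (g⁻¹ * u * g) * g⁻¹ = u by group] at this
  · have := h.A_sq hu
    rw [show g⁻¹ * u * g * (g⁻¹ * u * g) = g⁻¹ * (u * u) * g⁻¹⁻¹ by group] at this
    exact conj_eq_one_iff.1 this

theorem ln_G2 (h : NG K n r x) {P : Subgroup G} (hP : h.IsLn P) {u : G} (hu : u ∈ P) :
    u ∈ h.G2 ∧ u * u = 1 := by
  obtain ⟨g, hg, rfl⟩ := hP
  rw [mem_cj] at hu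
  refine ⟨?_, ?_⟩
  · have := mul_mem (mul_mem hg (h.U_le_G2 (h.B_le_U hu))) (inv_mem hg)
    rwa [show g * (g⁻¹ * u * g) * g⁻¹ = u by group] at this
  · have := h.B_sq hu
    rw [show g⁻¹ * u * g * (g⁻¹ * u * g) = g⁻¹ * (u * u) * g⁻¹⁻¹ by group] at this
    exact conj_eq_one_iff.1 this

theorem pt_of_z (h : NG K n r x) (hU : ∀ u ∈ K.U, u * u = 1 → u ≠ 1 → IsConj z u) {P : Subgroup G}
    (hP : h.IsPt P) (hz : z ∈ P) : P = A K n r := by
  obtain ⟨g, hg, rfl⟩ := hP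
  rw [mem_cj] at hz
  obtain ⟨m, hm, hmA, he⟩ := h.A_trans hU hz (fun e1 => K.frame.extra.z_ne
    (conj_eq_one_iff.1 (show g⁻¹ * z * g⁻¹⁻¹ = 1 by rw [inv_inv]; exact e1)))
  rw [← hmA, cj_mul]
  refine Eq.trans (h.G2C_norm_A (mul_mem hg hm) ?_) hmA.symm
  refine mem_centralizer_singleton_iff.2 (mul_inv_eq_iff_eq_mul.1 ?_)
  rw [show g * m * z * (g * m)⁻¹ = g * (m * z * m⁻¹) * g⁻¹ by group, he]
  group

theorem ln_of_z (h : NG K n r x) (hU : ∀ u ∈ K.U, u * u = 1 → u ≠ 1 → IsConj z u) {P : Subgroup G}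
    (hP : h.IsLn P) (hz : z ∈ P) : P = B K n r := by
  obtain ⟨g, hg, rfl⟩ := hP
  have e1 : cj x (cj g (B K n r)) = cj (x * g * x⁻¹) (A K n r) := by
    rw [← h.cj_x_B, cj_mul, cj_mul]
    congr 1
    group
  have hxz : x * z * x⁻¹ = z := K.frame.conj_z h.x_mem.1
  have h2 := h.pt_of_z hU (P := cj x (cj g (B K n r))) ⟨_, h.G2_normal.conj_mem g hg x, e1⟩
    (by have := (mem_cj' (g := x)).2 hz; rwa [hxz] at this)
  rw [← cj_inv_cancel x (cj g (B K n r)), h2, h.x_inv, h.cj_x_A]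

theorem pt_unique (h : NG K n r x) (hU : ∀ u ∈ K.U, u * u = 1 → u ≠ 1 → IsConj z u) {P Q : Subgroup G}
    (hP : h.IsPt P) (hQ : h.IsPt Q) {u : G} (hu : u ∈ P) (hu' : u ∈ Q) (h1 : u ≠ 1) : P = Q := by
  obtain ⟨g, hg, he⟩ := h.G2_conj hU (h.pt_G2 hP hu).1 (h.pt_G2 hP hu).2 h1
  have key : ∀ R, h.IsPt R → u ∈ R → R = cj g (A K n r) := fun R hR huR => by
    rw [← h.pt_of_z hU (h.isPt_cj hR (inv_mem hg)) (by rw [mem_cj, inv_inv, he]; exact huR), cj_mul,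
      mul_inv_cancel, cj_one]
  rw [key P hP hu, key Q hQ hu']

theorem ln_unique (h : NG K n r x) (hU : ∀ u ∈ K.U, u * u = 1 → u ≠ 1 → IsConj z u) {P Q : Subgroup G}
    (hP : h.IsLn P) (hQ : h.IsLn Q) {u : G} (hu : u ∈ P) (hu' : u ∈ Q) (h1 : u ≠ 1) : P = Q := by
  obtain ⟨g, hg, he⟩ := h.G2_conj hU (h.ln_G2 hP hu).1 (h.ln_G2 hP hu).2 h1
  have key : ∀ R, h.IsLn R → u ∈ R → R = cj g (B K n r) := fun R hR huR => by
    rw [← h.ln_of_z hU (h.isLn_cj hR (inv_mem hg)) (by rw [mem_cj, inv_inv, he]; exact huR), cj_mul,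
      mul_inv_cancel, cj_one]
  rw [key P hP hu, key Q hQ hu']

theorem exists_pt_ln (h : NG K n r x) (hU : ∀ u ∈ K.U, u * u = 1 → u ≠ 1 → IsConj z u) {u : G}
    (hu : u ∈ h.G2) (h2 : u * u = 1) (h1 : u ≠ 1) :
    ∃ g ∈ h.G2, g * z * g⁻¹ = u ∧ u ∈ cj g (A K n r) ∧ u ∈ cj g (B K n r) := by
  obtain ⟨g, hg, he⟩ := h.G2_conj hU hu h2 h1
  have hz : z ∈ K.Z0 := (K.mem_Z0).2 (Or.inr (Or.inl rfl))
  refine ⟨g, hg, he, ?_, ?_⟩ <;> rw [← he, mem_cj']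
  · exact h.Z0_le_A hz
  · exact h.Z0_le_B hz

/-- A point and a line with a common involution. -/
theorem flag (h : NG K n r x) (hU : ∀ u ∈ K.U, u * u = 1 → u ≠ 1 → IsConj z u) {P L : Subgroup G}
    (hP : h.IsPt P) (hL : h.IsLn L) {u : G} (hu : u ∈ P) (hu' : u ∈ L) (h1 : u ≠ 1) :
    ∃ g ∈ h.G2, P = cj g (A K n r) ∧ L = cj g (B K n r) ∧ Nat.card (P ⊓ L : Subgroup G) = 4 := by
  obtain ⟨g, hg, -, hA, hB⟩ := h.exists_pt_ln hU (h.pt_G2 hP hu).1 (h.pt_G2 hP hu).2 h1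
  have e1 := h.pt_unique hU hP ⟨g, hg, rfl⟩ hu hA h1
  have e2 := h.ln_unique hU hL ⟨g, hg, rfl⟩ hu' hB h1
  refine ⟨g, hg, e1, e2, ?_⟩
  rw [e1, e2, show cj g (A K n r) ⊓ cj g (B K n r) = cj g K.Z0 by
    ext y
    simp only [Subgroup.mem_inf, mem_cj]
    exact ⟨fun q => h.A_inf_B q.1 q.2, fun q => ⟨h.Z0_le_A q, h.Z0_le_B q⟩⟩, card_cj, h.card_Z0]

/-- Commuting involutions of `G₂` lie in a common point or a common line. -/
theorem comm_pt_ln (h : NG K n r x) (hU : ∀ u ∈ K.U, u * u = 1 → u ≠ 1 → IsConj z u) {u v : G}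
    (hu : u ∈ h.G2) (hu2 : u * u = 1) (hu1 : u ≠ 1) (hv : v ∈ h.G2) (hv2 : v * v = 1) (hc : Commute u v) :
    (∃ P, h.IsPt P ∧ u ∈ P ∧ v ∈ P) ∨ ∃ L, h.IsLn L ∧ u ∈ L ∧ v ∈ L := by
  obtain ⟨g, hg, he, hA, hB⟩ := h.exists_pt_ln hU hu hu2 hu1
  have hv' : g⁻¹ * v * g ∈ h.G2 := mul_mem (mul_mem (inv_mem hg) hv) hg
  have hv'2 : g⁻¹ * v * g * (g⁻¹ * v * g) = 1 := by
    rw [show g⁻¹ * v * g * (g⁻¹ * v * g) = g⁻¹ * (v * v) * g by group, hv2]; group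
  have hcz : Commute (g⁻¹ * v * g) z := by
    rw [show z = g⁻¹ * u * g by rw [← he]; group]
    show g⁻¹ * v * g * (g⁻¹ * u * g) = g⁻¹ * u * g * (g⁻¹ * v * g)
    calc g⁻¹ * v * g * (g⁻¹ * u * g) = g⁻¹ * (v * u) * g := by group
      _ = g⁻¹ * (u * v) * g := by rw [hc.eq]
      _ = _ := by group
  rcases h.invol_mem (h.G2_invol_C hv' (mem_centralizer_singleton_iff.2 hcz.eq) hv'2) hv'2 with q | q
  · exact Or.inl ⟨_, ⟨g, hg, rfl⟩, hA, mem_cj.2 q⟩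
  · exact Or.inr ⟨_, ⟨g, hg, rfl⟩, hB, mem_cj.2 q⟩

theorem five_lines (h : NG K n r x) (hU : ∀ u ∈ K.U, u * u = 1 → u ≠ 1 → IsConj z u) {P : Subgroup G}
    (hP : h.IsPt P) : {L | h.IsLn L ∧ ∃ u ∈ P, u ≠ 1 ∧ u ∈ L}.ncard = 5 := by
  refine five_count (h.pt_card hP) {L | h.IsLn L} (fun u hu h1 => ?_) fun L hL u hu h1 huL => ?_
  · obtain ⟨g, hg, -, -, hB⟩ := h.exists_pt_ln hU (h.pt_G2 hP hu).1 (h.pt_G2 hP hu).2 h1
    exact ⟨_, ⟨⟨g, hg, rfl⟩, hB⟩, fun L hL => h.ln_unique hU hL.1 ⟨g, hg, rfl⟩ hL.2 hB h1⟩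
  · obtain ⟨-, -, -, -, h4⟩ := h.flag hU hP hL hu huL h1
    exact h4

theorem five_points (h : NG K n r x) (hU : ∀ u ∈ K.U, u * u = 1 → u ≠ 1 → IsConj z u) {L : Subgroup G}
    (hL : h.IsLn L) : {P | h.IsPt P ∧ ∃ u ∈ L, u ≠ 1 ∧ u ∈ P}.ncard = 5 := by
  refine five_count (h.ln_card hL) {P | h.IsPt P} (fun u hu h1 => ?_) fun P hP u hu h1 huP => ?_
  · obtain ⟨g, hg, -, hA, -⟩ := h.exists_pt_ln hU (h.ln_G2 hL hu).1 (h.ln_G2 hL hu).2 h1
    exact ⟨_, ⟨⟨g, hg, rfl⟩, hA⟩, fun P hP => h.pt_unique hU hP.1 ⟨g, hg, rfl⟩ hP.2 hA h1⟩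
  · obtain ⟨-, -, -, -, h4⟩ := h.flag hU hP hL huP hu h1
    rw [inf_comm]; exact h4

/-- An involution of a point fixes another point of a line through it only if it lies on that line. -/
theorem fix_iff (h : NG K n r x) (hU : ∀ u ∈ K.U, u * u = 1 → u ≠ 1 → IsConj z u) {P Q L : Subgroup G}
    (hP : h.IsPt P) (hQ : h.IsPt Q) (hL : h.IsLn L) (hPQ : P ≠ Q) {u w a : G} (hu : u ∈ P) (huL : u ∈ L)
    (hu1 : u ≠ 1) (hw : w ∈ Q) (hwL : w ∈ L) (hw1 : w ≠ 1) (ha : a ∈ P) (ha1 : a ≠ 1) :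
    cj a Q = Q ↔ a ∈ L := by
  classical
  obtain ⟨gP, hgP, rfl⟩ := hP
  obtain ⟨gL, hgL, rfl⟩ := hL
  have haG := h.pt_G2 ⟨gP, hgP, rfl⟩ ha
  have hPc : ∀ p ∈ cj gP (A K n r), Commute a p := fun p hp =>
    comm_of_sq (fun y hy => (h.pt_G2 ⟨gP, hgP, rfl⟩ hy).2) ha hp
  have hLc : ∀ p ∈ cj gL (B K n r), ∀ q ∈ cj gL (B K n r), Commute p q := fun p hp q hq =>
    comm_of_sq (fun y hy => (h.ln_G2 ⟨gL, hgL, rfl⟩ hy).2) hp hq
  have hfixed : ∀ {y : G} {X : Subgroup G}, Commute a y → y ∈ X → y ∈ cj a X := fun {y X} hc hy => by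
    rw [mem_cj, mul_assoc, ← hc.eq, inv_mul_cancel_left]; exact hy
  constructor
  · intro hfix
    have hL' : cj a (cj gL (B K n r)) = cj gL (B K n r) :=
      h.ln_unique hU (h.isLn_cj ⟨gL, hgL, rfl⟩ haG.1) ⟨gL, hgL, rfl⟩ (hfixed (hPc u hu) huL) huL hu1
    set M : Subgroup G := Q ⊓ cj gL (B K n r) with hM
    haveI := Fintype.ofFinite M
    have hM4 : Fintype.card M = 4 := by
      obtain ⟨-, -, -, -, h4⟩ := h.flag hU hQ ⟨gL, hgL, rfl⟩ hw hwL hw1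
      rw [← Nat.card_eq_fintype_card]; exact h4
    have hmove : ∀ y ∈ M, a * y * a⁻¹ ∈ M := fun y hy =>
      ⟨hfix ▸ (mem_cj' (g := a)).2 hy.1, hL' ▸ (mem_cj' (g := a)).2 hy.2⟩
    let σ : Equiv.Perm M :=
      Function.Involutive.toPerm (fun y : M => ⟨a * y * a⁻¹, hmove y y.2⟩) fun y => Subtype.ext (by
        show a * (a * (y : G) * a⁻¹) * a⁻¹ = y
        rw [show a * (a * (y : G) * a⁻¹) * a⁻¹ = (a * a) * y * (a * a)⁻¹ by group, haG.2, one_mul, inv_one, mul_one])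
    haveI : Fact (Nat.Prime 2) := ⟨Nat.prime_two⟩
    have hσ : σ ^ 2 ^ 1 = 1 := by
      ext y
      simp only [pow_one, pow_two, Equiv.Perm.mul_apply, Equiv.Perm.one_apply]
      exact congrArg Subtype.val (Function.Involutive.toPerm_involutive _ y)
    obtain ⟨c, hc, hc1⟩ := Equiv.Perm.exists_fixed_point_of_prime' (p := 2) (n := 1) (by rw [hM4]; norm_num) hσ
      (a := (1 : M)) (Subtype.ext (show a * ((1 : M) : G) * a⁻¹ = 1 by simp))
    have hac : Commute a c := mul_inv_eq_iff_eq_mul.1 (congrArg Subtype.val hc : a * (c : G) * a⁻¹ = c)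
    have hc1' : (c : G) ≠ 1 := fun q => hc1 (Subtype.ext q)
    rcases h.comm_pt_ln hU haG.1 haG.2 ha1 (h.pt_G2 hQ c.2.1).1 (h.pt_G2 hQ c.2.1).2 hac with
      ⟨R, hR, haR, hcR⟩ | ⟨R, hR, haR, hcR⟩
    · exact absurd ((h.pt_unique hU ⟨gP, hgP, rfl⟩ hR ha haR ha1).trans
        (h.pt_unique hU hR hQ hcR c.2.1 hc1')) hPQ
    · exact h.ln_unique hU hR ⟨gL, hgL, rfl⟩ hcR c.2.2 hc1' ▸ haR
  · intro haL
    exact h.pt_unique hU (h.isPt_cj hQ haG.1) hQ (hfixed (hLc a haL w hwL) hw) hw hw1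

/-- Two points lie on at most one line. -/
theorem no_digon (h : NG K n r x) (hU : ∀ u ∈ K.U, u * u = 1 → u ≠ 1 → IsConj z u) {P Q L L' : Subgroup G}
    (hP : h.IsPt P) (hQ : h.IsPt Q) (hL : h.IsLn L) (hL' : h.IsLn L') (hPQ : P ≠ Q) {u w u' w' : G}
    (hu : u ∈ P) (huL : u ∈ L) (hu1 : u ≠ 1) (hw : w ∈ Q) (hwL : w ∈ L) (hw1 : w ≠ 1)
    (hu' : u' ∈ P) (huL' : u' ∈ L') (hu1' : u' ≠ 1) (hw' : w' ∈ Q) (hwL' : w' ∈ L') (hw1' : w' ≠ 1) :
    L = L' :=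
  h.ln_unique hU hL hL' huL
    ((h.fix_iff hU hP hQ hL' hPQ hu' huL' hu1' hw' hwL' hw1' hu hu1).1
      ((h.fix_iff hU hP hQ hL hPQ hu huL hu1 hw hwL hw1 hu hu1).2 huL)) hu1

/-- The stabiliser of `A` in `G₂`. -/
def NA (h : NG K n r x) : Subgroup G where
  carrier := {g | g ∈ h.G2 ∧ cj g (A K n r) = A K n r}
  one_mem' := ⟨one_mem _, cj_one _⟩
  mul_mem' := fun {g f} hg hf => ⟨mul_mem hg.1 hf.1, by rw [← cj_mul, hf.2, hg.2]⟩
  inv_mem' := fun {g} hg => ⟨inv_mem hg.1, by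
    conv_lhs => rw [← hg.2]
    exact cj_inv_cancel g _⟩

theorem card_G2C (h : NG K n r x) : Nat.card {g : G // g ∈ h.G2 ∧ g ∈ centralizer ({z} : Set G)} = 192 := by
  have hrp : ∀ i : ℕ, r ^ i ∈ CC z e := fun i => pow_mem h.r_mem i
  let f : K.U × Fin 3 → {g : G // g ∈ h.G2 ∧ g ∈ centralizer ({z} : Set G)} := fun p =>
    ⟨(p.1 : G) * r ^ p.2.val, mul_mem (h.U_le_G2 p.1.2) (pow_mem h.r_mem_G2 _),
      mul_mem p.1.2.1.1 (hrp _).1⟩
  have hf : Function.Bijective f := by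
    constructor
    · rintro ⟨v, i⟩ ⟨w, j⟩ q
      have e1 : (v : G) * r ^ i.val = (w : G) * r ^ j.val := congrArg Subtype.val q
      have e2 := congrArg (rho z e) e1
      rw [K.rho_mul v.2.1 (hrp _), K.rho_mul w.2.1 (hrp _), v.2.2, w.2.2, one_mul, one_mul] at e2
      have hr2 : rho z e (r * r) = rho z e r * rho z e r := K.rho_mul h.r_mem h.r_mem
      have g1 : rho z e r ≠ 1 := h.rho_r.2
      have g2 : rho z e r * rho z e r ≠ 1 := fun q2 => g1 (by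
        have := h.rho_r.1
        rwa [q2, one_mul] at this)
      have g3 : rho z e r * rho z e r ≠ rho z e r := fun q2 => g1 (mul_eq_right.1 q2)
      have hij : i = j := by
        fin_cases i <;> fin_cases j <;>
          simp only [Fin.zero_eta, Fin.mk_one, Fin.val_zero, Fin.val_one, pow_zero, pow_one, pow_two, hr2,
            K.rho_one, Fin.reduceFinMk, Fin.val_two] at e2 <;> first
            | rfl
            | exact absurd e2 g1
            | exact absurd e2.symm g1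
            | exact absurd e2 g2
            | exact absurd e2.symm g2
            | exact absurd e2 g3
            | exact absurd e2.symm g3
      subst hij
      exact Prod.ext (Subtype.ext (mul_right_cancel e1)) rfl
    · rintro ⟨g, hg, hgC⟩
      obtain ⟨v, hv, q | q | q⟩ := h.G2C_dec hg hgC
      · exact ⟨(⟨v, hv⟩, 0), Subtype.ext (by simp [f, q])⟩
      · exact ⟨(⟨v, hv⟩, 1), Subtype.ext (by simp [f, q])⟩
      · exact ⟨(⟨v, hv⟩, 2), Subtype.ext (by simp [f, q, pow_two])⟩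
  rw [← Nat.card_eq_of_bijective f hf, Nat.card_prod, K.card_U, Nat.card_fin]

theorem card_NA (h : NG K n r x) (hU : ∀ u ∈ K.U, u * u = 1 → u ≠ 1 → IsConj z u) :
    Nat.card h.NA = 2880 := by
  classical
  haveI := Fintype.ofFinite G
  choose g hg hgA hgz using fun a : {a : G // a ∈ A K n r ∧ a ≠ 1} => h.A_trans hU a.2.1 a.2.2
  let f : {a : G // a ∈ A K n r ∧ a ≠ 1} × {c : G // c ∈ h.G2 ∧ c ∈ centralizer ({z} : Set G)} → h.NA :=
    fun p => ⟨g p.1 * p.2.1, mul_mem (hg p.1) p.2.2.1,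
      by rw [← cj_mul, h.G2C_norm_A p.2.2.1 p.2.2.2, hgA]⟩
  have hf : Function.Bijective f := by
    constructor
    · rintro ⟨a, c⟩ ⟨b, d⟩ q
      have e1 : g a * c.1 = g b * d.1 := congrArg Subtype.val q
      have e2 : ∀ (a) (c : {c : G // c ∈ h.G2 ∧ c ∈ centralizer ({z} : Set G)}),
          g a * c.1 * z * (g a * c.1)⁻¹ = a.1 := fun a c => by
        rw [show g a * c.1 * z * (g a * c.1)⁻¹ = g a * (c.1 * z * c.1⁻¹) * (g a)⁻¹ by group,
          K.frame.conj_z c.2.2, hgz]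
      have hab : a = b := Subtype.ext (by rw [← e2 a c, e1, e2 b d])
      subst hab
      exact Prod.ext rfl (Subtype.ext (mul_left_cancel e1))
    · rintro ⟨y, hy, hyA⟩
      have ha : y * z * y⁻¹ ∈ A K n r ∧ y * z * y⁻¹ ≠ 1 :=
        ⟨hyA ▸ (mem_cj' (g := y)).2 (h.Z0_le_A ((K.mem_Z0).2 (Or.inr (Or.inl rfl)))),
          fun q => K.frame.extra.z_ne (conj_eq_one_iff.1 q)⟩
      refine ⟨(⟨_, ha⟩, ⟨(g ⟨_, ha⟩)⁻¹ * y, mul_mem (inv_mem (hg _)) hy, ?_⟩),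
        Subtype.ext (mul_inv_cancel_left _ _)⟩
      refine mem_centralizer_singleton_iff.2 (mul_inv_eq_iff_eq_mul.1 ?_)
      rw [show (g ⟨_, ha⟩)⁻¹ * y * z * ((g ⟨_, ha⟩)⁻¹ * y)⁻¹ = (g ⟨_, ha⟩)⁻¹ * (y * z * y⁻¹) * g ⟨_, ha⟩ by group]
      generalize hga : g ⟨_, ha⟩ = ga
      have := hgz ⟨_, ha⟩
      rw [hga] at this
      change ga * z * ga⁻¹ = y * z * y⁻¹ at this
      rw [← this]
      group
  have h15 : Nat.card {a : G // a ∈ A K n r ∧ a ≠ 1} = 15 := by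
    have e1 : {a : G | a ∈ A K n r ∧ a ≠ 1} = (A K n r : Set G) \ {1} := by
      ext a; simp
    show Nat.card ({a : G | a ∈ A K n r ∧ a ≠ 1} : Set G) = 15
    rw [Nat.card_coe_set_eq, e1, Set.ncard_sdiff_singleton_of_mem (one_mem (A K n r))]
    show (A K n r : Set G).ncard - 1 = 15
    rw [← Nat.card_coe_set_eq, show Nat.card (A K n r : Set G) = 16 from h.card_A]
  rw [← Nat.card_eq_of_bijective f hf, Nat.card_prod, h15, h.card_G2C]

theorem card_pts (h : NG K n r x) (hU : ∀ u ∈ K.U, u * u = 1 → u ≠ 1 → IsConj z u) :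
    Nat.card h.G2 = 2880 * Nat.card {P : Subgroup G // h.IsPt P} := by
  classical
  choose g hg hgP using fun P : {P : Subgroup G // h.IsPt P} => P.2
  let f : {P : Subgroup G // h.IsPt P} × h.NA → h.G2 := fun p => ⟨g p.1 * (p.2 : G), mul_mem (hg p.1) p.2.2.1⟩
  have hf : Function.Bijective f := by
    constructor
    · rintro ⟨P, m⟩ ⟨Q, l⟩ q
      have e1 : g P * (m : G) = g Q * (l : G) := congrArg Subtype.val q
      have e2 : ∀ (P) (m : h.NA), cj (g P * (m : G)) (A K n r) = P.1 := fun P m => by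
        rw [← cj_mul, m.2.2, ← hgP]
      have hPQ : P = Q := Subtype.ext (by rw [← e2 P m, e1, e2 Q l])
      subst hPQ
      exact Prod.ext rfl (Subtype.ext (mul_left_cancel e1))
    · rintro ⟨y, hy⟩
      refine ⟨(⟨cj y (A K n r), y, hy, rfl⟩, ⟨(g ⟨cj y (A K n r), y, hy, rfl⟩)⁻¹ * y,
        mul_mem (inv_mem (hg _)) hy, ?_⟩), Subtype.ext (mul_inv_cancel_left _ _)⟩
      generalize hga : g ⟨cj y (A K n r), y, hy, rfl⟩ = ga
      have := hgP ⟨cj y (A K n r), y, hy, rfl⟩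
      rw [hga] at this
      rw [← cj_mul]
      conv_lhs => arg 2; rw [show cj y (A K n r) = cj ga (A K n r) from this]
      exact cj_inv_cancel ga _
  rw [← Nat.card_eq_of_bijective f hf, Nat.card_prod, h.card_NA hU, mul_comm]

/-- The orders. -/
theorem card_caseI (h : NG K n r x) (hU : ∀ u ∈ K.U, u * u = 1 → u ≠ 1 → IsConj z u) :
    Nat.card h.G2 = 60480 ∧ Nat.card G = 241920 ∧ Nat.card {P : Subgroup G // h.IsPt P} = 21 := by
  have e1 := h.card_G1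
  have e2 := h.card_G2
  have e3 := h.card_pts hU
  rcases h.card_G1_formula hU with q | q <;> omega

end Ctx.NG

end CfsgLib.Recognition.PSLThreeFourAut
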