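import Cfsg.Agent.Lib.Recognition.PSLThreeFourAut.Structure
import Mathlib.GroupTheory.Transfer

/-!
# Two homomorphisms onto groups of order two
-/

set_option autoImplicit false
set_option maxRecDepth 100000
set_option synthInstance.maxSize 4000
set_option synthInstance.maxHeartbeats 400000
set_option linter.unusedSectionVars false

namespace CfsgLib.Recognition.PSLThreeFourAut

open Subgroup

variable {G : Type*} [Group G] [Finite G]

/-- The transfer of an involution whose conjugates in the Sylow subgroup take a single value. -/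
theorem transfer_value (S : Sylow 2 G) (φ : (S : Subgroup G) →* ℤˣ) (a : G) (ha : a * a = 1) (c : ℤˣ)
    (hc : ∀ (g : G) (hg : g⁻¹ * a * g ∈ (S : Subgroup G)), φ ⟨_, hg⟩ = c) :
    MonoidHom.transfer φ a = c := by
  classical
  haveI : Fact (Nat.Prime 2) := ⟨Nat.prime_two⟩
  obtain ⟨P, hP⟩ : ∃ P : Subgroup G, P = (S : Subgroup G) := ⟨_, rfl⟩
  subst hP
  let P : Subgroup G := (S : Subgroup G)
  haveI : Fintype (Quotient (MulAction.orbitRel (zpowers a) (G ⧸ P))) := Fintype.ofFinite _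
  have hodd : c ^ P.index = c := by
    have hnd : ¬ 2 ∣ P.index := S.not_dvd_index
    rcases Int.units_eq_one_or c with rfl | rfl
    · exact one_pow _
    · exact (Nat.odd_iff.2 (by omega)).neg_one_pow
  rw [← hodd, index_eq_sum_minimalPeriod P a, ← Finset.prod_pow_eq_pow_sum,
    MonoidHom.transfer_eq_prod_quotient_orbitRel_zpowers_quot]
  refine Finset.prod_congr rfl fun q _ => ?_
  have hk : Function.minimalPeriod (a • ·) q.out ∣ 2 := by
    refine Function.IsPeriodicPt.minimalPeriod_dvd ?_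
    show a • a • q.out = q.out
    rw [smul_smul, ha, one_smul]
  have hmem := QuotientGroup.out_conj_pow_minimalPeriod_mem P a q.out
  show φ ⟨_, hmem⟩ = _
  revert hmem
  generalize Function.minimalPeriod (a • ·) q.out = k at hk ⊢
  intro hmem
  rcases (Nat.dvd_prime Nat.prime_two).mp hk with rfl | rfl
  · have hg : q.out.out⁻¹ * a * q.out.out ∈ P := by simpa using hmem
    rw [pow_one c, ← hc _ hg]
    exact congrArg φ (Subtype.ext (by simp))
  · rw [Int.units_pow_two, ← map_one φ]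
    exact congrArg φ (Subtype.ext (by simp [pow_two, ha]))

theorem units_odd {Y : Type*} [Group Y] (f : Y →* ℤˣ) {y : Y} (hy : y * y * y = 1) : f y = 1 := by
  have h := congrArg f hy
  rw [map_mul, map_mul, map_one, Int.units_mul_self, one_mul] at h
  exact h

theorem four_invol : ∀ a b : Equiv.Perm (Fin 4), IsTR a → IsDT b → a * b = b * a →
    ∀ p q, (p = 1 ∨ p = a ∨ p = b ∨ p = a * b) → (q = 1 ∨ q = a ∨ q = b ∨ q = a * b) →
      (p * q = 1 ∨ p * q = a ∨ p * q = b ∨ p * q = a * b) ∧ p⁻¹ = p ∧ p * p = 1 ∧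
        a ≠ b ∧ a * b ≠ 1 ∧ a * b ≠ a ∧ a * b ≠ b ∧ a ≠ 1 ∧ b ≠ 1 := by
  decide +kernel

theorem dt_cent_four : ∀ b : Equiv.Perm (Fin 4), IsDT b → ∀ p, p * b = b * p → p * p * (p * p) = 1 := by
  decide +kernel

namespace Ctx

variable {z : G} {E : Subgroup G} {e : Fin 4 → G} {K : Ctx z E e} {n r x : G}

/-- No two distinct commuting conjugates of `z` centralise `y`. -/
def NoPair (z y : G) : Prop :=
  ∀ a b : G, IsConj z a → IsConj z b → Commute a y → Commute b y → Commute a b → a = b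

theorem exp16 (K : Ctx z E e) {h : G} (hh : h ∈ centralizer ({z} : Set G))
    (h4 : sig z e h * sig z e h * (sig z e h * sig z e h) = 1) : h ^ 16 = 1 := by
  have hE : h * h * (h * h) ∈ E := K.frame.mem_E_of_sig (mul_mem (mul_mem hh hh) (mul_mem hh hh))
    (by rw [K.frame.sig_mul (mul_mem hh hh) (mul_mem hh hh), K.frame.sig_mul hh hh, h4])
  have e1 : h ^ 4 = h * h * (h * h) := by rw [pow_succ, pow_succ, pow_two]; group
  have e2 : (h ^ 4) ^ 4 = 1 := by
    rw [e1, pow_succ, pow_succ, pow_two, mul_assoc (h * h * (h * h) * (h * h * (h * h)))]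
    rcases K.frame.extra.sq_cases hE with q | q <;> rw [q]
    · rw [one_mul]
    · exact K.sq_z
  rw [← pow_mul] at e2
  exact e2

theorem isPGroup_of_sig (K : Ctx z E e) (S : Subgroup G) (hS : S ≤ centralizer ({z} : Set G))
    (h4 : ∀ h ∈ S, sig z e h * sig z e h * (sig z e h * sig z e h) = 1) : IsPGroup 2 S := fun h =>
  ⟨4, Subtype.ext (by
    rw [Subgroup.coe_pow, Subgroup.coe_one]
    exact K.exp16 (hS h.2) (h4 h h.2))⟩

/-- A Sylow subgroup of `C(y)` inside `C(z)`. -/
theorem sylow_cent (K : Ctx z E e) {y : G} (hy : y ∈ centralizer ({z} : Set G))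
    (hone : ∀ w, Fused z w → ¬ Commute w y) :
    ∃ R : Sylow 2 ↥(centralizer ({y} : Set G)), ∀ w ∈ (R : Subgroup ↥(centralizer ({y} : Set G))),
      (w : G) ∈ centralizer ({z} : Set G) := by
  classical
  haveI : Fact (Nat.Prime 2) := ⟨Nat.prime_two⟩
  set Y := centralizer ({y} : Set G) with hY
  have hzY : z ∈ Y := mem_centralizer_singleton_iff.2 (K.comm_z hy).eq.symm
  let zY : ↥Y := ⟨z, hzY⟩
  let L : Subgroup ↥Y := centralizer ({zY} : Set ↥Y)
  have hL : ∀ w : ↥Y, w ∈ L ↔ (w : G) ∈ centralizer ({z} : Set G) := fun w => by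
    rw [mem_centralizer_singleton_iff, mem_centralizer_singleton_iff]
    exact ⟨fun h => congrArg Subtype.val h, fun h => Subtype.ext h⟩
  obtain ⟨S⟩ : Nonempty (Sylow 2 L) := inferInstance
  let R0 : Subgroup ↥Y := (S : Subgroup L).map L.subtype
  have hR0 : IsPGroup 2 R0 := S.2.map _
  have hR0L : R0 ≤ L := Subgroup.map_subtype_le _
  obtain ⟨R, hR⟩ := hR0.exists_le_sylow
  refine ⟨R, fun w hw => (hL w).1 (hR0L ?_)⟩
  suffices hmax : ∀ g ∈ (R : Subgroup ↥Y), g ∈ normalizer (R0 : Set ↥Y) → g ∈ R0 by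
    by_contra hwn
    have hlt : R0 < (R : Subgroup ↥Y) := lt_of_le_of_ne hR fun e1 => hwn (e1.symm ▸ hw)
    obtain ⟨g, hgR, hgN, hgn⟩ : ∃ g ∈ (R : Subgroup ↥Y), g ∈ normalizer (R0 : Set ↥Y) ∧ g ∉ R0 := by
      haveI : Group.IsNilpotent (R : Subgroup ↥Y) := R.2.isNilpotent
      have hlt' : R0.subgroupOf (R : Subgroup ↥Y) < ⊤ :=
        lt_top_iff_ne_top.2 fun e1 => hlt.not_ge (subgroupOf_eq_top.1 e1)
      obtain ⟨g, hgN, hgn⟩ := SetLike.exists_of_lt (Group.normalizerCondition_of_isNilpotent _ hlt')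
      refine ⟨g, g.2, ?_, fun h => hgn h⟩
      rw [Subgroup.mem_normalizer_iff] at hgN ⊢
      intro a
      constructor
      · intro ha; exact (hgN ⟨a, hR ha⟩).1 ha
      · intro ha
        have hmem : a ∈ (R : Subgroup ↥Y) := by
          have := mul_mem (mul_mem (inv_mem g.2) (hR ha)) g.2
          rwa [show (g : ↥Y)⁻¹ * ((g : ↥Y) * a * (g : ↥Y)⁻¹) * g = a by group] at this
        exact (hgN ⟨a, hmem⟩).2 ha
    exact hgn (hmax g hgR hgN)
  intro g hgR hgN
  have hzR0 : zY ∈ R0 := by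
    have hzL : zY ∈ L := mem_centralizer_singleton_iff.2 rfl
    refine ⟨⟨zY, hzL⟩, ?_, rfl⟩
    have hp : IsPGroup 2 (zpowers (⟨zY, hzL⟩ : L)) := by
      refine fun a => ⟨1, ?_⟩
      obtain ⟨j, hj⟩ := a.2
      refine Subtype.ext ?_
      rw [Subgroup.coe_pow, Subgroup.coe_one, ← hj, pow_one, ← zpow_natCast, ← zpow_mul, mul_comm, zpow_mul,
        zpow_natCast, show (⟨zY, hzL⟩ : L) ^ 2 = 1 from Subtype.ext (Subtype.ext (by
          simp only [Subgroup.coe_pow, Subgroup.coe_one, pow_two]; exact K.sq_z)), one_zpow]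
    haveI : (zpowers (⟨zY, hzL⟩ : L)).Normal := by
      refine ⟨fun a ha c => ?_⟩
      obtain ⟨j, rfl⟩ := ha
      have hc : Commute c (⟨zY, hzL⟩ : L) := Subtype.ext (mem_centralizer_singleton_iff.1 c.2)
      show c * (⟨zY, hzL⟩ : L) ^ j * c⁻¹ ∈ _
      rw [(hc.zpow_right j).eq, mul_inv_cancel_right]
      exact ⟨j, rfl⟩
    exact IsPGroup.le_sylow_of_normal hp S (mem_zpowers _)
  have hgz : g * zY * g⁻¹ ∈ R0 := (Subgroup.mem_normalizer_iff.1 hgN zY).1 hzR0
  have hw : ((g * zY * g⁻¹ : ↥Y) : G) = z := by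
    by_contra hne
    refine hone _ ⟨isConj_iff.2 ⟨g, rfl⟩, (hL _).1 (hR0L hgz), hne⟩ ?_
    exact mem_centralizer_singleton_iff.1 (g * zY * g⁻¹).2
  have hgL : g ∈ L := (hL g).2 (mem_centralizer_singleton_iff.2 (mul_inv_eq_iff_eq_mul.1 hw))
  have hRL : IsPGroup 2 ((R : Subgroup ↥Y).subgroupOf L) :=
    R.2.comap_of_injective L.subtype L.subtype_injective
  have heq : ((R : Subgroup ↥Y).subgroupOf L) = (S : Subgroup L) :=
    S.3 hRL fun a ha => hR ⟨a, ha, rfl⟩
  exact ⟨⟨g, hgL⟩, heq ▸ (hgR : (⟨g, hgL⟩ : L) ∈ (R : Subgroup ↥Y).subgroupOf L), rfl⟩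

theorem noPair_of_one (K : Ctx z E e) {y : G} (hy : y ∈ centralizer ({z} : Set G))
    (hone : ∀ w, Fused z w → ¬ Commute w y) : NoPair z y := by
  classical
  haveI : Fact (Nat.Prime 2) := ⟨Nat.prime_two⟩
  intro a b ha hb hay hby hab
  obtain ⟨R, hR⟩ := K.sylow_cent hy hone
  have sq : ∀ {w : G}, IsConj z w → w * w = 1 := fun {w} hw => by
    obtain ⟨g, rfl⟩ := isConj_iff.1 hw
    rw [conj_mul, K.sq_z, mul_one, mul_inv_cancel]
  let aY : ↥(centralizer ({y} : Set G)) := ⟨a, mem_centralizer_singleton_iff.2 hay.eq⟩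
  let bY : ↥(centralizer ({y} : Set G)) := ⟨b, mem_centralizer_singleton_iff.2 hby.eq⟩
  let S : Subgroup ↥(centralizer ({y} : Set G)) :=
    { carrier := {w | w = 1 ∨ w = aY ∨ w = bY ∨ w = aY * bY}
      one_mem' := Or.inl rfl
      mul_mem' := by
        have a2 : aY * aY = 1 := Subtype.ext (sq ha)
        have b2 : bY * bY = 1 := Subtype.ext (sq hb)
        have ba : bY * aY = aY * bY := Subtype.ext hab.symm.eq
        have e1 : aY * (aY * bY) = bY := by rw [← mul_assoc, a2, one_mul]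
        have e2 : aY * bY * bY = aY := by rw [mul_assoc, b2, mul_one]
        have e3 : bY * (aY * bY) = aY := by rw [← mul_assoc, ba, e2]
        have e4 : aY * bY * aY = bY := by rw [mul_assoc, ba, e1]
        have e5 : aY * bY * (aY * bY) = 1 := by rw [mul_assoc, e3, a2]
        rintro u v (rfl | rfl | rfl | rfl) (rfl | rfl | rfl | rfl) <;> simp [a2, b2, ba, e1, e2, e3, e4, e5]
      inv_mem' := by
        have a2 : aY⁻¹ = aY := inv_eq_of_mul_eq_one_right (Subtype.ext (sq ha))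
        have b2 : bY⁻¹ = bY := inv_eq_of_mul_eq_one_right (Subtype.ext (sq hb))
        have ba : bY * aY = aY * bY := Subtype.ext hab.symm.eq
        rintro u (rfl | rfl | rfl | rfl) <;> simp [a2, b2, ba] }
  have hS : IsPGroup 2 S := by
    rintro ⟨w, hw⟩
    refine ⟨1, Subtype.ext (Subtype.ext ?_)⟩
    simp only [Subgroup.coe_pow, Subgroup.coe_one, pow_one, pow_two]
    rcases hw with rfl | rfl | rfl | rfl
    · exact one_mul _
    · exact sq ha
    · exact sq hb
    · show a * b * (a * b) = 1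
      rw [hab.symm.mul_mul_mul_comm, sq ha, sq hb, one_mul]
  obtain ⟨Q, hQ⟩ := hS.exists_le_sylow
  obtain ⟨c, hc⟩ := MulAction.exists_smul_eq ↥(centralizer ({y} : Set G)) Q R
  have hmove : ∀ w : ↥(centralizer ({y} : Set G)), w ∈ S → IsConj z (w : G) →
      (c : G) * w * (c : G)⁻¹ = z := by
    intro w hw hwz
    have hmem : c * w * c⁻¹ ∈ (R : Subgroup ↥(centralizer ({y} : Set G))) := by
      rw [← hc]; exact ⟨w, hQ hw, rfl⟩
    by_contra hne
    exact hone _ ⟨hwz.trans (isConj_iff.2 ⟨c, rfl⟩), hR _ hmem, hne⟩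
      (mem_centralizer_singleton_iff.1 (c * w * c⁻¹).2)
  exact mul_left_cancel (mul_right_cancel
    ((hmove aY (Or.inr (Or.inl rfl)) ha).trans (hmove bY (Or.inr (Or.inr (Or.inl rfl))) hb).symm))

theorem noPair_conj {y g : G} (h : NoPair z y) : NoPair z (g * y * g⁻¹) := by
  intro a b ha hb hay hby hab
  have key : ∀ u v : G, Commute u v → Commute (g⁻¹ * u * g) (g⁻¹ * v * g) := fun u v huv => by
    show _ = _
    calc g⁻¹ * u * g * (g⁻¹ * v * g) = g⁻¹ * (u * v) * g := by group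
      _ = g⁻¹ * (v * u) * g := by rw [huv.eq]
      _ = _ := by group
  have := h (g⁻¹ * a * g) (g⁻¹ * b * g) (ha.trans (isConj_iff.2 ⟨g⁻¹, by group⟩))
    (hb.trans (isConj_iff.2 ⟨g⁻¹, by group⟩))
    (by have := key _ _ hay; rwa [show g⁻¹ * (g * y * g⁻¹) * g = y by group] at this)
    (by have := key _ _ hby; rwa [show g⁻¹ * (g * y * g⁻¹) * g = y by group] at this)
    (key _ _ hab)
  exact mul_left_cancel (mul_right_cancel this)

theorem ptype_noPair (K : Ctx z E e) {p : G} (hp : p ∈ E) (h2 : p * p = 1)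
    (hc : ¬ Commute p (t0 z e)) : NoPair z p := by
  refine K.noPair_of_one (K.mem_C hp) fun w hw hwp => ?_
  rcases K.fused_cases hw with r | r | r
  · exact hc (r ▸ hwp.symm)
  · refine hc ?_
    have : Commute p (t0 z e * z) := r ▸ hwp.symm
    have h1 := this.mul_right (K.comm_z (K.mem_C hp))
    rwa [mul_assoc, K.sq_z, mul_one] at h1
  · rcases K.dt_fixed hw.2.1 r (K.fused_sq hw) hp hwp with s | s | s | s <;> rw [s] at hc
    · exact hc (Commute.one_left _)
    · exact hc K.z_t0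
    · exact hc (Commute.refl _)
    · exact hc ((Commute.refl _).mul_left K.z_t0)

theorem dt_card_le (K : Ctx z E e) :
    {y : G | y ∈ centralizer ({z} : Set G) ∧ IsDT (sig z e y) ∧ y * y = 1}.ncard ≤ 24 := by
  classical
  haveI := Fintype.ofFinite G
  set D : Finset G := Finset.univ.filter fun y => y ∈ centralizer ({z} : Set G) ∧ IsDT (sig z e y) ∧ y * y = 1
  rw [show {y : G | y ∈ centralizer ({z} : Set G) ∧ IsDT (sig z e y) ∧ y * y = 1} = ↑D by ext; simp [D],
    Set.ncard_coe_finset]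
  refine (Finset.card_le_mul_card_image (f := sig z e) D 8 fun p hp' => ?_).trans ?_
  · obtain ⟨y0, hy0, rfl⟩ := Finset.mem_image.1 hp'
    obtain ⟨hy0C, hy0p, hy02⟩ := (Finset.mem_filter.1 hy0).2
    refine le_trans ?_ (K.dt_coset_le hy0C hy0p hy02)
    rw [← Set.ncard_coe_finset]
    refine Set.ncard_le_ncard_of_injOn (fun y => y0⁻¹ * y) (fun y hy => ?_) (fun a _ b _ hab => mul_left_cancel hab)
    obtain ⟨hy1, hye⟩ := Finset.mem_filter.1 hy
    obtain ⟨hyC, -, hy2⟩ := (Finset.mem_filter.1 hy1).2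
    refine ⟨K.frame.mem_E_of_sig (mul_mem (inv_mem hy0C) hyC) ?_, by rw [mul_inv_cancel_left, hy2]⟩
    rw [K.frame.sig_mul (inv_mem hy0C) hyC, K.frame.sig_inv hy0C, hye, inv_mul_cancel]
  · have : (D.image (sig z e)).card ≤ 3 := by
      refine le_trans (Finset.card_le_card (t := Finset.univ.filter fun p => IsDT p) fun p hp' => ?_)
        (le_of_eq (by decide +kernel))
      obtain ⟨y, hy, rfl⟩ := Finset.mem_image.1 hp'
      exact Finset.mem_filter.2 ⟨Finset.mem_univ _, (Finset.mem_filter.1 hy).2.2.1⟩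
    omega

/-- The centraliser in `C(z)` of a double transposition is a 2-group of order at least 32. -/
theorem dt_cent (K : Ctx z E e) {u : G} (hu : u ∈ centralizer ({z} : Set G)) (hp : IsDT (sig z e u))
    (h2 : u * u = 1) :
    IsPGroup 2 (centralizer ({z} : Set G) ⊓ centralizer ({u} : Set G) : Subgroup G) ∧
      32 ≤ Nat.card (centralizer ({z} : Set G) ⊓ centralizer ({u} : Set G) : Subgroup G) := by
  classical
  set L := centralizer ({z} : Set G) ⊓ centralizer ({u} : Set G) with hL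
  have h24 := K.dt_card_le
  refine ⟨K.isPGroup_of_sig L inf_le_left fun h hh => dt_cent_four _ hp _ ?_, ?_⟩
  · have hc : Commute h u := mem_centralizer_singleton_iff.1 hh.2
    rw [← K.frame.sig_mul hh.1 hu, ← K.frame.sig_mul hu hh.1, hc.eq]
  · haveI := Fintype.ofFinite (centralizer ({z} : Set G))
    haveI := Fintype.ofFinite L
    let f : centralizer ({z} : Set G) → G := fun h => (h : G) * u * (h : G)⁻¹
    set I := (Finset.univ : Finset (centralizer ({z} : Set G))).image f with hI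
    have hIc : I.card ≤ 24 := by
      refine le_trans ?_ h24
      rw [← Set.ncard_coe_finset]
      refine Set.ncard_le_ncard fun y hy => ?_
      obtain ⟨h, -, rfl⟩ := Finset.mem_image.1 (Finset.mem_coe.1 hy)
      refine ⟨mul_mem (mul_mem h.2 hu) (inv_mem h.2), ?_, by
        show (h : G) * u * (h : G)⁻¹ * ((h : G) * u * (h : G)⁻¹) = 1
        rw [conj_mul, h2, mul_one, mul_inv_cancel]⟩
      show IsDT (sig z e ((h : G) * u * (h : G)⁻¹))
      rw [K.frame.sig_mul (mul_mem h.2 hu) (inv_mem h.2), K.frame.sig_mul h.2 hu, K.frame.sig_inv h.2]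
      exact (by decide +kernel : ∀ a p : Equiv.Perm (Fin 4), IsDT p → IsDT (a * p * a⁻¹)) _ _ hp
    have h768 := Finset.card_le_mul_card_image (f := f) (Finset.univ : Finset (centralizer ({z} : Set G)))
      (Nat.card L) fun y hy => by
        obtain ⟨h0, -, rfl⟩ := Finset.mem_image.1 hy
        rw [Nat.card_eq_fintype_card, ← Finset.card_univ]
        refine Finset.card_le_card_of_injOn
          (fun h => if hh : (h0 : G)⁻¹ * h ∈ L then (⟨_, hh⟩ : L) else 1) (fun _ _ => Finset.mem_univ _) ?_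
        have hmem : ∀ h : centralizer ({z} : Set G), f h = f h0 → (h0 : G)⁻¹ * h ∈ L := fun h hf => by
          refine Subgroup.mem_inf.2 ⟨mul_mem (inv_mem h0.2) h.2, mem_centralizer_singleton_iff.2 ?_⟩
          calc (h0 : G)⁻¹ * h * u = (h0 : G)⁻¹ * ((h : G) * u * (h : G)⁻¹) * h := by group
            _ = (h0 : G)⁻¹ * ((h0 : G) * u * (h0 : G)⁻¹) * h := by rw [show (h : G) * u * (h : G)⁻¹ = _ from hf]
            _ = u * ((h0 : G)⁻¹ * h) := by group
        intro a ha b hb hab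
        simp only [dif_pos (hmem a (Finset.mem_filter.1 ha).2), dif_pos (hmem b (Finset.mem_filter.1 hb).2)] at hab
        exact Subtype.ext (mul_left_cancel (congrArg Subtype.val hab))
    rw [Finset.card_univ, ← Nat.card_eq_fintype_card, K.card_C, ← hI] at h768
    nlinarith

namespace NG

theorem x_tr (h : NG K n r x) : IsTR (sig z e x) :=
  pairing_tr _ h.rho_x.2 (K.sig_sq h.x_mem.1 h.x2)

theorem x_not_conj_z (h : NG K n r x) : ¬ IsConj z x := fun hc => by
  refine K.not_tr ⟨hc, h.x_mem.1, fun e1 => ?_⟩ h.x_tr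
  have := h.x_tr.2
  rw [e1, K.frame.sig_mem_E K.frame.extra.z_mem] at this
  simp at this

theorem x_fused_cases (h : NG K n r x) {w : G} (hw : Fused z w) (hc : Commute w x) :
    w = t0 z e ∨ w = t0 z e * z := by
  rcases K.fused_cases hw with r' | r' | r'
  · exact Or.inl r'
  · exact Or.inr r'
  · exact absurd (K.CC_t0 h.x_mem) (K.tr_dt h.x_mem.1 h.x_tr h.x2 hw.2.1 r' (K.fused_sq hw) hc.symm)

/-- The centraliser of `x` in `C(z)` has order at most sixteen. -/
theorem cent_x_card (h : NG K n r x) :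
    Nat.card (centralizer ({z} : Set G) ⊓ centralizer ({x} : Set G) : Subgroup G) ≤ 16 := by
  classical
  set L := centralizer ({z} : Set G) ⊓ centralizer ({x} : Set G) with hL
  have hCC : ∀ y ∈ L, Commute y (t0 z e) → y ∈ K.Z0 ∨ y * x ∈ K.Z0 := by
    intro y hy hc
    have hyC := K.mem_CC hy.1 hc
    have hyx : Commute y x := mem_centralizer_singleton_iff.1 hy.2
    have hr : rho z e y * rho z e x = rho z e x * rho z e y := by
      rw [← K.rho_mul hyC h.x_mem, ← K.rho_mul h.x_mem hyC, hyx.eq]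
    rcases (by decide +kernel : ∀ a b : Equiv.Perm (Fin 3), a * a = 1 → a ≠ 1 → b * a = a * b →
        b = 1 ∨ b * a = 1) _ _ h.rho_x.1 h.rho_x.2 hr with q | q
    · exact Or.inl (h.cent_x ⟨hyC, q⟩ hyx.symm)
    · exact Or.inr (h.cent_x ⟨mul_mem hyC h.x_mem, by rw [K.rho_mul hyC h.x_mem, q]⟩
        (hyx.symm.mul_right (Commute.refl x)))
  haveI := Fintype.ofFinite L
  haveI := Fintype.ofFinite K.Z0
  by_cases hout : ∃ q ∈ L, ¬ Commute q (t0 z e)
  · obtain ⟨q, hq, hqc⟩ := hout
    let f : K.Z0 × Fin 2 × Fin 2 → G := fun p => q ^ p.2.1.val * ((p.1 : G) * x ^ p.2.2.val)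
    have hsub : ∀ y : L, ∃ p, f p = (y : G) := by
      rintro ⟨y, hy⟩
      have hcase : Commute y (t0 z e) ∨ Commute (q⁻¹ * y) (t0 z e) := by
        refine (K.commute_t0_or hy.1).imp_right fun e1 => mul_inv_eq_iff_eq_mul.1 ?_
        have e2 := (K.commute_t0_or hq.1).resolve_left hqc
        rw [show q⁻¹ * y * t0 z e * (q⁻¹ * y)⁻¹ = q⁻¹ * (y * t0 z e * y⁻¹) * q by group, e1, ← e2]
        group
      rcases hcase with hc | hc
      · rcases hCC y hy hc with s | s
        · exact ⟨(⟨y, s⟩, 0, 0), by simp [f]⟩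
        · exact ⟨(⟨_, s⟩, 0, 1), by simp [f, mul_assoc, h.x2]⟩
      · rcases hCC _ (mul_mem (inv_mem hq) hy) hc with s | s
        · exact ⟨(⟨_, s⟩, 1, 0), by simp [f]⟩
        · exact ⟨(⟨_, s⟩, 1, 1), by simp [f, mul_assoc, h.x2]⟩
    choose g hg using hsub
    refine (Nat.card_le_card_of_injective g fun a b hab => Subtype.ext ?_).trans (le_of_eq ?_)
    · rw [← hg a, ← hg b, hab]
    · rw [Nat.card_prod, Nat.card_prod, h.card_Z0, Nat.card_fin]
  · push Not at hout
    let f : K.Z0 × Fin 2 → G := fun p => (p.1 : G) * x ^ p.2.val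
    have hsub : ∀ y : L, ∃ p, f p = (y : G) := by
      rintro ⟨y, hy⟩
      rcases hCC y hy (hout y hy) with s | s
      · exact ⟨(⟨y, s⟩, 0), by simp [f]⟩
      · exact ⟨(⟨_, s⟩, 1), by simp [f, mul_assoc, h.x2]⟩
    choose g hg using hsub
    refine (Nat.card_le_card_of_injective g fun a b hab => Subtype.ext ?_).trans ?_
    · rw [← hg a, ← hg b, hab]
    · rw [Nat.card_prod, h.card_Z0, Nat.card_fin]; norm_num

/-- The 2-subgroups of `C(x)` have order at most sixteen. -/
theorem cent_x_two (h : NG K n r x) (R : Subgroup G) (hR : IsPGroup 2 R)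
    (hRx : ∀ w ∈ R, Commute w x) : Nat.card R ≤ 16 := by
  classical
  haveI : Fact (Nat.Prime 2) := ⟨Nat.prime_two⟩
  set L0 := centralizer ({z} : Set G) ⊓ centralizer ({x} : Set G) with hL0
  have hmem0 : ∀ {w : G}, w ∈ L0 ↔ Commute w z ∧ Commute w x := fun {w} => by
    rw [hL0, Subgroup.mem_inf, mem_centralizer_singleton_iff, mem_centralizer_singleton_iff]; rfl
  -- the stabiliser of the three involutions
  let T3 : Set G := {z, t0 z e, t0 z e * z}
  have hn3 : ∀ a ∈ T3, n * a * n⁻¹ ∈ T3 := by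
    intro a ha
    simp only [T3, Set.mem_insert_iff, Set.mem_singleton_iff] at ha ⊢
    rcases ha with rfl | rfl | rfl
    · exact Or.inr (Or.inl h.cyc.1)
    · exact Or.inr (Or.inr h.cyc.2)
    · exact Or.inl (K.cyc_t0z h.cyc)
  let Lst : Subgroup G := centralizer ({x} : Set G) ⊓
    { carrier := {g | ∀ a, a ∈ T3 ↔ g * a * g⁻¹ ∈ T3}
      one_mem' := fun a => by simp
      mul_mem' := fun {g g'} hg hg' a => by
        rw [hg' a, hg, show g * (g' * a * g'⁻¹) * g⁻¹ = g * g' * a * (g * g')⁻¹ by group]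
      inv_mem' := fun {g} hg a => by
        rw [hg (g⁻¹ * a * g⁻¹⁻¹), show g * (g⁻¹ * a * g⁻¹⁻¹) * g⁻¹ = a by group] }
  have hmemL : ∀ {g : G}, g ∈ Lst ↔ Commute g x ∧ ∀ a, a ∈ T3 ↔ g * a * g⁻¹ ∈ T3 := fun {g} => by
    refine Subgroup.mem_inf.trans (and_congr mem_centralizer_singleton_iff Iff.rfl)
  have hnL : n ∈ Lst := hmemL.2 ⟨h.nx, fun a => ⟨hn3 a, fun ha => by
    have := hn3 _ (hn3 _ ha)
    rwa [show n * (n * (n * a * n⁻¹) * n⁻¹) * n⁻¹ = (n * n * n) * a * (n * n * n)⁻¹ by group, h.n3,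
      one_mul, inv_one, mul_one] at this⟩⟩
  have hL0L : L0 ≤ Lst := fun g hg => by
    obtain ⟨hgz, hgx⟩ := hmem0.1 hg
    have hgC : g ∈ centralizer ({z} : Set G) := mem_centralizer_singleton_iff.2 hgz.eq
    have hz : g * z * g⁻¹ = z := K.frame.conj_z hgC
    have key : ∀ g' ∈ centralizer ({z} : Set G), ∀ a ∈ T3, g' * a * g'⁻¹ ∈ T3 := by
      intro g' hg' a ha
      simp only [T3, Set.mem_insert_iff, Set.mem_singleton_iff] at ha ⊢
      have hz : g' * z * g'⁻¹ = z := K.frame.conj_z hg'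
      rcases ha with rfl | rfl | rfl
      · exact Or.inl hz
      · rcases K.t0_conj hg' with s | s
        · exact Or.inr (Or.inl s)
        · exact Or.inr (Or.inr s)
      · rw [← conj_mul, hz]
        rcases K.t0_conj hg' with s | s <;> rw [s]
        · exact Or.inr (Or.inr rfl)
        · exact Or.inr (Or.inl (by rw [mul_assoc, K.sq_z, mul_one]))
    refine hmemL.2 ⟨hgx, fun a => ⟨key g hgC a, fun ha => ?_⟩⟩
    have := key _ (inv_mem hgC) _ ha
    rwa [show g⁻¹ * (g * a * g⁻¹) * g⁻¹⁻¹ = a by group] at this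
  have hcardL : Nat.card Lst = 3 * Nat.card L0 := by
    let f : Fin 3 × L0 → Lst := fun p => ⟨n ^ p.1.val * (p.2 : G), mul_mem (pow_mem hnL _) (hL0L p.2.2)⟩
    have hzi : ∀ i : Fin 3, n ^ i.val * z * (n ^ i.val)⁻¹ = ![z, t0 z e, t0 z e * z] i := by
      intro i
      fin_cases i
      · simp
      · simpa using h.cyc.1
      · show n ^ 2 * z * (n ^ 2)⁻¹ = t0 z e * z
        rw [pow_two, show n * n * z * (n * n)⁻¹ = n * (n * z * n⁻¹) * n⁻¹ by group, h.cyc.1, h.cyc.2]
    have hf : Function.Bijective f := by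
      constructor
      · rintro ⟨i, a⟩ ⟨j, b⟩ hab
        have e1 : n ^ i.val * (a : G) = n ^ j.val * b := congrArg Subtype.val hab
        have ez : ∀ w : L0, (w : G) * z * (w : G)⁻¹ = z := fun w => K.frame.conj_z w.2.1
        have e2 : (![z, t0 z e, t0 z e * z] : Fin 3 → G) i = ![z, t0 z e, t0 z e * z] j := by
          rw [← hzi i, ← hzi j]
          calc n ^ i.val * z * (n ^ i.val)⁻¹ = (n ^ i.val * (a : G)) * z * (n ^ i.val * (a : G))⁻¹ := by
                conv_lhs => arg 1; arg 2; rw [← ez a]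
                group
            _ = (n ^ j.val * (b : G)) * z * (n ^ j.val * (b : G))⁻¹ := by rw [e1]
            _ = _ := by
                conv_rhs => arg 1; arg 2; rw [← ez b]
                group
        have hij : i = j := by
          have hne1 := K.t0_ne_z
          have hne2 : t0 z e * z ≠ z := fun q => K.t0_ne_one (mul_eq_right.1 q)
          have hne3 : t0 z e * z ≠ t0 z e := fun q => K.frame.extra.z_ne (mul_eq_left.1 q)
          fin_cases i <;> fin_cases j <;> simp at e2 <;> first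
            | rfl
            | exact absurd e2.symm K.t0_ne_one
            | exact absurd e2 K.t0_ne_one
            | exact absurd e2 K.frame.extra.z_ne
            | exact absurd e2.symm K.frame.extra.z_ne
            | exact absurd e2 hne1
            | exact absurd e2.symm hne1
            | exact absurd e2 hne2
            | exact absurd e2.symm hne2
            | exact absurd e2 hne3
            | exact absurd e2.symm hne3
        subst hij
        exact Prod.ext rfl (Subtype.ext (mul_left_cancel e1))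
      · rintro ⟨g, hg⟩
        obtain ⟨hgx, hgT⟩ := hmemL.1 hg
        have : g * z * g⁻¹ ∈ T3 := (hgT z).1 (by simp [T3])
        obtain ⟨i, hi⟩ : ∃ i : Fin 3, g * z * g⁻¹ = ![z, t0 z e, t0 z e * z] i := by
          simp only [T3, Set.mem_insert_iff, Set.mem_singleton_iff] at this
          rcases this with s | s | s
          · exact ⟨0, by simpa using s⟩
          · exact ⟨1, by simpa using s⟩
          · exact ⟨2, by simpa using s⟩
        refine ⟨⟨i, ⟨(n ^ i.val)⁻¹ * g, hmem0.2 ⟨?_, ?_⟩⟩⟩, Subtype.ext (mul_inv_cancel_left _ _)⟩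
        · rw [← hzi i] at hi
          refine mul_inv_eq_iff_eq_mul.1 ?_
          rw [show (n ^ i.val)⁻¹ * g * z * ((n ^ i.val)⁻¹ * g)⁻¹ = (n ^ i.val)⁻¹ * (g * z * g⁻¹) * n ^ i.val by
            group, hi]
          group
        · exact ((h.nx.pow_left i.val).inv_left).mul_left hgx
    rw [← Nat.card_eq_of_bijective f hf, Nat.card_prod, Nat.card_fin]
  -- a Sylow subgroup of `C(x)` inside `Lst`
  have hL02 : IsPGroup 2 L0 := K.isPGroup_of_sig L0 inf_le_left fun g hg => by
    obtain ⟨-, hgx⟩ := hmem0.1 hg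
    have hsx := h.x_tr
    have hc : sig z e g * sig z e x = sig z e x * sig z e g := by
      rw [← K.frame.sig_mul hg.1 h.x_mem.1, ← K.frame.sig_mul h.x_mem.1 hg.1, hgx.eq]
    exact (by decide +kernel : ∀ a p : Equiv.Perm (Fin 4), IsTR a → p * a = a * p → p * p * (p * p) = 1) _ _ hsx hc
  obtain ⟨k, hk⟩ := IsPGroup.iff_card.1 hL02
  have hk16 : 2 ^ k ≤ 16 := hk ▸ h.cent_x_card
  let Y := centralizer ({x} : Set G)
  let L0Y : Subgroup ↥Y := L0.subgroupOf Y
  have hL0Yc : Nat.card L0Y = 2 ^ k := by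
    rw [Nat.card_congr (Subgroup.subgroupOfEquivOfLe (inf_le_right : L0 ≤ Y)).toEquiv, hk]
  obtain ⟨P, hP⟩ := (IsPGroup.of_card hL0Yc).exists_le_sylow
  have hPeq : (P : Subgroup ↥Y) = L0Y := by
    by_contra hne
    have hlt : L0Y < (P : Subgroup ↥Y) := lt_of_le_of_ne hP (Ne.symm hne)
    haveI : Group.IsNilpotent (P : Subgroup ↥Y) := P.2.isNilpotent
    have hlt' : L0Y.subgroupOf (P : Subgroup ↥Y) < ⊤ :=
      lt_top_iff_ne_top.2 fun e1 => hlt.not_ge (subgroupOf_eq_top.1 e1)
    obtain ⟨g, hgN, hgn⟩ := SetLike.exists_of_lt (Group.normalizerCondition_of_isNilpotent _ hlt')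
    have hconj : ∀ a : ↥Y, a ∈ L0Y → (g : ↥Y) * a * (g : ↥Y)⁻¹ ∈ L0Y := fun a ha =>
      (Subgroup.mem_normalizer_iff.1 hgN ⟨a, hP ha⟩).1 ha
    have hconj' : ∀ a : ↥Y, a ∈ L0Y → (g : ↥Y)⁻¹ * a * (g : ↥Y)⁻¹⁻¹ ∈ L0Y := fun a ha =>
      (Subgroup.mem_normalizer_iff.1 (inv_mem hgN) ⟨a, hP ha⟩).1 ha
    have hgx : Commute ((g : ↥Y) : G) x := mem_centralizer_singleton_iff.1 (g : ↥Y).2
    have hT : ∀ a ∈ T3, a ∈ L0 ∧ IsConj z a := by
      intro a ha
      simp only [T3, Set.mem_insert_iff, Set.mem_singleton_iff] at ha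
      have hx' := h.x_mem
      have ht := (isConj_iff.2 ⟨n, h.cyc.1⟩ : IsConj z (t0 z e))
      rcases ha with q | q | q <;> rw [q]
      · exact ⟨hmem0.2 ⟨Commute.refl z, (K.comm_z hx'.1).symm⟩, IsConj.refl z⟩
      · exact ⟨hmem0.2 ⟨K.z_t0.symm, (K.CC_t0 hx').symm⟩, ht⟩
      · exact ⟨hmem0.2 ⟨K.z_t0.symm.mul_left (Commute.refl z), ((K.CC_t0 hx').mul_right (K.comm_z hx'.1)).symm⟩,
          ht.trans (isConj_iff.2 ⟨n, h.cyc.2⟩)⟩
    have hset : ∀ a, IsConj z a → a ∈ L0 → a ∈ T3 := by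
      intro a ha haL
      simp only [T3, Set.mem_insert_iff, Set.mem_singleton_iff]
      by_cases haz : a = z
      · exact Or.inl haz
      · exact Or.inr (h.x_fused_cases ⟨ha, haL.1, haz⟩ (hmem0.1 haL).2)
    have hgLst : ((g : ↥Y) : G) ∈ Lst := by
      refine hmemL.2 ⟨hgx, ?_⟩
      intro a
      refine ⟨fun ha => ?_, fun ha => ?_⟩
      · obtain ⟨ha1, ha2⟩ := hT a ha
        exact hset _ (ha2.trans (isConj_iff.2 ⟨((g : ↥Y) : G), rfl⟩)) (hconj ⟨a, ha1.2⟩ ha1)
      · obtain ⟨ha1, ha2⟩ := hT _ ha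
        refine hset _ (ha2.trans (isConj_iff.2 ⟨((g : ↥Y) : G)⁻¹, by group⟩)) ?_
        have := hconj' ⟨_, ha1.2⟩ ha1
        rw [Subgroup.mem_subgroupOf] at this
        simpa [mul_assoc] using this
    -- a 2-subgroup of `Lst` larger than `L0`
    let S := (L0Y ⊔ zpowers (g : ↥Y)).map Y.subtype
    have hS2 : IsPGroup 2 S :=
      (P.2.to_le (sup_le hP (zpowers_le.2 g.2))).map _
    have hSle : S ≤ Lst := by
      rw [Subgroup.map_le_iff_le_comap]
      exact sup_le (fun a ha => hL0L ha) (zpowers_le.2 hgLst)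
    have hL0S : L0 ≤ S := fun a ha => ⟨⟨a, ha.2⟩, mem_sup_left ha, rfl⟩
    obtain ⟨j, hj⟩ := IsPGroup.iff_card.1 hS2
    have hdvd : 2 ^ j ∣ 3 * 2 ^ k := hj ▸ hk ▸ hcardL ▸ Subgroup.card_dvd_of_le hSle
    have hjk : 2 ^ j ∣ 2 ^ k := (Nat.Coprime.pow_left _ (by norm_num)).dvd_of_dvd_mul_left hdvd
    have heq : L0 = S := Subgroup.eq_of_le_of_card_ge hL0S (by
      rw [hj, hk]; exact Nat.le_of_dvd (by positivity) hjk)
    apply hgn
    rw [Subgroup.mem_subgroupOf]
    show ((g : ↥Y) : G) ∈ L0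
    rw [heq]
    exact ⟨g, mem_sup_right (mem_zpowers _), rfl⟩
  have hRY : R ≤ Y := fun w hw => mem_centralizer_singleton_iff.2 (hRx w hw).eq
  obtain ⟨Q, hQ⟩ := (hR.comap_of_injective Y.subtype Y.subtype_injective).exists_le_sylow
  have h1 : Nat.card R ≤ Nat.card (Q : Subgroup ↥Y) := by
    rw [← Nat.card_congr (Subgroup.subgroupOfEquivOfLe hRY).toEquiv]
    exact Subgroup.card_le_of_le hQ
  rw [Nat.card_congr (Q.equiv P).toEquiv] at h1
  rw [hPeq, hL0Yc] at h1
  omega

theorem dt_not_conj_x (h : NG K n r x) {u g : G} (hu : u ∈ centralizer ({z} : Set G))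
    (hp : IsDT (sig z e u)) (h2 : u * u = 1) : g * u * g⁻¹ ≠ x := by
  intro hgu
  obtain ⟨hL, hL32⟩ := K.dt_cent hu hp h2
  have := h.cent_x_two _ (hL.map (MulAut.conj g).toMonoidHom) ?_
  · rw [Subgroup.card_map_of_injective (MulAut.conj g).injective] at this
    omega
  · rintro _ ⟨w, hw, rfl⟩
    rw [← hgu]
    show g * w * g⁻¹ * (g * u * g⁻¹) = g * u * g⁻¹ * (g * w * g⁻¹)
    rw [conj_mul, conj_mul, mem_centralizer_singleton_iff.1 hw.2]

theorem x_pair (h : NG K n r x) : ¬ NoPair z x := fun hN => K.t0_ne_z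
  (hN z (t0 z e) (IsConj.refl z) (isConj_iff.2 ⟨n, h.cyc.1⟩) (K.comm_z h.x_mem.1).symm
    (K.CC_t0 h.x_mem).symm K.z_t0).symm

/-- An involution inducing a transposition and moving `t₀` is not conjugate to `x`. -/
theorem tr_not_conj_x (h : NG K n r x) {y g : G} (hy : y ∈ centralizer ({z} : Set G))
    (hp : IsTR (sig z e y)) (h2 : y * y = 1) (hc : ¬ Commute y (t0 z e)) : g * y * g⁻¹ ≠ x := by
  classical
  intro hgy
  by_cases hu : ∃ u, Fused z u ∧ Commute u y ∧ IsDT (sig z e u)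
  · obtain ⟨u, hu, huy, hup⟩ := hu
    have hu2 := K.fused_sq hu
    set a := sig z e y with ha
    set b := sig z e u with hb
    have hab : a * b = b * a := by rw [ha, hb, ← K.frame.sig_mul hy hu.2.1, ← K.frame.sig_mul hu.2.1 hy, huy.eq]
    let S : Subgroup G :=
      { carrier := {w | w ∈ centralizer ({z} : Set G) ∧ Commute w y ∧
          (sig z e w = 1 ∨ sig z e w = a ∨ sig z e w = b ∨ sig z e w = a * b)}
        one_mem' := ⟨one_mem _, Commute.one_left y, Or.inl K.frame.sig_one⟩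
        mul_mem' := fun {u v} hu' hv' => ⟨mul_mem hu'.1 hv'.1, hu'.2.1.mul_left hv'.2.1, by
          rw [K.frame.sig_mul hu'.1 hv'.1]; exact (four_invol a b hp hup hab _ _ hu'.2.2 hv'.2.2).1⟩
        inv_mem' := fun {u} hu' => ⟨inv_mem hu'.1, hu'.2.1.inv_left, by
          rw [K.frame.sig_inv hu'.1, (four_invol a b hp hup hab _ _ hu'.2.2 hu'.2.2).2.1]; exact hu'.2.2⟩ }
    have hS2 : IsPGroup 2 S := K.isPGroup_of_sig S (fun w hw => hw.1) fun w hw => by
      rw [(four_invol a b hp hup hab _ _ hw.2.2 hw.2.2).2.2.1, one_mul]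
    have hS32 : 32 ≤ Nat.card S := by
      let L : Subgroup G := E ⊓ centralizer ({y} : Set G)
      let w4 : Fin 4 → G := ![1, y, u, y * u]
      have hw4 : ∀ i, w4 i ∈ S := fun i => by
        fin_cases i
        · exact one_mem _
        · exact ⟨hy, Commute.refl y, Or.inr (Or.inl rfl)⟩
        · exact ⟨hu.2.1, huy, Or.inr (Or.inr (Or.inl rfl))⟩
        · exact ⟨mul_mem hy hu.2.1, (Commute.refl y).mul_left huy,
            Or.inr (Or.inr (Or.inr (K.frame.sig_mul hy hu.2.1)))⟩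
      have hsig4 : ∀ i, sig z e (w4 i) = ![1, a, b, a * b] i := fun i => by
        fin_cases i
        · exact K.frame.sig_one
        · rfl
        · rfl
        · exact K.frame.sig_mul hy hu.2.1
      have hinj : Function.Injective (fun p : Fin 4 × L => (⟨w4 p.1 * p.2, mul_mem (hw4 p.1)
          (⟨K.mem_C p.2.2.1, mem_centralizer_singleton_iff.1 p.2.2.2,
            Or.inl (K.frame.sig_mem_E p.2.2.1)⟩ : (p.2 : G) ∈ S)⟩ : S)) := by
        rintro ⟨i, p⟩ ⟨j, q⟩ hpq
        have e1 : w4 i * (p : G) = w4 j * q := congrArg Subtype.val hpq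
        have e2 : sig z e (w4 i) = sig z e (w4 j) := by
          have := congrArg (sig z e) e1
          rwa [K.frame.sig_mul (hw4 i).1 (K.mem_C p.2.1), K.frame.sig_mul (hw4 j).1 (K.mem_C q.2.1),
            K.frame.sig_mem_E p.2.1, K.frame.sig_mem_E q.2.1, mul_one, mul_one] at this
        rw [hsig4, hsig4] at e2
        have hij : i = j := by
          obtain ⟨-, -, -, q1, q2, q3, q4, q5, q6⟩ := four_invol a b hp hup hab 1 1 (Or.inl rfl) (Or.inl rfl)
          fin_cases i <;> fin_cases j <;> simp at e2 <;> first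
            | rfl
            | exact absurd e2 q1 | exact absurd e2.symm q1 | exact absurd e2 q2 | exact absurd e2.symm q2
            | exact absurd e2 q3 | exact absurd e2.symm q3 | exact absurd e2 q4 | exact absurd e2.symm q4
            | exact absurd e2 q5 | exact absurd e2.symm q5 | exact absurd e2 q6 | exact absurd e2.symm q6
        subst hij
        exact Prod.ext rfl (Subtype.ext (mul_left_cancel e1))
      have := Nat.card_le_card_of_injective _ hinj
      rw [Nat.card_prod, Nat.card_fin, K.tr_card_fixed hy hp h2] at this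
      exact this
    have := h.cent_x_two _ (hS2.map (MulAut.conj g).toMonoidHom) ?_
    · rw [Subgroup.card_map_of_injective (MulAut.conj g).injective] at this
      omega
    · rintro _ ⟨w, hw, rfl⟩
      rw [← hgy]
      show g * w * g⁻¹ * (g * y * g⁻¹) = g * y * g⁻¹ * (g * w * g⁻¹)
      rw [conj_mul, conj_mul, hw.2.1.eq]
  · push Not at hu
    refine h.x_pair (hgy ▸ noPair_conj (K.noPair_of_one hy fun w hw hwy => ?_))
    rcases K.fused_cases hw with s | s | s
    · exact hc (s ▸ hwy.symm)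
    · refine hc ?_
      have := (s ▸ hwy.symm : Commute y (t0 z e * z)).mul_right (K.comm_z hy)
      rwa [mul_assoc, K.sq_z, mul_one] at this
    · exact hu w hw hwy s

end NG

end Ctx

end CfsgLib.Recognition.PSLThreeFourAut
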