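import Cfsg.Agent.Lib.Recognition.PSLThreeFourAut.Act

/-!
# Involutions of the centraliser
-/

set_option autoImplicit false
set_option maxRecDepth 100000
set_option linter.unusedSectionVars false

namespace CfsgLib.Recognition.PSLThreeFourAut

open Subgroup

variable {G : Type*} [Group G] [Finite G]

/-- The distinguished involution of `E`. -/
def t0 (z : G) (e : Fin 4 → G) : G := el z e 15

/-- The frame with the order of the centraliser. -/
structure Ctx (z : G) (E : Subgroup G) (e : Fin 4 → G) : Prop where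
  frame : Frame z E e
  card_C : Nat.card (centralizer ({z} : Set G)) = 768

theorem auts_prod : ∀ a ∈ Model.auts, Model.ap a 15 = 15 ∨ Model.ap a 15 = 31 := by decide +kernel

theorem lifts_perm : ∀ p q : Equiv.Perm (Fin 4), ∀ a ∈ Model.lifts (permList p),
    ∀ b ∈ Model.lifts (permList q), a.map (· % 16) = b.map (· % 16) → p = q := by
  decide +kernel

theorem perm_kinds : ∀ p : Equiv.Perm (Fin 4), p * p = 1 → p = 1 ∨ IsDT p ∨ IsTR p := by decide +kernel

theorem dt_perm_conj : ∀ p q : Equiv.Perm (Fin 4), IsDT p → IsDT q → ∃ r, r * p * r⁻¹ = q := by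
  decide +kernel

theorem inner_prod : ∀ i < 4, Model.mul (Model.mul 15 (2 ^ i)) 15 < 32 ∧
    Model.mul 15 15 = 0 := by decide +kernel

namespace Ctx

variable {z : G} {E : Subgroup G} {e : Fin 4 → G}


theorem mem_C (K : Ctx z E e) {x : G} (hx : x ∈ E) : x ∈ centralizer ({z} : Set G) := K.frame.extra.le_centralizer hx

theorem z_mem_C (K : Ctx z E e) : z ∈ centralizer ({z} : Set G) := K.mem_C K.frame.extra.z_mem

theorem comm_z (_ : Ctx z E e) {h : G} (hh : h ∈ centralizer ({z} : Set G)) : Commute h z := mem_centralizer_singleton_iff.1 hh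

theorem t0_mem (K : Ctx z E e) : t0 z e ∈ E := K.frame.el_mem 15

theorem t0_mem_C (K : Ctx z E e) : t0 z e ∈ centralizer ({z} : Set G) := K.mem_C K.t0_mem

theorem t0_sq (K : Ctx z E e) : t0 z e * t0 z e = 1 := by
  unfold t0
  rw [K.frame.el_mul (by norm_num) (by norm_num), show Model.mul 15 15 = 0 by decide +kernel, Frame.el_zero]

theorem t0_mul_z (K : Ctx z E e) : t0 z e * z = el z e 31 := by
  unfold t0
  rw [K.frame.el_flip (by norm_num), show Nat.xor 15 16 = 31 by decide +kernel]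

theorem t0_ne_one (K : Ctx z E e) : t0 z e ≠ 1 := fun h => by
  have := K.frame.el_inj (a := 15) (b := 0) (by norm_num) (by norm_num) (h.trans Frame.el_zero.symm)
  norm_num at this

theorem t0_ne_z (K : Ctx z E e) : t0 z e ≠ z := fun h => by
  have := K.frame.el_inj (a := 15) (b := 16) (by norm_num) (by norm_num) (h.trans Frame.el_16.symm)
  norm_num at this

theorem t0_conj (K : Ctx z E e) {h : G} (hh : h ∈ centralizer ({z} : Set G)) :
    h * t0 z e * h⁻¹ = t0 z e ∨ h * t0 z e * h⁻¹ = t0 z e * z := by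
  rw [K.t0_mul_z]
  unfold t0
  rw [K.frame.conj_el' hh (by norm_num)]
  rcases auts_prod _ (K.frame.img_mem hh) with r | r <;> rw [r] <;> simp

theorem commute_t0_or (K : Ctx z E e) {h : G} (hh : h ∈ centralizer ({z} : Set G)) :
    Commute h (t0 z e) ∨ h * t0 z e * h⁻¹ = t0 z e * z :=
  (K.t0_conj hh).imp_left mul_inv_eq_iff_eq_mul.1

theorem not_commute_t0_iff (K : Ctx z E e) {h : G} (hh : h ∈ centralizer ({z} : Set G)) :
    ¬ Commute h (t0 z e) ↔ Model.ap (img z e h) 15 = 31 := by
  rw [show t0 z e = el z e 15 from rfl, K.frame.commute_el_iff hh (by norm_num)]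
  rcases auts_prod _ (K.frame.img_mem hh) with r | r <;> rw [r] <;> norm_num

/-- An involution of `E` commuting with `t₀`. -/
theorem mem_Z0_of_E (K : Ctx z E e) {x : G} (hx : x ∈ E) (h2 : x * x = 1) (hc : Commute x (t0 z e)) :
    x = 1 ∨ x = z ∨ x = t0 z e ∨ x = t0 z e * z := by
  obtain ⟨n, hn, rfl⟩ := K.frame.exists_el hx
  have e1 : Model.mul n n = 0 := K.frame.el_inj (Model.mul_lt n hn n hn) (by norm_num)
    (by rw [← K.frame.el_mul hn hn, h2, Frame.el_zero])
  have e2 : Model.mul n 15 = Model.mul 15 n := K.frame.el_inj (Model.mul_lt n hn 15 (by norm_num))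
    (Model.mul_lt 15 (by norm_num) n hn)
    (by rw [← K.frame.el_mul hn (by norm_num), ← K.frame.el_mul (by norm_num) hn]; exact hc.eq)
  have := Model.comm_prod n hn e1 e2
  simp only [List.mem_cons, List.not_mem_nil, or_false] at this
  rcases this with rfl | rfl | rfl | rfl
  · exact Or.inl Frame.el_zero
  · exact Or.inr (Or.inl Frame.el_16)
  · exact Or.inr (Or.inr (Or.inl rfl))
  · exact Or.inr (Or.inr (Or.inr K.t0_mul_z.symm))

theorem ptype_pair (K : Ctx z E e) {x : G} (hx : x ∈ E) (h2 : x * x = 1) (hc : ¬ Commute x (t0 z e)) :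
    ∃ d f, d ∈ E ∧ f ∈ E ∧ Commute d x ∧ Commute f x ∧ d * d = z ∧ f * f = z ∧ d * f * (d * f) = z := by
  obtain ⟨n, hn, rfl⟩ := K.frame.exists_el hx
  have e1 : Model.mul n n = 0 := K.frame.el_inj (Model.mul_lt n hn n hn) (by norm_num)
    (by rw [← K.frame.el_mul hn hn, h2, Frame.el_zero])
  have hP : n ∈ [7, 11, 13, 14, 23, 27, 29, 30] := by
    have := Model.sq_one n hn e1
    simp only [List.mem_cons, List.not_mem_nil, or_false] at this ⊢
    rcases this with rfl | rfl | rfl | rfl | r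
    · exact absurd (Frame.el_zero (z := z) (e := e) ▸ Commute.one_left _) hc
    · refine absurd ?_ hc
      rw [Frame.el_16]
      exact K.frame.extra.z_comm K.t0_mem
    · exact absurd (Commute.refl _) hc
    · exact absurd (K.t0_mul_z ▸ (Commute.refl _).mul_left (K.frame.extra.z_comm K.t0_mem)) hc
    · exact r
  obtain ⟨d, hd, f, hf, q1, q2, q3, q4, q5⟩ := Model.ptype_pair n hP
  have F := K.frame
  have hdf := Model.mul_lt d hd f hf
  refine ⟨el z e d, el z e f, F.el_mem d, F.el_mem f, ?_, ?_, ?_, ?_, ?_⟩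
  · show _ = _
    rw [F.el_mul hd hn, F.el_mul hn hd, q4]
  · show _ = _
    rw [F.el_mul hf hn, F.el_mul hn hf, q5]
  · rw [F.el_mul hd hd, q1, Frame.el_16]
  · rw [F.el_mul hf hf, q2, Frame.el_16]
  · rw [F.el_mul hd hf, F.el_mul hdf hdf, q3, Frame.el_16]

/-! ### Involutions inducing double transpositions -/

theorem dt_img (K : Ctx z E e) {u : G} (hu : u ∈ centralizer ({z} : Set G)) (hp : IsDT (sig z e u)) (h2 : u * u = 1) :
    img z e u ∈ Model.invols Model.dts :=
  K.frame.img_invol hu h2 ((perm_cases _).1 hp)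

theorem dt_commute_t0 (K : Ctx z E e) {u : G} (hu : u ∈ centralizer ({z} : Set G)) (hp : IsDT (sig z e u)) (h2 : u * u = 1) :
    Commute u (t0 z e) :=
  (K.frame.commute_el_iff hu (by norm_num)).2 (Model.dt_fixed _ (K.dt_img hu hp h2)).1

theorem dt_fixed (K : Ctx z E e) {u : G} (hu : u ∈ centralizer ({z} : Set G)) (hp : IsDT (sig z e u)) (h2 : u * u = 1)
    {q : G} (hq : q ∈ E) (hc : Commute u q) :
    q = 1 ∨ q = z ∨ q = t0 z e ∨ q = t0 z e * z := by
  obtain ⟨n, hn, rfl⟩ := K.frame.exists_el hq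
  have hm : n ∈ Model.fixedBy (img z e u) := List.mem_filter.2
    ⟨List.mem_range.2 hn, decide_eq_true ((K.frame.commute_el_iff hu hn).1 hc)⟩
  rw [(Model.dt_fixed _ (K.dt_img hu hp h2)).2.1] at hm
  simp only [List.mem_cons, List.not_mem_nil, or_false] at hm
  rcases hm with rfl | rfl | rfl | rfl
  · exact Or.inl Frame.el_zero
  · exact Or.inr (Or.inr (Or.inl rfl))
  · exact Or.inr (Or.inl Frame.el_16)
  · exact Or.inr (Or.inr (Or.inr K.t0_mul_z.symm))

/-- There are at most eight involutions in a coset of `E` inducing a double transposition. -/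
theorem dt_coset_le (K : Ctx z E e) {u : G} (hu : u ∈ centralizer ({z} : Set G)) (hp : IsDT (sig z e u))
    (h2 : u * u = 1) : {q : G | q ∈ E ∧ u * q * (u * q) = 1}.ncard ≤ 8 := by
  classical
  set F := K.frame
  have uinv : u⁻¹ = u := inv_eq_of_mul_eq_one_right h2
  have hsub : {q : G | q ∈ E ∧ u * q * (u * q) = 1} ⊆
      ↑((((List.range 32).filter fun n => decide (Model.mul n (Model.ap (img z e u) n) = 0)).map
        (el z e)).toFinset) := by
    rintro q ⟨hq, hq2⟩
    obtain ⟨n, hn, rfl⟩ := F.exists_el hq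
    refine List.mem_toFinset.2 (List.mem_map.2 ⟨n, List.mem_filter.2 ⟨List.mem_range.2 hn, ?_⟩, rfl⟩)
    have hl := Model.ap_lt _ (F.img_mem hu) n hn
    refine decide_eq_true (F.el_inj (Model.mul_lt n hn _ hl) (by norm_num) ?_)
    rw [← F.el_mul hn hl, ← F.conj_el' hu hn, uinv, Frame.el_zero]
    calc el z e n * (u * el z e n * u) = u⁻¹ * (u * el z e n * (u * el z e n)) * u := by group
      _ = 1 := by rw [hq2, mul_one, inv_mul_cancel]
  refine (Set.ncard_le_ncard hsub).trans ?_
  rw [Set.ncard_coe_finset]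
  refine (List.toFinset_card_le _).trans ?_
  rw [List.length_map, (Model.dt_fixed _ (K.dt_img hu hp h2)).2.2]

/-- The involutions in the coset `uE` are conjugate under `E`. -/
theorem dt_conj_E (K : Ctx z E e) {u : G} (hu : u ∈ centralizer ({z} : Set G)) (hp : IsDT (sig z e u)) (h2 : u * u = 1)
    {q : G} (hq : q ∈ E) (hq2 : u * q * (u * q) = 1) : ∃ x ∈ E, x * u * x⁻¹ = u * q := by
  classical
  set F := K.frame
  set a := img z e u with ha
  set S : Finset G := (((List.range 32).filter fun n => decide (Model.mul n (Model.ap a n) = 0)).map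
    fun n => u * el z e n).toFinset with hS
  have hScard : S.card ≤ 8 := by
    refine (List.toFinset_card_le _).trans ?_
    rw [List.length_map, (Model.dt_fixed _ (K.dt_img hu hp h2)).2.2]
  have uinv : u⁻¹ = u := inv_eq_of_mul_eq_one_right h2
  have hmemS : ∀ y ∈ E, u * y * (u * y) = 1 → u * y ∈ S := by
    intro y hy hy2
    obtain ⟨n, hn, rfl⟩ := F.exists_el hy
    refine List.mem_toFinset.2 (List.mem_map.2 ⟨n, List.mem_filter.2 ⟨List.mem_range.2 hn, ?_⟩, rfl⟩)
    refine decide_eq_true (F.el_inj (Model.mul_lt n hn _ (Model.ap_lt _ (F.img_mem hu) n hn)) (by norm_num) ?_)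
    rw [← F.el_mul hn (Model.ap_lt _ (F.img_mem hu) n hn), ← F.conj_el' hu hn, uinv, Frame.el_zero]
    calc el z e n * (u * el z e n * u) = u⁻¹ * (u * el z e n * (u * el z e n)) * u := by group
      _ = 1 := by rw [hy2, mul_one, inv_mul_cancel]
  haveI := Fintype.ofFinite E
  set I := (Finset.univ : Finset E).image (fun x : E => (x : G) * u * (x : G)⁻¹) with hI
  have hIS : I ⊆ S := by
    intro w hw
    obtain ⟨x, -, rfl⟩ := Finset.mem_image.1 hw
    have e1 : (x : G) * u * (x : G)⁻¹ = u * (u * x * u⁻¹ * (x : G)⁻¹) := by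
      rw [uinv]; calc (x : G) * u * (x : G)⁻¹ = (u * u) * x * u * (x : G)⁻¹ := by rw [h2, one_mul]
        _ = u * (u * x * u * (x : G)⁻¹) := by group
    rw [e1]
    refine hmemS _ (mul_mem (F.norm u hu _ x.2) (inv_mem x.2)) ?_
    rw [← e1, conj_mul, h2, mul_one, mul_inv_cancel]
  have h32 : (Finset.univ : Finset E).card ≤ 4 * I.card := by
    refine Finset.card_le_mul_card_image _ 4 fun w hw => ?_
    obtain ⟨x, -, rfl⟩ := Finset.mem_image.1 hw
    let T : Finset E := {x, x * ⟨z, F.extra.z_mem⟩, x * ⟨t0 z e, K.t0_mem⟩,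
      x * (⟨t0 z e, K.t0_mem⟩ * ⟨z, F.extra.z_mem⟩)}
    refine le_trans (Finset.card_le_card (t := T) fun y hy => ?_) ?_
    · have hy' : (y : G) * u * (y : G)⁻¹ = x * u * (x : G)⁻¹ := (Finset.mem_filter.1 hy).2
      have hc : Commute u ((x : G)⁻¹ * y) := by
        show u * _ = _ * u
        calc u * ((x : G)⁻¹ * y) = (x : G)⁻¹ * (x * u * (x : G)⁻¹) * y := by group
          _ = (x : G)⁻¹ * y * u := by rw [← hy']; group
      rcases K.dt_fixed hu hp h2 (mul_mem (inv_mem x.2) y.2) hc with r | r | r | r <;>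
        simp only [T, Finset.mem_insert, Finset.mem_singleton, Subtype.ext_iff, Subgroup.coe_mul]
      · exact Or.inl (inv_mul_eq_one.1 r).symm
      · exact Or.inr (Or.inl (inv_mul_eq_iff_eq_mul.1 r))
      · exact Or.inr (Or.inr (Or.inl (inv_mul_eq_iff_eq_mul.1 r)))
      · exact Or.inr (Or.inr (Or.inr (inv_mul_eq_iff_eq_mul.1 r)))
    · exact Finset.card_le_four
  rw [Finset.card_univ, ← Nat.card_eq_fintype_card, F.card_E] at h32
  have := Finset.eq_of_subset_of_card_le hIS (by omega)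
  obtain ⟨x, -, hx⟩ := Finset.mem_image.1 (this.symm ▸ hmemS q hq hq2 : u * q ∈ I)
  exact ⟨x, x.2, hx⟩

theorem sig_surj (K : Ctx z E e) (r : Equiv.Perm (Fin 4)) : ∃ h ∈ centralizer ({z} : Set G), sig z e h = r := by
  obtain ⟨h, hh, he⟩ := K.frame.img_surj K.card_C
    (List.mem_flatMap.2 ⟨_, perm_list r, list_of_perm r fun _ => false⟩)
  refine ⟨h, hh, ?_⟩
  have hl := K.frame.img_mem_lifts hh
  rw [he] at hl
  exact lifts_perm _ _ _ hl _ (list_of_perm r fun _ => false) rfl

/-- All involutions inducing double transpositions are conjugate. -/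
theorem dt_conj (K : Ctx z E e) {u v : G} (hu : u ∈ centralizer ({z} : Set G)) (hp : IsDT (sig z e u)) (h2 : u * u = 1)
    (hv : v ∈ centralizer ({z} : Set G)) (hvp : IsDT (sig z e v)) (hv2 : v * v = 1) : ∃ h ∈ centralizer ({z} : Set G), h * u * h⁻¹ = v := by
  set F := K.frame
  obtain ⟨r, hr⟩ := dt_perm_conj _ _ hp hvp
  obtain ⟨h, hh, hs⟩ := K.sig_surj r
  set w := h * u * h⁻¹ with hw
  have hwC : w ∈ centralizer ({z} : Set G) := mul_mem (mul_mem hh hu) (inv_mem hh)
  have hsw : sig z e w = sig z e v := by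
    rw [hw, F.sig_mul (mul_mem hh hu) (inv_mem hh), F.sig_mul hh hu, F.sig_inv hh, hs, hr]
  have hq : w⁻¹ * v ∈ E := F.mem_E_of_sig (mul_mem (inv_mem hwC) hv)
    (by rw [F.sig_mul (inv_mem hwC) hv, F.sig_inv hwC, hsw, inv_mul_cancel])
  have hw2 : w * w = 1 := by rw [hw, conj_mul, h2, mul_one, mul_inv_cancel]
  obtain ⟨x, hx, hxe⟩ := K.dt_conj_E hwC (hsw ▸ hvp) hw2 hq (by rw [mul_inv_cancel_left, hv2])
  rw [mul_inv_cancel_left] at hxe
  exact ⟨x * h, mul_mem (K.mem_C hx) hh, by rw [← hxe, hw]; group⟩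

/-- Commuting lifts of two double transpositions. -/
theorem dt_dt (K : Ctx z E e) {u y : G} (hu : u ∈ centralizer ({z} : Set G)) (hp : IsDT (sig z e u)) (h2 : u * u = 1)
    (hy : y ∈ centralizer ({z} : Set G)) (hyp : IsDT (sig z e y)) (hne : sig z e y ≠ sig z e u) (hc : Commute u y) :
    Commute y (t0 z e) := by
  set F := K.frame
  refine (F.commute_el_iff hy (by norm_num)).2 (Model.dt_dt _ (K.dt_img hu hp h2) _
    (List.mem_flatMap.2 ⟨_, (perm_cases _).1 hyp, F.img_mem_lifts hy⟩) ?_ fun he => hne ?_)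
  · rw [← F.img_mul hu hy, ← F.img_mul hy hu, hc.eq]
  · exact (lifts_perm _ _ _ (F.img_mem_lifts hu) _ (F.img_mem_lifts hy) he).symm

/-- The squares in the kernel of the action on `⟨z, t₀⟩`. -/
theorem sq_mem_Z0 (K : Ctx z E e) {h : G} (hh : h ∈ centralizer ({z} : Set G)) (hp : sig z e h = 1 ∨ IsDT (sig z e h))
    (hc : Commute h (t0 z e)) :
    h * h = 1 ∨ h * h = z ∨ h * h = t0 z e ∨ h * h = t0 z e * z := by
  set F := K.frame
  have hl : permList (sig z e h) ∈ [0, 1, 2, 3] :: Model.dts := by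
    rcases hp with r | r
    · exact List.mem_cons.2 (Or.inl ((perm_cases _).2.2.2 r))
    · exact List.mem_cons.2 (Or.inr ((perm_cases _).1 r))
  have h15 := (F.commute_el_iff hh (n := 15) (by norm_num)).1 hc
  have ht : img z e (t0 z e) = Model.idl.map fun n => Model.mul (Model.mul 15 n) 15 := by
    have hi : ∀ i : Fin 4, idx z e (t0 z e * e i * (t0 z e)⁻¹) = Model.mul (Model.mul 15 (2 ^ i.val)) 15 := by
      intro i
      rw [inv_eq_of_mul_eq_one_right K.t0_sq, t0, ← Frame.el_gen (z := z) (e := e) i,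
        F.el_mul (by norm_num) (gen_lt i), F.el_mul (Model.mul_lt 15 (by norm_num) _ (gen_lt i)) (by norm_num),
        F.idx_el (inner_prod i.val i.isLt).1]
    unfold img
    rw [List.map_congr_left fun i _ => hi i]
    rfl
  rcases Model.four_sq _ (List.mem_flatMap.2 ⟨_, hl, F.img_mem_lifts hh⟩) h15 with r | r
  · rw [← F.img_mul hh hh, ← F.img_one] at r
    rcases F.img_eq (mul_mem hh hh) (one_mem _) r with s | s
    · exact Or.inl s
    · exact Or.inr (Or.inl (by rw [s, one_mul]))
  · rw [← F.img_mul hh hh, ← ht] at r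
    rcases F.img_eq (mul_mem hh hh) K.t0_mem_C r with s | s
    · exact Or.inr (Or.inr (Or.inl s))
    · exact Or.inr (Or.inr (Or.inr s))

/-! ### Involutions inducing transpositions, and four-cycles -/

theorem tr_img (K : Ctx z E e) {x : G} (hx : x ∈ centralizer ({z} : Set G)) (hp : IsTR (sig z e x)) (h2 : x * x = 1) :
    img z e x ∈ Model.invols Model.trs :=
  K.frame.img_invol hx h2 ((perm_cases _).2.1 hp)

theorem tr_four (K : Ctx z E e) {x : G} (hx : x ∈ centralizer ({z} : Set G)) (hp : IsTR (sig z e x)) (h2 : x * x = 1) :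
    ∃ d ∈ E, Commute x d ∧ d * d = z := by
  obtain ⟨d, hd, hfix, hsq⟩ := Model.tr_four _ (K.tr_img hx hp h2)
  exact ⟨el z e d, K.frame.el_mem d, (K.frame.commute_el_iff hx hd).2 hfix,
    by rw [K.frame.el_mul hd hd, hsq, Frame.el_16]⟩

theorem tr_card_fixed (K : Ctx z E e) {x : G} (hx : x ∈ centralizer ({z} : Set G)) (hp : IsTR (sig z e x)) (h2 : x * x = 1) :
    Nat.card (E ⊓ centralizer ({x} : Set G) : Subgroup G) = 8 := by
  classical
  set F := K.frame
  set l := Model.fixedBy (img z e x) with hl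
  have hlen : l.length = 8 := Model.tr_fixed _ (K.tr_img hx hp h2)
  have hnd : l.Nodup := List.nodup_range.filter _
  haveI := Fintype.ofFinite (E ⊓ centralizer ({x} : Set G) : Subgroup G)
  have : ((E ⊓ centralizer ({x} : Set G) : Subgroup G) : Set G) = ↑((l.toFinset).image (el z e)) := by
    ext g
    simp only [Finset.coe_image, Set.mem_image, Finset.mem_coe, List.mem_toFinset, SetLike.mem_coe,
      Subgroup.mem_inf, mem_centralizer_singleton_iff]
    constructor
    · rintro ⟨hg, hc⟩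
      obtain ⟨n, hn, rfl⟩ := F.exists_el hg
      exact ⟨n, List.mem_filter.2 ⟨List.mem_range.2 hn,
        decide_eq_true ((F.commute_el_iff hx hn).1 (Commute.symm hc))⟩, rfl⟩
    · rintro ⟨n, hn, rfl⟩
      obtain ⟨hn1, hn2⟩ := List.mem_filter.1 hn
      exact ⟨F.el_mem n, ((F.commute_el_iff hx (List.mem_range.1 hn1)).2 (of_decide_eq_true hn2)).symm.eq⟩
  rw [← SetLike.coe_sort_coe, Nat.card_coe_set_eq, this, Set.ncard_coe_finset,
    Finset.card_image_of_injOn, List.toFinset_card_of_nodup hnd, hlen]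
  intro a ha b hb hab
  exact F.el_inj (List.mem_range.1 (List.mem_filter.1 (List.mem_toFinset.1 ha)).1)
    (List.mem_range.1 (List.mem_filter.1 (List.mem_toFinset.1 hb)).1) hab

/-- An involution inducing a transposition that commutes with a double transposition moves `t₀`. -/
theorem tr_dt (K : Ctx z E e) {x u : G} (hx : x ∈ centralizer ({z} : Set G)) (hp : IsTR (sig z e x)) (h2 : x * x = 1)
    (hu : u ∈ centralizer ({z} : Set G)) (hup : IsDT (sig z e u)) (hu2 : u * u = 1) (hc : Commute x u) :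
    ¬ Commute x (t0 z e) := by
  refine (K.not_commute_t0_iff hx).2 (Model.tr_dt _ (K.tr_img hx hp h2) _ (K.dt_img hu hup hu2) ?_)
  rw [← K.frame.img_mul hx hu, ← K.frame.img_mul hu hx, hc.eq]

/-- An element of order dividing four inducing a four-cycle moves `t₀`. -/
theorem fc_moves (K : Ctx z E e) {q : G} (hq : q ∈ centralizer ({z} : Set G)) (hp : IsFC (sig z e q)) (h4 : q * q * (q * q) = 1) :
    ¬ Commute q (t0 z e) := by
  set F := K.frame
  refine (K.not_commute_t0_iff hq).2 (Model.fc_moves _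
    (List.mem_flatMap.2 ⟨_, (perm_cases _).2.2.1 hp, F.img_mem_lifts hq⟩) ?_)
  rw [← F.img_mul hq hq, ← F.img_mul (mul_mem hq hq) (mul_mem hq hq), h4, F.img_one]

end Ctx

end CfsgLib.Recognition.PSLThreeFourAut
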