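import Cfsg.Agent.Lib.Recognition.PSLThreeFourAut.Plane
import Cfsg.Agent.Lib.Recognition.PSLThreeFourAut.Exists
import Cfsg.Agent.Lib.Recognition.USixTwoOuter.Isolated

/-!
# Recognition of the automorphism group of `PGL(3,4)`
-/

set_option autoImplicit false
set_option linter.unusedSectionVars false

namespace CfsgLib.Recognition.PSLThreeFourAut

open Subgroup CfsgLib.Involution

variable {G : Type*} [Group G] [Finite G]

theorem eq_one_of_odd {N : Subgroup G} (hN : Odd (Nat.card N)) {y : G} (hy : y ∈ N) {k : ℕ} (h2 : y ^ 2 ^ k = 1) : y = 1 := by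
  have hco : Nat.Coprime (2 ^ k) (Nat.card N) := Nat.Coprime.pow_left _ (Nat.coprime_two_left.2 hN)
  have h1 : y ^ Nat.card N = 1 := congrArg Subtype.val (pow_card_eq_one' (x := (⟨y, hy⟩ : N)))
  have := pow_gcd_eq_one.2 ⟨h2, h1⟩
  rwa [hco.gcd_eq_one, pow_one] at this

/-- A fixed-point-free involution inverts a group of odd order. -/
theorem inverts_of_fpf {N : Subgroup G} [N.Normal] (hN : Odd (Nat.card N)) {w : G} (hw : w * w = 1)
    (hfpf : ∀ y ∈ N, w * y * w⁻¹ = y → y = 1) {y : G} (hy : y ∈ N) : w * y * w⁻¹ = y⁻¹ := by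
  have hc : ∀ a ∈ N, w * a * w⁻¹ ∈ N := fun a ha => Subgroup.Normal.conj_mem ‹N.Normal› a ha w
  have hww : ∀ a, w * (w * a * w⁻¹) * w⁻¹ = a := fun a => by
    rw [show w * (w * a * w⁻¹) * w⁻¹ = (w * w) * a * (w * w)⁻¹ by group, hw, one_mul, inv_one, mul_one]
  let f : N → N := fun a => ⟨(a : G)⁻¹ * (w * a * w⁻¹), mul_mem (inv_mem a.2) (hc a a.2)⟩
  have hf : Function.Injective f := by
    rintro ⟨a, ha⟩ ⟨b, hb⟩ q
    have e1 : a⁻¹ * (w * a * w⁻¹) = b⁻¹ * (w * b * w⁻¹) := congrArg Subtype.val q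
    have e2 : w * (b * a⁻¹) * w⁻¹ = b * a⁻¹ := by
      calc w * (b * a⁻¹) * w⁻¹ = b * (b⁻¹ * (w * b * w⁻¹)) * (w * a * w⁻¹)⁻¹ := by group
        _ = b * (a⁻¹ * (w * a * w⁻¹)) * (w * a * w⁻¹)⁻¹ := by rw [e1]
        _ = b * a⁻¹ := by group
    exact Subtype.ext (mul_inv_eq_one.1 (hfpf _ (mul_mem hb (inv_mem ha)) e2)).symm
  obtain ⟨⟨a, ha⟩, q⟩ := (Finite.injective_iff_surjective.1 hf) ⟨y, hy⟩
  have e1 : a⁻¹ * (w * a * w⁻¹) = y := congrArg Subtype.val q
  rw [← e1, show w * (a⁻¹ * (w * a * w⁻¹)) * w⁻¹ = (w * a * w⁻¹)⁻¹ * (w * (w * a * w⁻¹) * w⁻¹) by group, hww]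
  group

namespace Ctx

variable {z : G} {E : Subgroup G} {e : Fin 4 → G}

theorem isSolvable_C (K : Ctx z E e) : Group.IsSolvable ↥(centralizer ({z} : Set G)) :=
  Cfsg.Agent.S0144.result 2 3 8 1 Nat.prime_two Nat.prime_three (K.card_C.trans (by norm_num))

/-- `z` acts fixed-point-freely on `O(G)`. -/
theorem fpf_oddCore (K : Ctx z E e) {y : G} (hy : y ∈ Cfsg.oddCore G) (hyz : Commute y z) : y = 1 := by
  have hodd := ZStar.odd_card_oddCore (G := G)
  have hn : (Cfsg.oddCore G).Normal := ZStar.oddCore_normal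
  have hyC : y ∈ centralizer ({z} : Set G) := mem_centralizer_singleton_iff.2 hyz.eq
  have hcomm : ∀ q ∈ E, y * q = q * y := by
    intro q hq
    have h1 : y * q * y⁻¹ * q⁻¹ ∈ Cfsg.oddCore G := by
      rw [show y * q * y⁻¹ * q⁻¹ = y * (q * y⁻¹ * q⁻¹) by group]
      exact mul_mem hy (hn.conj_mem _ (inv_mem hy) q)
    have h2 : y * q * y⁻¹ * q⁻¹ ∈ E := mul_mem (K.frame.norm y hyC q hq) (inv_mem hq)
    have h4 : (y * q * y⁻¹ * q⁻¹) ^ 2 ^ 2 = 1 := by
      rw [show (2 : ℕ) ^ 2 = 2 * 2 from rfl, pow_mul, pow_two, pow_two]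
      rcases K.frame.extra.sq_cases h2 with r | r <;> rw [r]
      · exact one_mul 1
      · exact K.sq_z
    exact mul_inv_eq_iff_eq_mul.1 (mul_inv_eq_one.1 (eq_one_of_odd hodd h1 h4))
  rcases K.cent_E hyC hcomm with r | r
  · exact r
  · exact eq_one_of_odd hodd hy (k := 1) (by rw [pow_one, pow_two, r]; exact K.sq_z)

theorem fpf_conj (K : Ctx z E e) {w : G} (hw : IsConj z w) {y : G} (hy : y ∈ Cfsg.oddCore G)
    (hf : w * y * w⁻¹ = y) : y = 1 := by
  obtain ⟨g, rfl⟩ := isConj_iff.1 hw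
  have hy' : g⁻¹ * y * g ∈ Cfsg.oddCore G := by
    have := (ZStar.oddCore_normal (G := G)).conj_mem y hy g⁻¹
    rwa [inv_inv] at this
  have hc : Commute (g⁻¹ * y * g) z := by
    have e1 : g * z * g⁻¹ * y = y * (g * z * g⁻¹) := mul_inv_eq_iff_eq_mul.1 hf
    show g⁻¹ * y * g * z = z * (g⁻¹ * y * g)
    calc g⁻¹ * y * g * z = g⁻¹ * (y * (g * z * g⁻¹)) * g := by group
      _ = g⁻¹ * (g * z * g⁻¹ * y) * g := by rw [e1]
      _ = z * (g⁻¹ * y * g) := by group
  have := K.fpf_oddCore hy' hc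
  rw [show y = g * (g⁻¹ * y * g) * g⁻¹ by group, this]
  group

/-- The isolated case. -/
theorem isolated_case (K : Ctx z E e) (hiso : Cfsg.IsIsolatedInvolution z) :
    IsMulCommutative ↥(Cfsg.oddCore G) ∧ Group.IsSolvable G := by
  have hodd := ZStar.odd_card_oddCore (G := G)
  haveI hn : (Cfsg.oddCore G).Normal := ZStar.oddCore_normal
  have hinv : ∀ y ∈ Cfsg.oddCore G, z * y * z⁻¹ = y⁻¹ := fun y hy =>
    inverts_of_fpf hodd K.sq_z (fun a ha q => K.fpf_conj (IsConj.refl z) ha q) hy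
  have hcomm : ∀ a ∈ Cfsg.oddCore G, ∀ b ∈ Cfsg.oddCore G, a * b = b * a := by
    intro a ha b hb
    have h1 := hinv (a * b) (mul_mem ha hb)
    rw [← conj_mul, hinv a ha, hinv b hb] at h1
    have := congrArg (·⁻¹) h1
    simpa [mul_inv_rev] using this.symm
  refine ⟨⟨⟨fun a b => Subtype.ext (hcomm a a.2 b b.2)⟩⟩, ?_⟩
  haveI : Group.IsSolvable ↥(Cfsg.oddCore G) := by
    letI : CommGroup ↥(Cfsg.oddCore G) :=
      { (inferInstance : Group ↥(Cfsg.oddCore G)) with mul_comm := fun a b => Subtype.ext (hcomm a a.2 b b.2) }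
    infer_instance
  haveI := K.isSolvable_C
  have hsup := CfsgLib.Recognition.USixTwoOuter.sup_oddCore_eq_top hiso
  let f : ↥(centralizer ({z} : Set G)) →* G ⧸ Cfsg.oddCore G :=
    (QuotientGroup.mk' (Cfsg.oddCore G)).comp (centralizer ({z} : Set G)).subtype
  have hf : Function.Surjective f := by
    intro q
    induction q using QuotientGroup.induction_on with
    | _ g =>
      obtain ⟨c, hc, o, ho, rfl⟩ := Subgroup.mem_sup_of_normal_right.1
        (hsup.symm ▸ Subgroup.mem_top g : g ∈ centralizer ({z} : Set G) ⊔ Cfsg.oddCore G)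
      exact ⟨⟨c, hc⟩, QuotientGroup.eq.2 (by show c⁻¹ * (c * o) ∈ _; rw [inv_mul_cancel_left]; exact ho)⟩
  haveI : Group.IsSolvable (G ⧸ Cfsg.oddCore G) := solvable_of_surjective hf
  exact solvable_of_ker_le_range (Cfsg.oddCore G).subtype (QuotientGroup.mk' (Cfsg.oddCore G))
    (by rw [QuotientGroup.ker_mk', Subgroup.range_subtype])

theorem oddCore_trivial (K : Ctx z E e) (ht : IsConj z (t0 z e)) (htz : IsConj z (t0 z e * z)) :
    IsMulCommutative ↥(Cfsg.oddCore G) := by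
  have hodd := ZStar.odd_card_oddCore (G := G)
  haveI hn : (Cfsg.oddCore G).Normal := ZStar.oddCore_normal
  have inv : ∀ w, IsConj z w → w * w = 1 → ∀ y ∈ Cfsg.oddCore G, w * y * w⁻¹ = y⁻¹ := fun w hw h2 y hy =>
    inverts_of_fpf hodd h2 (fun a ha q => K.fpf_conj hw ha q) hy
  have hone : ∀ y ∈ Cfsg.oddCore G, y = 1 := by
    intro y hy
    have e1 := inv _ ht K.t0_sq
    have e2 := inv _ (IsConj.refl z) K.sq_z y hy
    have e3 := inv _ htz (by rw [K.z_t0.mul_mul_mul_comm, K.t0_sq, K.sq_z, one_mul]) y hy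
    rw [show t0 z e * z * y * (t0 z e * z)⁻¹ = t0 z e * (z * y * z⁻¹) * (t0 z e)⁻¹ by group, e2,
      e1 _ (inv_mem hy), inv_inv] at e3
    refine eq_one_of_odd hodd hy (k := 1) ?_
    rw [pow_one, pow_two]
    nth_rewrite 1 [e3]
    exact inv_mul_cancel y
  exact ⟨⟨fun a b => Subtype.ext (by
    show (a : G) * b = b * a
    rw [hone a a.2, hone b b.2])⟩⟩

theorem main (K : Ctx z E e) (hz : orderOf z = 2) {F : Type*} [Field F] [Fintype F] (hF : Fintype.card F = 4) :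
    IsMulCommutative ↥(Cfsg.oddCore G) ∧
      (¬ Group.IsSolvable G → Nonempty (G ≃* MulAut (GL (Fin 3) F ⧸ Subgroup.center (GL (Fin 3) F)))) := by
  by_cases hiso : Cfsg.IsIsolatedInvolution z
  · obtain ⟨h1, h2⟩ := K.isolated_case hiso
    exact ⟨h1, fun h => absurd h2 h⟩
  simp only [Cfsg.IsIsolatedInvolution, hz, true_and, not_forall] at hiso
  obtain ⟨g, hc, hne⟩ := hiso
  have hu : Fused z (g * z * g⁻¹) :=
    ⟨isConj_iff.2 ⟨g, rfl⟩, mem_centralizer_singleton_iff.2 hc.eq.symm, hne⟩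
  have ht := K.t0_fused hu
  refine ⟨K.oddCore_trivial ht (ht.trans K.t0z_conj), fun hns => ?_⟩
  obtain ⟨n, r, x, h⟩ := K.exists_NG ht
  obtain ⟨a, ha, ha1, haA, ha0⟩ := h.exists_A_out
  by_cases hza : IsConj z a
  · exact h.iso_caseI (h.hUz_of haA ha0 hza) hF
  · exact absurd (h.solvable_caseII ha ha1 hza) hns

end Ctx

end CfsgLib.Recognition.PSLThreeFourAut
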