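import Cfsg.Agent.Lib.Recognition.PSLThreeFourAut.Local

/-!
# The action of `S₄` on the three pairings
-/

set_option autoImplicit false
set_option maxRecDepth 100000
set_option synthInstance.maxSize 4000
set_option synthInstance.maxHeartbeats 400000
set_option linter.unusedSectionVars false

namespace CfsgLib.Recognition.PSLThreeFourAut

/-- The pairing containing the pair `{a, b}`. -/
def pidx (a b : Fin 4) : Fin 3 :=
  if a = 0 then (![0, 0, 1, 2] : Fin 4 → Fin 3) b
  else if b = 0 then (![0, 0, 1, 2] : Fin 4 → Fin 3) a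
  else if a ≠ 1 ∧ b ≠ 1 then 0 else if a ≠ 2 ∧ b ≠ 2 then 1 else 2

/-- The image of a pairing. -/
def pimg (p : Equiv.Perm (Fin 4)) (k : Fin 3) : Fin 3 := pidx (p 0) (p k.succ)

theorem pimg_inv : ∀ (p : Equiv.Perm (Fin 4)) (k : Fin 3), pimg p⁻¹ (pimg p k) = k ∧ pimg p (pimg p⁻¹ k) = k := by
  decide +kernel

theorem pimg_mul : ∀ (p q : Equiv.Perm (Fin 4)) (k : Fin 3), pimg (p * q) k = pimg p (pimg q k) := by
  decide +kernel

theorem pimg_one : ∀ k : Fin 3, pimg 1 k = k := by decide +kernel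

/-- The homomorphism `S₄ → S₃`. -/
def pairing : Equiv.Perm (Fin 4) →* Equiv.Perm (Fin 3) where
  toFun p :=
    { toFun := pimg p
      invFun := pimg p⁻¹
      left_inv := fun k => (pimg_inv p k).1
      right_inv := fun k => (pimg_inv p k).2 }
  map_one' := Equiv.ext pimg_one
  map_mul' p q := Equiv.ext (pimg_mul p q)

theorem pairing_ker : ∀ p : Equiv.Perm (Fin 4), pairing p = 1 ↔ p = 1 ∨ IsDT p := by decide +kernel

theorem pairing_surj : ∀ q : Equiv.Perm (Fin 3), ∃ p, pairing p = q := by decide +kernel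

theorem pairing_sign : ∀ p : Equiv.Perm (Fin 4), Equiv.Perm.sign (pairing p) = Equiv.Perm.sign p := by
  decide +kernel

theorem pairing_tr : ∀ p : Equiv.Perm (Fin 4), pairing p ≠ 1 → p * p = 1 → IsTR p := by decide +kernel

theorem dt_mul : ∀ p q : Equiv.Perm (Fin 4), (p = 1 ∨ IsDT p) → (q = 1 ∨ IsDT q) →
    (p * q = 1 ∨ IsDT (p * q)) ∧ p * q = q * p := by
  decide +kernel

theorem dt_inv : ∀ p : Equiv.Perm (Fin 4), p = 1 ∨ IsDT p → p⁻¹ = p := by decide +kernel

/-- The transposition of the first two pairings' stabiliser. -/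
def c01 : Equiv.Perm (Fin 4) := Equiv.swap 0 1

/-- The first double transposition. -/
def s01 : Equiv.Perm (Fin 4) := Equiv.swap 0 1 * Equiv.swap 2 3

theorem s01_dt : IsDT s01 := by decide +kernel

theorem c01_pairing : pairing c01 ≠ 1 ∧ pairing c01 * pairing c01 = 1 := by decide +kernel

theorem dt_fixed_by : ∀ p d : Equiv.Perm (Fin 4), pairing p = pairing c01 → IsDT d → p * d * p⁻¹ = d → d = s01 := by
  decide +kernel

theorem dt_moved_to : ∀ d : Equiv.Perm (Fin 4), IsDT d → ∃ q : Equiv.Perm (Fin 3), ∀ p, pairing p = q → p * d * p⁻¹ = s01 := by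
  decide +kernel

theorem aut_inner : ∀ a b : Equiv.Perm (Fin 3), a * a = 1 → a ≠ 1 → b * b * b = 1 → b ≠ 1 →
    ∀ a' b', a' * a' = 1 → a' ≠ 1 → b' * b' * b' = 1 → b' ≠ 1 → ∃ d, d * a' * d⁻¹ = a ∧ d * b' * d⁻¹ = b := by
  decide +kernel

theorem perm3_center : ∀ a : Equiv.Perm (Fin 3), (∀ b, a * b = b * a) → a = 1 := by decide +kernel

theorem perm3_gen : ∀ a b : Equiv.Perm (Fin 3), a * a = 1 → a ≠ 1 → b * b * b = 1 → b ≠ 1 →
    ∀ g, g = 1 ∨ g = a ∨ g = b ∨ g = b * b ∨ g = a * b ∨ g = a * (b * b) := by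
  decide +kernel

theorem perm3_pair : ∃ a b : Equiv.Perm (Fin 3), a * a = 1 ∧ a ≠ 1 ∧ b * b * b = 1 ∧ b ≠ 1 ∧
    a * b * a = b * b := by
  decide +kernel

theorem perm3_three : ∀ b : Equiv.Perm (Fin 3), b * b * b = 1 → b ≠ 1 →
    Equiv.Perm.sign b = 1 ∧ ∀ a, a * a = 1 → a ≠ 1 → a * b * a = b * b := by
  decide +kernel

theorem pairing_three_cent : ∀ p d : Equiv.Perm (Fin 4), pairing p * pairing p * pairing p = 1 →
    pairing p ≠ 1 → IsDT d → p * d * p⁻¹ ≠ d := by
  decide +kernel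

theorem e01_fixed : ∀ p : Equiv.Perm (Fin 4), pairing p = pairing c01 → ∀ a ∈ Model.lifts (permList p),
    Model.ap a 15 = 15 → Model.ap a 3 ∈ [3, 19, 12, 28] ∧
      ∀ n < 32, Model.mul n 15 = Model.mul 15 n → (∃ c ∈ [0, 15, 16, 31], Model.ap a n = Model.mul n c) →
        n ∈ [0, 15, 16, 31, 3, 19, 12, 28] := by
  decide +kernel

theorem e01_inverted : ∀ a ∈ Model.invols [[1, 0, 3, 2]], Model.mul 3 (Model.ap a 3) = 0 ∧
    Model.mul 3 3 = 16 ∧ Model.mul 3 15 = Model.mul 15 3 := by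
  decide +kernel

theorem s01_list : permList s01 = [1, 0, 3, 2] := by decide +kernel

theorem three_fpf : ∀ p : Equiv.Perm (Fin 4), pairing p * pairing p * pairing p = 1 → pairing p ≠ 1 →
    ∀ a ∈ Model.lifts (permList p), Model.ap a 15 = 15 →
      ∀ n < 32, Model.mul n 15 = Model.mul 15 n → (∃ c ∈ [0, 15, 16, 31], Model.ap a n = Model.mul n c) →
        n ∈ [0, 15, 16, 31] := by
  decide +kernel

end CfsgLib.Recognition.PSLThreeFourAut
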