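import Cfsg.Agent.Lib.Recognition.PSLThreeFourAut.Fusion
import Cfsg.Agent.Lib.Recognition.PSLThreeFourAut.Pairings

/-!
# The normaliser of `⟨z, t₀⟩` when `t₀` is conjugate to `z`

`N(Z₀) = U (⟨r, x⟩ × ⟨n⟩)` with `⟨r, x⟩ ≅ S₃`, `n` permuting the three involutions of `Z₀` and fixing
only the identity of the 2-group `U` of order 64.
-/

set_option autoImplicit false
set_option maxRecDepth 100000
set_option linter.unusedSectionVars false

namespace CfsgLib.Recognition.PSLThreeFourAut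

open Subgroup

variable {G : Type*} [Group G] [Finite G]

theorem perm3_two_normal : ∀ a : Equiv.Perm (Fin 3), a * a * (a * a) = 1 →
    (∀ b, a * (b * a * b⁻¹) * (a * (b * a * b⁻¹)) * (a * (b * a * b⁻¹) * (a * (b * a * b⁻¹))) = 1) → a = 1 := by
  decide +kernel

theorem e01_coset : (∀ k ∈ [3, 19, 12, 28], ∃ t ∈ [0, 15, 16, 31], k = Model.mul 3 t) ∧
    ∀ k ∈ [0, 15, 16, 31, 3, 19, 12, 28], ∃ t ∈ [0, 15, 16, 31], k = t ∨ k = Model.mul t 3 := by
  decide +kernel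

theorem ptype_tables : ∀ n < 32, Model.mul n 15 = Model.mul 15 n → Model.mul n n = 0 → n ∈ [0, 15, 16, 31] := by
  decide +kernel

/-- A map of prime order three without fixed points needs a multiple of three points. -/
theorem fixed_in_set (n : G) (hn3 : n * n * n = 1) (S : Finset G) (hS : ∀ a ∈ S, n * a * n⁻¹ ∈ S)
    (h3 : ¬ 3 ∣ S.card) : ∃ a ∈ S, n * a * n⁻¹ = a := by
  classical
  haveI : Fact (Nat.Prime 3) := ⟨Nat.prime_three⟩
  have hninv : n⁻¹ = n * n := inv_eq_of_mul_eq_one_right (by rw [← mul_assoc, hn3])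
  have hS' : ∀ a ∈ S, n⁻¹ * a * n ∈ S := fun a ha => by
    have := hS _ (hS _ ha)
    rw [show n⁻¹ * a * n = n * (n * a * n⁻¹) * n⁻¹ by
      rw [show n * (n * a * n⁻¹) * n⁻¹ = (n * n) * a * (n * n)⁻¹ by group, ← hninv, inv_inv]]
    exact this
  let σ : Equiv.Perm S :=
    { toFun := fun a => ⟨n * a * n⁻¹, hS a a.2⟩
      invFun := fun a => ⟨n⁻¹ * a * n, hS' a a.2⟩
      left_inv := fun a => Subtype.ext (by simp [mul_assoc])
      right_inv := fun a => Subtype.ext (by simp [mul_assoc]) }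
  obtain ⟨a, ha⟩ := Equiv.Perm.exists_fixed_point_of_prime (p := 3) (n := 1) (σ := σ)
    (by rwa [Fintype.card_coe]) (Equiv.ext fun a => Subtype.ext (by
      show ((σ ^ (3 ^ 1)) a : G) = a
      rw [pow_one, pow_succ, pow_two, Equiv.Perm.mul_apply, Equiv.Perm.mul_apply]
      show n * (n * (n * a * n⁻¹) * n⁻¹) * n⁻¹ = a
      rw [show n * (n * (n * (a : G) * n⁻¹) * n⁻¹) * n⁻¹ = (n * n * n) * a * (n * n * n)⁻¹ by group, hn3]
      simp))
  exact ⟨a, a.2, congrArg Subtype.val ha⟩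

section defs

variable (z : G) (e : Fin 4 → G)

/-- The centraliser of `z` and `t₀`. -/
def CC : Subgroup G := centralizer ({z} : Set G) ⊓ centralizer ({t0 z e} : Set G)

/-- The induced permutation of the pairings. -/
noncomputable def rho (h : G) : Equiv.Perm (Fin 3) := pairing (sig z e h)

/-- `g` permutes `z`, `t₀`, `t₀z` cyclically. -/
def Cyc (g : G) : Prop := g * z * g⁻¹ = t0 z e ∧ g * t0 z e * g⁻¹ = t0 z e * z

end defs

namespace Ctx

variable {z : G} {E : Subgroup G} {e : Fin 4 → G}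

theorem CC_le (_ : Ctx z E e) {h : G} (hh : h ∈ CC z e) : h ∈ centralizer ({z} : Set G) := hh.1

theorem CC_t0 (_ : Ctx z E e) {h : G} (hh : h ∈ CC z e) : Commute h (t0 z e) :=
  mem_centralizer_singleton_iff.1 hh.2

theorem mem_CC (_ : Ctx z E e) {h : G} (h1 : h ∈ centralizer ({z} : Set G)) (h2 : Commute h (t0 z e)) :
    h ∈ CC z e := ⟨h1, mem_centralizer_singleton_iff.2 h2.eq⟩

theorem z_t0 (K : Ctx z E e) : Commute z (t0 z e) := K.frame.extra.z_comm K.t0_mem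

/-- The four-group `⟨z, t₀⟩`. -/
def Z0 (K : Ctx z E e) : Subgroup G where
  carrier := {a | a = 1 ∨ a = z ∨ a = t0 z e ∨ a = t0 z e * z}
  one_mem' := Or.inl rfl
  mul_mem' := by
    intro a b ha hb
    have hc : z * t0 z e = t0 z e * z := K.z_t0.eq
    have e1 : t0 z e * (t0 z e * z) = z := by rw [← mul_assoc, K.t0_sq, one_mul]
    have e2 : t0 z e * z * z = t0 z e := by rw [mul_assoc, K.sq_z, mul_one]
    have e3 : z * (t0 z e * z) = t0 z e := by rw [← mul_assoc, hc, e2]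
    have e4 : t0 z e * z * t0 z e = z := by rw [mul_assoc, hc, ← mul_assoc, K.t0_sq, one_mul]
    have e5 : t0 z e * z * (t0 z e * z) = 1 := by rw [mul_assoc, e3, K.t0_sq]
    rcases ha with rfl | rfl | rfl | rfl <;> rcases hb with rfl | rfl | rfl | rfl <;>
      simp [hc, e1, e2, e3, e4, e5, K.t0_sq, K.sq_z]
  inv_mem' := by
    intro a ha
    have hc : z * t0 z e = t0 z e * z := K.z_t0.eq
    rcases ha with rfl | rfl | rfl | rfl
    · exact Or.inl inv_one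
    · exact Or.inr (Or.inl K.frame.extra.inv_z)
    · exact Or.inr (Or.inr (Or.inl (inv_eq_of_mul_eq_one_right K.t0_sq)))
    · refine Or.inr (Or.inr (Or.inr ?_))
      rw [mul_inv_rev, K.frame.extra.inv_z, inv_eq_of_mul_eq_one_right K.t0_sq, hc]

theorem mem_Z0 (K : Ctx z E e) {a : G} :
    a ∈ K.Z0 ↔ a = 1 ∨ a = z ∨ a = t0 z e ∨ a = t0 z e * z := Iff.rfl

theorem Z0_le_E (K : Ctx z E e) {a : G} (ha : a ∈ K.Z0) : a ∈ E := by
  rcases ha with rfl | rfl | rfl | rfl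
  · exact one_mem _
  · exact K.frame.extra.z_mem
  · exact K.t0_mem
  · exact mul_mem K.t0_mem K.frame.extra.z_mem

theorem Z0_central (K : Ctx z E e) {a h : G} (ha : a ∈ K.Z0) (hh : h ∈ CC z e) : Commute h a := by
  rcases ha with rfl | rfl | rfl | rfl
  · exact Commute.one_right h
  · exact K.comm_z hh.1
  · exact K.CC_t0 hh
  · exact (K.CC_t0 hh).mul_right (K.comm_z hh.1)

theorem Z0_le_CC (K : Ctx z E e) {a : G} (ha : a ∈ K.Z0) : a ∈ CC z e := by
  refine K.mem_CC (K.mem_C (K.Z0_le_E ha)) ?_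
  rcases ha with rfl | rfl | rfl | rfl
  · exact Commute.one_left _
  · exact K.z_t0
  · exact Commute.refl _
  · exact (Commute.refl _).mul_left K.z_t0

theorem rho_mul (K : Ctx z E e) {g h : G} (hg : g ∈ CC z e) (hh : h ∈ CC z e) :
    rho z e (g * h) = rho z e g * rho z e h := by
  unfold rho
  rw [K.frame.sig_mul hg.1 hh.1, map_mul]

theorem rho_one (K : Ctx z E e) : rho z e (1 : G) = 1 := by rw [rho, K.frame.sig_one, map_one]

theorem rho_inv (K : Ctx z E e) {g : G} (hg : g ∈ CC z e) : rho z e g⁻¹ = (rho z e g)⁻¹ := by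
  rw [rho, K.frame.sig_inv hg.1, map_inv]; rfl

/-- The largest normal 2-subgroup of `CC`. -/
def U (K : Ctx z E e) : Subgroup G where
  carrier := {h | h ∈ CC z e ∧ rho z e h = 1}
  one_mem' := ⟨one_mem _, K.rho_one⟩
  mul_mem' := fun {a b} ha hb => ⟨mul_mem ha.1 hb.1, by rw [K.rho_mul ha.1 hb.1, ha.2, hb.2, one_mul]⟩
  inv_mem' := fun {a} ha => ⟨inv_mem ha.1, by rw [K.rho_inv ha.1, ha.2, inv_one]⟩

theorem mem_U (K : Ctx z E e) {h : G} : h ∈ K.U ↔ h ∈ CC z e ∧ rho z e h = 1 := Iff.rfl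

theorem U_le (K : Ctx z E e) {h : G} (hh : h ∈ K.U) : h ∈ CC z e := hh.1

theorem U_sig (K : Ctx z E e) {h : G} (hh : h ∈ K.U) : sig z e h = 1 ∨ IsDT (sig z e h) :=
  (pairing_ker _).1 hh.2

theorem Z0_le_U (K : Ctx z E e) {a : G} (ha : a ∈ K.Z0) : a ∈ K.U :=
  ⟨K.Z0_le_CC ha, by rw [rho, K.frame.sig_mem_E (K.Z0_le_E ha), map_one]⟩

theorem U_sq (K : Ctx z E e) {u : G} (hu : u ∈ K.U) : u * u ∈ K.Z0 :=
  K.sq_mem_Z0 hu.1.1 (K.U_sig hu) (K.CC_t0 hu.1)

theorem Z0_sq (K : Ctx z E e) {a : G} (ha : a ∈ K.Z0) : a * a = 1 := by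
  rcases ha with rfl | rfl | rfl | rfl
  · exact one_mul _
  · exact K.sq_z
  · exact K.t0_sq
  · rw [K.z_t0.mul_mul_mul_comm, K.t0_sq, K.sq_z, one_mul]

theorem U_pow_four (K : Ctx z E e) {u : G} (hu : u ∈ K.U) : u * u * (u * u) = 1 := K.Z0_sq (K.U_sq hu)

/-- The involutions of `U`. -/
theorem U_invol (K : Ctx z E e) {u : G} (hu : u ∈ K.U) (h2 : u * u = 1) :
    u ∈ K.Z0 ∨ IsDT (sig z e u) := by
  rcases K.U_sig hu with r | r
  · exact Or.inl (K.mem_Z0_of_E (K.frame.mem_E_of_sig hu.1.1 r) h2 (K.CC_t0 hu.1))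
  · exact Or.inr r

theorem dt_mem_U (K : Ctx z E e) {u : G} (hu : u ∈ centralizer ({z} : Set G)) (hp : IsDT (sig z e u))
    (h2 : u * u = 1) : u ∈ K.U :=
  ⟨K.mem_CC hu (K.dt_commute_t0 hu hp h2), (pairing_ker _).2 (Or.inr hp)⟩

theorem rho_surj (K : Ctx z E e) (p : Equiv.Perm (Fin 3)) : ∃ h ∈ CC z e, rho z e h = p := by
  obtain ⟨q, hq⟩ := pairing_surj p
  obtain ⟨h, hh, hs⟩ := K.sig_surj q
  rcases K.commute_t0_or hh with r | r
  · exact ⟨h, K.mem_CC hh r, by rw [rho, hs, hq]⟩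
  · obtain ⟨c, hc, hce⟩ := K.frame.extra.exists_conj_eq K.t0_mem K.t0_ne_one K.t0_ne_z
    refine ⟨c⁻¹ * h, K.mem_CC (mul_mem (inv_mem (K.mem_C hc)) hh) (mul_inv_eq_iff_eq_mul.1 ?_), ?_⟩
    · rw [show c⁻¹ * h * t0 z e * (c⁻¹ * h)⁻¹ = c⁻¹ * (h * t0 z e * h⁻¹) * c by group, r, ← hce]
      group
    · rw [rho, K.frame.sig_mul (inv_mem (K.mem_C hc)) hh, K.frame.sig_inv (K.mem_C hc), K.frame.sig_mem_E hc,
        inv_one, one_mul, hs, hq]

theorem card_CC (K : Ctx z E e) : Nat.card (CC z e) = 384 := by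
  have h1 : 384 ≤ Nat.card (CC z e) := K.card_cent_t0
  have hlt : Nat.card (CC z e) ≠ 768 := fun h => by
    obtain ⟨c, hc, hce⟩ := K.frame.extra.exists_conj_eq K.t0_mem K.t0_ne_one K.t0_ne_z
    have heq : CC z e = centralizer ({z} : Set G) :=
      Subgroup.eq_of_le_of_card_ge inf_le_left (by rw [K.card_C, h])
    have hcc : c ∈ CC z e := heq.symm ▸ K.mem_C hc
    rw [(K.CC_t0 hcc).eq, mul_inv_cancel_right] at hce
    exact K.frame.extra.z_ne (mul_eq_left.1 hce.symm)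
  have hdvd : Nat.card (CC z e) ∣ 768 := K.card_C ▸ Subgroup.card_dvd_of_le inf_le_left
  obtain ⟨k, hk⟩ := hdvd
  rcases k with _ | _ | _ | k
  · simp at hk
  · omega
  · omega
  · nlinarith

/-- The homomorphism onto `S₃`. -/
noncomputable def rhoHom (K : Ctx z E e) : CC z e →* Equiv.Perm (Fin 3) where
  toFun h := rho z e (h : G)
  map_one' := K.rho_one
  map_mul' a b := K.rho_mul a.2 b.2

theorem card_U (K : Ctx z E e) : Nat.card K.U = 64 := by
  have hs : Function.Surjective K.rhoHom := fun p => by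
    obtain ⟨h, hh, he⟩ := K.rho_surj p
    exact ⟨⟨h, hh⟩, he⟩
  have hk : K.rhoHom.ker = K.U.subgroupOf (CC z e) := by
    ext h
    exact ⟨fun hh => ⟨h.2, hh⟩, fun hh => hh.2⟩
  have h1 := Subgroup.card_eq_card_quotient_mul_card_subgroup K.rhoHom.ker
  rw [Nat.card_congr (QuotientGroup.quotientKerEquivOfSurjective _ hs).toEquiv, Nat.card_perm,
    Nat.card_fin, K.card_CC, hk,
    Nat.card_congr (Subgroup.subgroupOfEquivOfLe (fun _ hh => K.U_le hh)).toEquiv] at h1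
  norm_num [Nat.factorial] at h1
  omega

theorem cyc_t0z (K : Ctx z E e) {g : G} (hg : Cyc z e g) : g * (t0 z e * z) * g⁻¹ = z := by
  rw [← conj_mul, hg.1, hg.2, mul_assoc, K.z_t0.eq, ← mul_assoc, K.t0_sq, one_mul]

theorem cyc_conj_CC (K : Ctx z E e) {g : G} (hg : Cyc z e g) (h : G) :
    h ∈ CC z e ↔ g * h * g⁻¹ ∈ CC z e := by
  have key : ∀ a b : G, Commute h a → g * a * g⁻¹ = b → Commute (g * h * g⁻¹) b := by
    rintro a b hc rfl
    show _ = _
    rw [conj_mul, conj_mul, hc.eq]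
  have key' : ∀ a b : G, Commute (g * h * g⁻¹) b → g * a * g⁻¹ = b → Commute h a := by
    rintro a b hc rfl
    have := hc.eq
    rw [conj_mul, conj_mul] at this
    exact mul_left_cancel (mul_right_cancel this)
  constructor
  · intro hh
    refine K.mem_CC ?_ (key _ _ (K.comm_z hh.1) hg.1)
    refine mem_centralizer_singleton_iff.2 (key _ _ ?_ (K.cyc_t0z hg)).eq
    exact (K.CC_t0 hh).mul_right (K.comm_z hh.1)
  · intro hh
    refine K.mem_CC (mem_centralizer_singleton_iff.2 (key' _ _ (K.CC_t0 hh) hg.1).eq) ?_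
    exact key' _ _ ((K.CC_t0 hh).mul_right (K.comm_z hh.1)) hg.2

theorem cyc_conj_U (K : Ctx z E e) {g : G} (hg : Cyc z e g) {u : G} (hu : u ∈ K.U) : g * u * g⁻¹ ∈ K.U := by
  set v := g * u * g⁻¹ with hv
  have hvC : v ∈ CC z e := (K.cyc_conj_CC hg u).1 hu.1
  refine ⟨hvC, perm3_two_normal _ ?_ fun b => ?_⟩
  · rw [← K.rho_mul hvC hvC, ← K.rho_mul (mul_mem hvC hvC) (mul_mem hvC hvC)]
    rw [hv, conj_mul, conj_mul, K.U_pow_four hu, mul_one, mul_inv_cancel, K.rho_one]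
  · obtain ⟨c, hc, rfl⟩ := K.rho_surj b
    set c' := g⁻¹ * c * g with hc'
    have hcg : g * c' * g⁻¹ = c := by rw [hc']; group
    have hc'C : c' ∈ CC z e := (K.cyc_conj_CC hg c').2 (by rw [hcg]; exact hc)
    have hw : u * (c' * u * c'⁻¹) ∈ K.U := by
      refine mul_mem hu ⟨mul_mem (mul_mem hc'C hu.1) (inv_mem hc'C), ?_⟩
      rw [K.rho_mul (mul_mem hc'C hu.1) (inv_mem hc'C), K.rho_mul hc'C hu.1, hu.2, mul_one, K.rho_inv hc'C,
        mul_inv_cancel]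
    have hX : v * (c * v * c⁻¹) = g * (u * (c' * u * c'⁻¹)) * g⁻¹ := by rw [hv, hc']; group
    have hXC : v * (c * v * c⁻¹) ∈ CC z e := mul_mem hvC (mul_mem (mul_mem hc hvC) (inv_mem hc))
    have h4 := K.U_pow_four hw
    have hr : rho z e v * (rho z e c * rho z e v * (rho z e c)⁻¹) = rho z e (v * (c * v * c⁻¹)) := by
      rw [K.rho_mul hvC (mul_mem (mul_mem hc hvC) (inv_mem hc)), K.rho_mul (mul_mem hc hvC) (inv_mem hc),
        K.rho_mul hc hvC, K.rho_inv hc]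
    rw [hr, ← K.rho_mul hXC hXC, ← K.rho_mul (mul_mem hXC hXC) (mul_mem hXC hXC), hX, conj_mul, conj_mul, h4,
      mul_one, mul_inv_cancel, K.rho_one]

/-- Some element permutes the three involutions of `Z₀` cyclically. -/
theorem exists_cyc (K : Ctx z E e) (hT : IsConj z (t0 z e)) : ∃ g, Cyc z e g := by
  classical
  have hu : Fused z (t0 z e) := ⟨hT, K.t0_mem_C, K.t0_ne_z⟩
  obtain ⟨g, hg, hw, hmove⟩ := K.partner hu
  set w := g⁻¹ * z * g with hwdef
  have hgw : g * w * g⁻¹ = z := by rw [hwdef]; group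
  rcases K.fused_cases hw with r | r | r
  · obtain ⟨q, hq, hqe⟩ := K.frame.extra.exists_conj_eq K.t0_mem K.t0_ne_one K.t0_ne_z
    have hqz : q * z * q⁻¹ = z := K.frame.conj_z (K.mem_C hq)
    have e1 : (q * g) * z * (q * g)⁻¹ = t0 z e * z := by
      rw [show (q * g) * z * (q * g)⁻¹ = q * (g * z * g⁻¹) * q⁻¹ by group, hg, hqe]
    have e2 : (q * g) * t0 z e * (q * g)⁻¹ = z := by
      rw [show (q * g) * t0 z e * (q * g)⁻¹ = q * (g * t0 z e * g⁻¹) * q⁻¹ by group, ← r, hgw, hqz]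
    refine ⟨(q * g)⁻¹, ?_, ?_⟩
    · conv_lhs => arg 1; arg 2; rw [← e2]
      group
    · have e3 : (q * g) * (t0 z e * z) * (q * g)⁻¹ = t0 z e := by
        rw [← conj_mul, e2, e1, ← mul_assoc, K.z_t0.eq, mul_assoc, K.sq_z, mul_one]
      conv_lhs => arg 1; arg 2; rw [← e3]
      group
  · refine ⟨g, hg, ?_⟩
    have e3 : g * (t0 z e * z) * g⁻¹ = z := r ▸ hgw
    rw [← conj_mul, hg] at e3
    calc g * t0 z e * g⁻¹ = g * t0 z e * g⁻¹ * t0 z e * t0 z e := by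
          rw [mul_assoc (g * t0 z e * g⁻¹) (t0 z e) (t0 z e), K.t0_sq, mul_one]
      _ = t0 z e * z := by rw [e3, K.z_t0.eq]
  · exfalso
    have hmap : Nat.card (CC z e) ≤
        Nat.card (centralizer ({z} : Set G) ⊓ centralizer ({w} : Set G) : Subgroup G) := by
      refine Nat.card_le_card_of_injective
        (fun h : CC z e => ⟨g⁻¹ * h * g, (hmove h h.2.1 (K.CC_t0 h.2)).1,
          mem_centralizer_singleton_iff.2 (hmove h h.2.1 (K.CC_t0 h.2)).2.eq⟩) fun a b hab => ?_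
      exact Subtype.ext (mul_left_cancel (mul_right_cancel (congrArg Subtype.val hab)))
    have hle := K.card_le_of_sig (centralizer ({z} : Set G) ⊓ centralizer ({w} : Set G)) inf_le_left
      (Finset.univ.filter fun p : Equiv.Perm (Fin 4) => p * sig z e w = sig z e w * p) fun h hh =>
      Finset.mem_filter.2 ⟨Finset.mem_univ _, by
        have hc : Commute h w := mem_centralizer_singleton_iff.1 hh.2
        rw [← K.frame.sig_mul hh.1 hw.2.1, ← K.frame.sig_mul hw.2.1 hh.1, hc.eq]⟩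
    have h8 : (Finset.univ.filter fun p : Equiv.Perm (Fin 4) => p * sig z e w = sig z e w * p).card ≤ 8 :=
      (by decide +kernel : ∀ d : Equiv.Perm (Fin 4), IsDT d →
        (Finset.univ.filter fun p => p * d = d * p).card ≤ 8) _ r
    rw [K.card_CC] at hmap
    omega

/-- The elements `n`, `r`, `x`. -/
structure NG (K : Ctx z E e) (n r x : G) : Prop where
  cyc : Cyc z e n
  n3 : n * n * n = 1
  n_mod : ∀ h ∈ CC z e, rho z e (n * h * n⁻¹) = rho z e h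
  fpf : ∀ u ∈ K.U, n * u * n⁻¹ = u → u = 1
  r_mem : r ∈ CC z e
  x_mem : x ∈ CC z e
  r3 : r * r * r = 1
  x2 : x * x = 1
  rho_r : rho z e r * rho z e r * rho z e r = 1 ∧ rho z e r ≠ 1
  rho_x : rho z e x * rho z e x = 1 ∧ rho z e x ≠ 1
  nr : Commute n r
  nx : Commute n x
  xrx : x * r * x = r * r

theorem exists_mod (K : Ctx z E e) {g : G} (hg : Cyc z e g) :
    ∃ c ∈ CC z e, ∀ h ∈ CC z e, rho z e (c * g * h * (c * g)⁻¹) = rho z e h := by
  obtain ⟨a, b, ha2, ha1, hb3, hb1, -⟩ := perm3_pair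
  obtain ⟨ca, hca, rfl⟩ := K.rho_surj a
  obtain ⟨cb, hcb, rfl⟩ := K.rho_surj b
  have hmul : ∀ p q : G, p ∈ CC z e → q ∈ CC z e →
      rho z e (g * (p * q) * g⁻¹) = rho z e (g * p * g⁻¹) * rho z e (g * q * g⁻¹) := fun p q hp hq => by
    rw [← K.rho_mul ((K.cyc_conj_CC hg p).1 hp) ((K.cyc_conj_CC hg q).1 hq), conj_mul]
  have hU : ∀ p ∈ CC z e, rho z e p = 1 → rho z e (g * p * g⁻¹) = 1 := fun p hp h =>
    (K.cyc_conj_U hg ⟨hp, h⟩).2
  have hne : ∀ p ∈ CC z e, rho z e (g * p * g⁻¹) = 1 → rho z e p = 1 := by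
    -- the inverse of `g` is a cyclic permutation the other way round: use `g²`
    intro p hp h
    have hg2 : Cyc z e (g * g)⁻¹ := by
      constructor
      · have : (g * g) * t0 z e * (g * g)⁻¹ = z := by
          rw [show (g * g) * t0 z e * (g * g)⁻¹ = g * (g * t0 z e * g⁻¹) * g⁻¹ by group, hg.2, K.cyc_t0z hg]
        conv_lhs => arg 1; arg 2; rw [← this]
        group
      · have : (g * g) * (t0 z e * z) * (g * g)⁻¹ = t0 z e := by
          rw [show (g * g) * (t0 z e * z) * (g * g)⁻¹ = g * (g * (t0 z e * z) * g⁻¹) * g⁻¹ by group,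
            K.cyc_t0z hg, hg.1]
        conv_lhs => arg 1; arg 2; rw [← this]
        group
    have h1 := K.cyc_conj_U hg2 (K.cyc_conj_U hg ⟨(K.cyc_conj_CC hg p).1 hp, h⟩)
    have e : (g * g)⁻¹ * (g * (g * p * g⁻¹) * g⁻¹) * (g * g)⁻¹⁻¹ = p := by group
    exact (e ▸ h1).2
  have hsame : ∀ p q, p ∈ CC z e → q ∈ CC z e → rho z e p = rho z e q →
      rho z e (g * p * g⁻¹) = rho z e (g * q * g⁻¹) := fun p q hp hq h => by
    have h1 := hU (p * q⁻¹) (mul_mem hp (inv_mem hq)) (by rw [K.rho_mul hp (inv_mem hq), K.rho_inv hq, h, mul_inv_cancel])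
    calc rho z e (g * p * g⁻¹) = rho z e (g * (p * q⁻¹ * q) * g⁻¹) := by rw [inv_mul_cancel_right]
      _ = rho z e (g * q * g⁻¹) := by rw [hmul _ _ (mul_mem hp (inv_mem hq)) hq, h1, one_mul]
  have q1 : rho z e (g * ca * g⁻¹) * rho z e (g * ca * g⁻¹) = 1 := by
    rw [← hmul _ _ hca hca]; exact hU _ (mul_mem hca hca) (by rw [K.rho_mul hca hca, ha2])
  have q3 : rho z e (g * cb * g⁻¹) * rho z e (g * cb * g⁻¹) * rho z e (g * cb * g⁻¹) = 1 := by
    rw [← hmul _ _ hcb hcb, ← hmul _ _ (mul_mem hcb hcb) hcb]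
    exact hU _ (mul_mem (mul_mem hcb hcb) hcb) (by rw [K.rho_mul (mul_mem hcb hcb) hcb, K.rho_mul hcb hcb, hb3])
  obtain ⟨d, hd1, hd2⟩ := aut_inner _ _ ha2 ha1 hb3 hb1 _ _ q1 (fun h => ha1 (hne _ hca h)) q3
    (fun h => hb1 (hne _ hcb h))
  obtain ⟨c, hc, rfl⟩ := K.rho_surj d
  refine ⟨c, hc, fun h hh => ?_⟩
  have hstep : ∀ p ∈ CC z e, rho z e (c * g * p * (c * g)⁻¹) =
      rho z e c * rho z e (g * p * g⁻¹) * (rho z e c)⁻¹ := fun p hp => by
    have hp' := (K.cyc_conj_CC hg p).1 hp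
    rw [show c * g * p * (c * g)⁻¹ = c * (g * p * g⁻¹) * c⁻¹ by group, K.rho_mul (mul_mem hc hp') (inv_mem hc),
      K.rho_mul hc hp', K.rho_inv hc]
  rw [hstep h hh]
  have mc : ∀ p q, p ∈ CC z e → q ∈ CC z e →
      rho z e c * rho z e (g * p * g⁻¹) * (rho z e c)⁻¹ = rho z e p →
      rho z e c * rho z e (g * q * g⁻¹) * (rho z e c)⁻¹ = rho z e q →
      rho z e c * rho z e (g * (p * q) * g⁻¹) * (rho z e c)⁻¹ = rho z e (p * q) := fun p q hp hq h1 h2 => by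
    rw [hmul p q hp hq, K.rho_mul hp hq, ← h1, ← h2, conj_mul]
  have mbb := mc _ _ hcb hcb hd2 hd2
  have hbb : cb * cb ∈ CC z e := mul_mem hcb hcb
  have hone : rho z e c * rho z e (g * 1 * g⁻¹) * (rho z e c)⁻¹ = rho z e 1 := by
    rw [mul_one, mul_inv_cancel, K.rho_one, mul_one, mul_inv_cancel]
  rcases perm3_gen _ _ ha2 ha1 hb3 hb1 (rho z e h) with r | r | r | r | r | r
  · rw [hsame h 1 hh (one_mem _) (by rw [r, K.rho_one]), hone, r, K.rho_one]
  · rw [hsame h ca hh hca r, hd1, r]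
  · rw [hsame h cb hh hcb r, hd2, r]
  · rw [hsame h (cb * cb) hh hbb (by rw [r, K.rho_mul hcb hcb]), mbb, r, K.rho_mul hcb hcb]
  · rw [hsame h (ca * cb) hh (mul_mem hca hcb) (by rw [r, K.rho_mul hca hcb]), mc _ _ hca hcb hd1 hd2, r,
      K.rho_mul hca hcb]
  · rw [hsame h (ca * (cb * cb)) hh (mul_mem hca hbb) (by rw [r, K.rho_mul hca hbb, K.rho_mul hcb hcb]),
      mc _ _ hca hbb hd1 mbb, r, K.rho_mul hca hbb, K.rho_mul hcb hcb]

theorem cyc_pow (K : Ctx z E e) {g : G} (hg : Cyc z e g) (j : ℕ) :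
    ((g ^ (3 * j)) * z * (g ^ (3 * j))⁻¹ = z ∧ (g ^ (3 * j)) * t0 z e * (g ^ (3 * j))⁻¹ = t0 z e) ∧
      Cyc z e (g ^ (3 * j + 1)) := by
  induction j with
  | zero => simp [hg]
  | succ j ih =>
    have a1 : g ^ (3 * j + 1) * z * (g ^ (3 * j + 1))⁻¹ = t0 z e := ih.2.1
    have a2 : g ^ (3 * j + 1) * t0 z e * (g ^ (3 * j + 1))⁻¹ = t0 z e * z := ih.2.2
    have b1 : g ^ (3 * (j + 1)) * z * (g ^ (3 * (j + 1)))⁻¹ = z := by
      rw [show g ^ (3 * (j + 1)) = g * g * g ^ (3 * j + 1) by rw [← pow_two, ← pow_add]; ring_nf,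
        show g * g * g ^ (3 * j + 1) * z * (g * g * g ^ (3 * j + 1))⁻¹ =
          g * (g * (g ^ (3 * j + 1) * z * (g ^ (3 * j + 1))⁻¹) * g⁻¹) * g⁻¹ by group, a1, hg.2, K.cyc_t0z hg]
    have b2 : g ^ (3 * (j + 1)) * t0 z e * (g ^ (3 * (j + 1)))⁻¹ = t0 z e := by
      rw [show g ^ (3 * (j + 1)) = g * g * g ^ (3 * j + 1) by rw [← pow_two, ← pow_add]; ring_nf,
        show g * g * g ^ (3 * j + 1) * t0 z e * (g * g * g ^ (3 * j + 1))⁻¹ =
          g * (g * (g ^ (3 * j + 1) * t0 z e * (g ^ (3 * j + 1))⁻¹) * g⁻¹) * g⁻¹ by group, a2, K.cyc_t0z hg,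
        hg.1]
    refine ⟨⟨b1, b2⟩, ?_, ?_⟩
    · rw [pow_succ', show g * g ^ (3 * (j + 1)) * z * (g * g ^ (3 * (j + 1)))⁻¹ =
        g * (g ^ (3 * (j + 1)) * z * (g ^ (3 * (j + 1)))⁻¹) * g⁻¹ by group, b1, hg.1]
    · rw [pow_succ', show g * g ^ (3 * (j + 1)) * t0 z e * (g * g ^ (3 * (j + 1)))⁻¹ =
        g * (g ^ (3 * (j + 1)) * t0 z e * (g ^ (3 * (j + 1)))⁻¹) * g⁻¹ by group, b2, hg.2]

theorem exists_n (K : Ctx z E e) (hT : IsConj z (t0 z e)) :
    ∃ n, Cyc z e n ∧ n * n * n = 1 ∧ ∀ h ∈ CC z e, rho z e (n * h * n⁻¹) = rho z e h := by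
  obtain ⟨g, hg⟩ := K.exists_cyc hT
  obtain ⟨c, hc, hmod⟩ := K.exists_mod hg
  set g1 := c * g with hg1
  have hcyc : Cyc z e g1 := by
    constructor
    · rw [hg1, show c * g * z * (c * g)⁻¹ = c * (g * z * g⁻¹) * c⁻¹ by group, hg.1, (K.CC_t0 hc).eq,
        mul_inv_cancel_right]
    · rw [hg1, show c * g * t0 z e * (c * g)⁻¹ = c * (g * t0 z e * g⁻¹) * c⁻¹ by group, hg.2,
        ((K.CC_t0 hc).mul_right (K.comm_z hc.1)).eq, mul_inv_cancel_right]
  have hpow : ∀ j : ℕ, ∀ h ∈ CC z e, g1 ^ j * h * (g1 ^ j)⁻¹ ∈ CC z e ∧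
      rho z e (g1 ^ j * h * (g1 ^ j)⁻¹) = rho z e h := by
    intro j
    induction j with
    | zero => intro h hh; simp [hh]
    | succ j ih =>
      intro h hh
      obtain ⟨h1, h2⟩ := ih h hh
      rw [pow_succ', show g1 * g1 ^ j * h * (g1 * g1 ^ j)⁻¹ = g1 * (g1 ^ j * h * (g1 ^ j)⁻¹) * g1⁻¹ by group]
      exact ⟨(K.cyc_conj_CC hcyc _).1 h1, by rw [hmod _ h1, h2]⟩
  obtain ⟨k, m, hm, hkm⟩ := Nat.exists_eq_pow_mul_and_not_dvd (orderOf_pos g1).ne' 3 (by norm_num)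
  have hm1 : m * m % 3 = 1 := by
    rcases (show m % 3 = 1 ∨ m % 3 = 2 by omega) with r | r <;> simp [Nat.mul_mod, r]
  obtain ⟨j, hj⟩ : ∃ j, m * m = 3 * j + 1 := ⟨m * m / 3, by omega⟩
  set n := g1 ^ (m * m) with hn
  have hncyc : Cyc z e n := by rw [hn, hj]; exact (K.cyc_pow hcyc j).2
  have hn3 : n ^ (3 ^ k) = 1 := by
    rw [hn, ← pow_mul, show m * m * 3 ^ k = orderOf g1 * m by rw [hkm]; ring, pow_mul, pow_orderOf_eq_one, one_pow]
  refine ⟨n, hncyc, ?_, fun h hh => (hpow _ h hh).2⟩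
  -- `n³` lies in `U`
  have e3 : n * n * n = g1 ^ (3 * (m * m)) := by rw [hn, ← pow_add, ← pow_add]; ring_nf
  obtain ⟨hf1, hf2⟩ := (K.cyc_pow hcyc (m * m)).1
  rw [← e3] at hf1 hf2
  have hnC : n * n * n ∈ CC z e := K.mem_CC
    (mem_centralizer_singleton_iff.2 (mul_inv_eq_iff_eq_mul.1 hf1)) (mul_inv_eq_iff_eq_mul.1 hf2)
  have hU : n * n * n ∈ K.U := by
    refine ⟨hnC, perm3_center _ fun b => ?_⟩
    obtain ⟨p, hp, rfl⟩ := K.rho_surj b
    have h1 := (hpow (3 * (m * m)) p hp).2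
    rw [← e3, K.rho_mul (mul_mem hnC hp) (inv_mem hnC), K.rho_mul hnC hp, K.rho_inv hnC,
      mul_inv_eq_iff_eq_mul] at h1
    exact h1
  have h4 : (n * n * n) ^ 4 = 1 := by
    rw [pow_succ, pow_succ, pow_two, mul_assoc (n * n * n * (n * n * n))]
    exact K.U_pow_four hU
  have h5 : (n * n * n) ^ (3 ^ k) = 1 := by
    rw [show n * n * n = n ^ 3 by rw [pow_succ, pow_two], ← pow_mul, mul_comm 3, pow_mul, hn3, one_pow]
  have hco : Nat.Coprime 4 (3 ^ k) := Nat.Coprime.pow_right _ (by norm_num)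
  have := orderOf_dvd_of_pow_eq_one h4
  have := Nat.eq_one_of_dvd_coprimes hco (orderOf_dvd_of_pow_eq_one h4) (orderOf_dvd_of_pow_eq_one h5)
  exact orderOf_eq_one_iff.1 this

/-- Elements of every class of `CC/U` commute with `n`. -/
theorem exists_lift (K : Ctx z E e) {n : G} (hn : Cyc z e n) (hn3 : n * n * n = 1)
    (hmod : ∀ h ∈ CC z e, rho z e (n * h * n⁻¹) = rho z e h) (p : Equiv.Perm (Fin 3)) :
    ∃ c ∈ CC z e, rho z e c = p ∧ Commute n c := by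
  classical
  haveI := Fintype.ofFinite G
  obtain ⟨c0, hc0, rfl⟩ := K.rho_surj p
  let S : Finset G := Finset.univ.filter fun a => a ∈ CC z e ∧ rho z e a = rho z e c0
  have hS : ∀ a ∈ S, n * a * n⁻¹ ∈ S := fun a ha => by
    obtain ⟨h1, h2⟩ := (Finset.mem_filter.1 ha).2
    exact Finset.mem_filter.2 ⟨Finset.mem_univ _, (K.cyc_conj_CC hn a).1 h1, by rw [hmod a h1, h2]⟩
  have hcard : S.card = 64 := by
    rw [← K.card_U, ← Nat.card_eq_finsetCard]
    refine (Nat.card_congr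
      { toFun := fun u : K.U => (⟨c0 * u, Finset.mem_filter.2 ⟨Finset.mem_univ _, mul_mem hc0 u.2.1,
          by rw [K.rho_mul hc0 u.2.1, u.2.2, mul_one]⟩⟩ : {a : G // a ∈ S})
        invFun := fun a => ⟨c0⁻¹ * a, mul_mem (inv_mem hc0) (Finset.mem_filter.1 a.2).2.1,
          by rw [K.rho_mul (inv_mem hc0) (Finset.mem_filter.1 a.2).2.1, K.rho_inv hc0,
            (Finset.mem_filter.1 a.2).2.2, inv_mul_cancel]⟩
        left_inv := fun u => Subtype.ext (inv_mul_cancel_left c0 u)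
        right_inv := fun a => Subtype.ext (mul_inv_cancel_left c0 a) }).symm
  obtain ⟨a, ha, hfix⟩ := fixed_in_set n hn3 S hS (by rw [hcard]; norm_num)
  exact ⟨a, (Finset.mem_filter.1 ha).2.1, (Finset.mem_filter.1 ha).2.2, mul_inv_eq_iff_eq_mul.1 hfix⟩

theorem el_Z0 (K : Ctx z E e) {t : ℕ} (ht : t ∈ [0, 15, 16, 31]) : t < 32 ∧ el z e t ∈ K.Z0 := by
  simp only [List.mem_cons, List.not_mem_nil, or_false] at ht
  rcases ht with rfl | rfl | rfl | rfl
  · exact ⟨by norm_num, Or.inl Frame.el_zero⟩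
  · exact ⟨by norm_num, Or.inr (Or.inr (Or.inl rfl))⟩
  · exact ⟨by norm_num, Or.inr (Or.inl Frame.el_16)⟩
  · exact ⟨by norm_num, Or.inr (Or.inr (Or.inr K.t0_mul_z.symm))⟩

theorem n_fixes_Z0 (K : Ctx z E e) {n a : G} (hn : Cyc z e n) (ha : a ∈ K.Z0) (hf : n * a * n⁻¹ = a) :
    a = 1 := by
  rcases ha with rfl | rfl | rfl | rfl
  · rfl
  · rw [hn.1] at hf; exact absurd hf K.t0_ne_z
  · rw [hn.2] at hf; exact absurd (mul_eq_left.1 hf) K.frame.extra.z_ne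
  · rw [K.cyc_t0z hn] at hf; exact absurd (mul_eq_right.1 hf.symm) K.t0_ne_one

/-- `n` fixes only the identity of `U`. -/
theorem U_fpf (K : Ctx z E e) {n : G} (hn : Cyc z e n) (hn3 : n * n * n = 1)
    (hmod : ∀ h ∈ CC z e, rho z e (n * h * n⁻¹) = rho z e h) {u : G} (hu : u ∈ K.U)
    (hf : n * u * n⁻¹ = u) : u = 1 := by
  have hsq : ∀ v ∈ K.U, n * v * n⁻¹ = v → v * v = 1 := fun v hv h =>
    K.n_fixes_Z0 hn (K.U_sq hv) (by rw [← conj_mul, h])
  rcases K.U_invol hu (hsq u hu hf) with r | r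
  · exact K.n_fixes_Z0 hn r hf
  exfalso
  -- a fixed involution `s` inducing `(01)(23)`
  obtain ⟨q, hq⟩ := dt_moved_to _ r
  obtain ⟨c1, hc1, hc1r, hc1n⟩ := K.exists_lift hn hn3 hmod q
  set s := c1 * u * c1⁻¹ with hs
  have hsC : s ∈ CC z e := mul_mem (mul_mem hc1 hu.1) (inv_mem hc1)
  have hssig : sig z e s = s01 := by
    rw [hs, K.frame.sig_mul (mul_mem hc1.1 hu.1.1) (inv_mem hc1.1), K.frame.sig_mul hc1.1 hu.1.1,
      K.frame.sig_inv hc1.1]
    exact hq _ hc1r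
  have hsU : s ∈ K.U := ⟨hsC, (pairing_ker _).2 (Or.inr (hssig.symm ▸ s01_dt))⟩
  have hsn : n * s * n⁻¹ = s := by
    rw [hs, show n * (c1 * u * c1⁻¹) * n⁻¹ = (n * c1) * u * (n * c1)⁻¹ by group, hc1n.eq,
      show (c1 * n) * u * (c1 * n)⁻¹ = c1 * (n * u * n⁻¹) * c1⁻¹ by group, hf]
  have hs2 : s * s = 1 := hsq s hsU hsn
  clear_value s
  have hsimg : img z e s ∈ Model.invols [[1, 0, 3, 2]] :=
    K.frame.img_invol hsC.1 hs2 (List.mem_singleton.2 (hssig ▸ s01_list))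
  -- `c` centralising `n` and fixing the first pairing
  obtain ⟨c, hc, hcr, hcn⟩ := K.exists_lift hn hn3 hmod (pairing c01)
  obtain ⟨hap3, hfix3⟩ := e01_fixed _ hcr _ (K.frame.img_mem_lifts hc.1)
    ((K.frame.commute_el_iff hc.1 (by norm_num)).1 (K.CC_t0 hc))
  have F := K.frame
  set a := el z e 3 with ha
  obtain ⟨q1, q2, q3⟩ := e01_inverted _ hsimg
  have haE : a ∈ E := F.el_mem 3
  have haC : a ∈ CC z e := K.mem_CC (K.mem_C haE) (by
    show a * el z e 15 = el z e 15 * a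
    rw [F.el_mul (by norm_num) (by norm_num), F.el_mul (by norm_num) (by norm_num), q3])
  have haU : a ∈ K.U := ⟨haC, by rw [rho, F.sig_mem_E haE, map_one]⟩
  have ha2 : a * a = z := by rw [ha, F.el_mul (by norm_num) (by norm_num), q2, Frame.el_16]
  set b := n * a * n⁻¹ with hb
  have hbU : b ∈ K.U := K.cyc_conj_U hn haU
  clear_value b
  have hb2 : b * b = t0 z e := by rw [hb, conj_mul, ha2, hn.1]
  have hca : ∃ w ∈ K.Z0, c * a * c⁻¹ = a * w := by
    rw [ha, F.conj_el' hc.1 (by norm_num)]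
    obtain ⟨t, ht, hte⟩ := e01_coset.1 _ hap3
    obtain ⟨htlt, htm⟩ := K.el_Z0 ht
    exact ⟨el z e t, htm, by rw [hte, F.el_mul (by norm_num) htlt]⟩
  obtain ⟨w, hw, hcw⟩ := hca
  have hcb : c * b * c⁻¹ = b * (n * w * n⁻¹) := by
    rw [hb, show c * (n * a * n⁻¹) * c⁻¹ = (c * n) * a * (c * n)⁻¹ by group, ← hcn.eq,
      show (n * c) * a * (n * c)⁻¹ = n * (c * a * c⁻¹) * n⁻¹ by group, hcw, conj_mul]
  have hnw : n * w * n⁻¹ ∈ K.Z0 := by
    rcases hw with rfl | rfl | rfl | rfl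
    · exact Or.inl (by group)
    · exact Or.inr (Or.inr (Or.inl hn.1))
    · exact Or.inr (Or.inr (Or.inr hn.2))
    · exact Or.inr (Or.inl (K.cyc_t0z hn))
  have hsb : sig z e b = s01 := by
    rcases K.U_sig hbU with r' | r'
    · exfalso
      rcases F.extra.sq_cases (F.mem_E_of_sig hbU.1.1 r') with s' | s' <;> rw [hb2] at s'
      · exact K.t0_ne_one s'
      · exact K.t0_ne_z s'
    · refine dt_fixed_by _ _ hcr r' ?_
      have := congrArg (sig z e) hcb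
      rw [F.sig_mul (mul_mem hc.1 hbU.1.1) (inv_mem hc.1), F.sig_mul hc.1 hbU.1.1, F.sig_inv hc.1,
        F.sig_mul hbU.1.1 (K.mem_C (K.Z0_le_E hnw)), F.sig_mem_E (K.Z0_le_E hnw), mul_one] at this
      exact this
  -- `b s` lies in `E` and is fixed modulo `Z₀` by `c`
  have hcs : c * s * c⁻¹ = s * (s * (c * s * c⁻¹)) := by rw [← mul_assoc, hs2, one_mul]
  set d := s * (c * s * c⁻¹) with hd
  have hdU : d ∈ K.U := by
    refine mul_mem hsU ⟨mul_mem (mul_mem hc hsC) (inv_mem hc), ?_⟩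
    rw [K.rho_mul (mul_mem hc hsC) (inv_mem hc), K.rho_mul hc hsC, hsU.2, mul_one, K.rho_inv hc, mul_inv_cancel]
  have hdn : n * d * n⁻¹ = d := by
    have h1 : n * (c * s * c⁻¹) * n⁻¹ = c * s * c⁻¹ := by
      rw [show n * (c * s * c⁻¹) * n⁻¹ = (n * c) * s * (n * c)⁻¹ by group, hcn.eq,
        show (c * n) * s * (c * n)⁻¹ = c * (n * s * n⁻¹) * c⁻¹ by group, hsn]
    rw [hd, ← conj_mul, hsn, h1]
  have hd1 : d = 1 := by
    have hdsig : sig z e d = 1 := by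
      have h1 : sig z e (c * s * c⁻¹) = s01 := by
        rw [F.sig_mul (mul_mem hc.1 hsC.1) (inv_mem hc.1), F.sig_mul hc.1 hsC.1, F.sig_inv hc.1, hssig]
        have := congrArg (sig z e) hcb
        rw [F.sig_mul (mul_mem hc.1 hbU.1.1) (inv_mem hc.1), F.sig_mul hc.1 hbU.1.1, F.sig_inv hc.1,
          F.sig_mul hbU.1.1 (K.mem_C (K.Z0_le_E hnw)), F.sig_mem_E (K.Z0_le_E hnw), mul_one, hsb] at this
        exact this
      rw [hd, F.sig_mul hsC.1 (mul_mem (mul_mem hc.1 hsC.1) (inv_mem hc.1)), hssig, h1]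
      exact s01_dt.2.1
    exact K.n_fixes_Z0 hn (K.mem_Z0_of_E (F.mem_E_of_sig hdU.1.1 hdsig) (hsq d hdU hdn) (K.CC_t0 hdU.1)) hdn
  rw [hd1, mul_one] at hcs
  have hb1C : b * s ∈ CC z e := mul_mem hbU.1 hsC
  have hb1E : b * s ∈ E := F.mem_E_of_sig hb1C.1 (by rw [F.sig_mul hbU.1.1 hsC.1, hsb, hssig]; exact s01_dt.2.1)
  have hcb1 : c * (b * s) * c⁻¹ = b * s * (n * w * n⁻¹) := by
    rw [← conj_mul, hcb, hcs, mul_assoc b (n * w * n⁻¹) s, ← (K.Z0_central hnw hsC).eq, ← mul_assoc b s]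
  obtain ⟨m, hm, hme⟩ := F.exists_el hb1E
  obtain ⟨t, ht, hte⟩ := F.exists_el (K.Z0_le_E hnw)
  have hm15 : Model.mul m 15 = Model.mul 15 m := F.el_inj (Model.mul_lt m hm 15 (by norm_num))
    (Model.mul_lt 15 (by norm_num) m hm)
    (by rw [← F.el_mul hm (by norm_num), ← F.el_mul (by norm_num) hm, hme]; exact (K.CC_t0 hb1C).eq)
  have htl : t ∈ [0, 15, 16, 31] := by
    refine ptype_tables t ht ?_ ?_
    · exact F.el_inj (Model.mul_lt t ht 15 (by norm_num)) (Model.mul_lt 15 (by norm_num) t ht)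
        (by rw [← F.el_mul ht (by norm_num), ← F.el_mul (by norm_num) ht, hte]; exact (K.CC_t0 (K.Z0_le_CC hnw)).eq)
    · exact F.el_inj (Model.mul_lt t ht t ht) (by norm_num)
        (by rw [← F.el_mul ht ht, hte, Frame.el_zero]; exact K.Z0_sq hnw)
  have hmc : Model.ap (img z e c) m = Model.mul m t := by
    refine F.el_inj (Model.ap_lt _ (F.img_mem hc.1) m hm) (Model.mul_lt m hm t ht) ?_
    rw [← F.conj_el' hc.1 hm, ← F.el_mul hm ht, hme, hte, hcb1]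
  have hlist := hfix3 m hm hm15 ⟨t, htl, hmc⟩
  -- so `b` is `s` or `a s` modulo `Z₀`
  have hbs : b = el z e m * s := by rw [hme, mul_assoc, hs2, mul_one]
  have hcase : ∃ v ∈ K.Z0, b = v * s ∨ b = v * (a * s) := by
    obtain ⟨t', ht', hte'⟩ := e01_coset.2 _ hlist
    obtain ⟨htlt, htm⟩ := K.el_Z0 ht'
    refine ⟨el z e t', htm, ?_⟩
    rcases hte' with rfl | rfl
    · exact Or.inl hbs
    · exact Or.inr (by rw [hbs, ← F.el_mul htlt (by norm_num), ← ha, mul_assoc])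
  have hsinv : a * (s * a * s⁻¹) = 1 := by
    rw [ha, F.conj_el' hsC.1 (by norm_num), F.el_mul (by norm_num) (Model.ap_lt _ (F.img_mem hsC.1) 3 (by norm_num)),
      q1, Frame.el_zero]
  obtain ⟨v, hv, hbv | hbv⟩ := hcase
  · refine K.t0_ne_one ?_
    rw [← hb2, hbv, (K.Z0_central hv hsC).mul_mul_mul_comm, K.Z0_sq hv, hs2, one_mul]
  · refine K.t0_ne_one ?_
    rw [← hb2, hbv, (K.Z0_central hv (mul_mem haC hsC)).mul_mul_mul_comm, K.Z0_sq hv, one_mul]
    calc a * s * (a * s) = a * (s * a * s⁻¹) * (s * s) := by group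
      _ = 1 := by rw [hsinv, hs2, one_mul]

/-- `N(Z₀)` contains `n`, `r`, `x`. -/
theorem exists_NG (K : Ctx z E e) (hT : IsConj z (t0 z e)) : ∃ n r x, NG K n r x := by
  obtain ⟨n, hn, hn3, hmod⟩ := K.exists_n hT
  obtain ⟨a, b, ha2, ha1, hb3, hb1, hab⟩ := perm3_pair
  obtain ⟨x, hx, hxr, hxn⟩ := K.exists_lift hn hn3 hmod a
  obtain ⟨r, hr, hrr, hrn⟩ := K.exists_lift hn hn3 hmod b
  have fix : ∀ u ∈ CC z e, rho z e u = 1 → Commute n u → u = 1 := fun u hu h1 hc =>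
    K.U_fpf hn hn3 hmod ⟨hu, h1⟩ (by rw [hc.eq, mul_inv_cancel_right])
  have hr3 : r * r * r = 1 := fix _ (mul_mem (mul_mem hr hr) hr)
    (by rw [K.rho_mul (mul_mem hr hr) hr, K.rho_mul hr hr, hrr, hb3]) ((hrn.mul_right hrn).mul_right hrn)
  have hx2 : x * x = 1 := fix _ (mul_mem hx hx) (by rw [K.rho_mul hx hx, hxr, ha2]) (hxn.mul_right hxn)
  refine ⟨n, r, x, hn, hn3, hmod, fun u hu h => K.U_fpf hn hn3 hmod hu h, hr, hx, hr3, hx2,
    ⟨by rw [hrr]; exact hb3, by rw [hrr]; exact hb1⟩, ⟨by rw [hxr]; exact ha2, by rw [hxr]; exact ha1⟩,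
    hrn, hxn, ?_⟩
  have hw : x * r * x * r = 1 := fix _ (mul_mem (mul_mem (mul_mem hx hr) hx) hr) (by
    rw [K.rho_mul (mul_mem (mul_mem hx hr) hx) hr, K.rho_mul (mul_mem hx hr) hx, K.rho_mul hx hr, hxr, hrr,
      hab, hb3]) (((hxn.mul_right hrn).mul_right hxn).mul_right hrn)
  calc x * r * x = x * r * x * r * (r * r) := by
        rw [mul_assoc (x * r * x) r, show r * (r * r) = 1 by rw [← mul_assoc, hr3], mul_one]
    _ = r * r := by rw [hw, one_mul]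

end Ctx

end CfsgLib.Recognition.PSLThreeFourAut
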