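import Cfsg.Agent.Lib.Recognition.PSLThreeFourAut.PairCount
import Cfsg.Agent.S0144

/-!
# The order when `z` is conjugate into `U ∖ Z₀`
-/

set_option autoImplicit false
set_option maxRecDepth 100000
set_option linter.unusedSectionVars false

namespace CfsgLib.Recognition.PSLThreeFourAut

open Subgroup CfsgLib.Involution FourSplit

variable {G : Type*} [Group G] [Finite G]

theorem card_G_sub_pairs {M : Subgroup G} (a b c : M) (P Q : G → Prop)
    (hP : ∀ u : M, IsConj a u ↔ P (u : G)) (hQ : ∀ u : M, IsConj b u ↔ Q (u : G))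
    (hPM : ∀ k, P k → k ∈ M) (hQM : ∀ k, Q k → k ∈ M) :
    Nat.card (OrderFormula.Pairs a b c) =
      {p : G × G | P p.1 ∧ Q p.2 ∧ ∃ i : ℕ, (p.1 * p.2) ^ i = (c : G)}.ncard := by
  rw [← Nat.card_coe_set_eq]
  refine Nat.card_congr
    { toFun := fun p => ⟨((p.1.1 : G), (p.1.2 : G)), (hP _).1 p.2.1, (hQ _).1 p.2.2.1, ?_⟩
      invFun := fun p => ⟨(⟨p.1.1, hPM _ p.2.1⟩, ⟨p.1.2, hQM _ p.2.2.1⟩), (hP _).2 p.2.1, (hQ _).2 p.2.2.1, ?_⟩
      left_inv := fun p => rfl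
      right_inv := fun p => rfl }
  · obtain ⟨i, hi⟩ := p.2.2.2
    exact ⟨i, by simpa using congrArg Subtype.val hi⟩
  · obtain ⟨i, hi⟩ := p.2.2.2
    exact ⟨i, Subtype.ext (by simpa using hi)⟩

namespace Ctx.NG

variable {z : G} {E : Subgroup G} {e : Fin 4 → G} {K : Ctx z E e} {n r x : G}

theorem hUz_of (h : NG K n r x) {a : G} (ha : a ∈ A K n r) (ha0 : a ∉ K.Z0) (hza : IsConj z a) :
    ∀ u ∈ K.U, u * u = 1 → u ≠ 1 → IsConj z u := by
  intro u hu h2 h1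
  rcases h.U_invol_class ha ha0 hu h2 with q | ⟨g, -, he⟩
  · exact h.Z0_conj q h1
  · exact hza.trans (isConj_iff.2 ⟨g, he⟩)

theorem hII_of (h : NG K n r x) {a : G} (ha : a ∈ A K n r) (ha0 : a ∉ K.Z0) (hza : ¬ IsConj z a) :
    ∀ u ∈ K.U, IsConj z u → u ∈ K.Z0 := by
  intro u hu hzu
  have h2 : u * u = 1 := by
    obtain ⟨g, rfl⟩ := isConj_iff.1 hzu
    rw [conj_mul, K.sq_z, mul_one, mul_inv_cancel]
  rcases h.U_invol_class ha ha0 hu h2 with q | ⟨g, -, he⟩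
  · exact q
  · exact absurd (hzu.trans (isConj_iff.2 ⟨g, he⟩).symm) hza

theorem z_sq_conj (h : NG K n r x) {u : G} (hu : IsConj z u) : u * u = 1 ∧ u ≠ 1 := by
  obtain ⟨g, rfl⟩ := isConj_iff.1 hu
  exact ⟨by rw [conj_mul, K.sq_z, mul_one, mul_inv_cancel],
    fun e1 => K.frame.extra.z_ne (conj_eq_one_iff.1 e1)⟩

theorem x_G1_conj (h : NG K n r x) {u : G} (hu : IsConj x u) : ∃ g ∈ h.G1, g * x * g⁻¹ = u := by
  obtain ⟨g, rfl⟩ := isConj_iff.1 hu
  obtain ⟨c, hc, hm⟩ := h.exists_C g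
  have hy : c * x * c⁻¹ ∈ centralizer ({z} : Set G) := mul_mem (mul_mem hc h.x_mem.1) (inv_mem hc)
  have hy2 : c * x * c⁻¹ * (c * x * c⁻¹) = 1 := by rw [conj_mul, h.x2, mul_one, mul_inv_cancel]
  obtain ⟨htr, hct⟩ := h.x_conj_C hy (isConj_iff.2 ⟨c, rfl⟩)
  have hnU : c * x * c⁻¹ ∉ K.U := fun hU => by
    rcases K.U_sig hU with q | q
    · rw [q] at htr
      exact absurd htr.2 (by simp)
    · rw [IsTR, q.2.2] at htr
      exact absurd htr.2 (by decide)
  obtain ⟨c', hc', he⟩ := h.outer_class (K.mem_CC hy hct) hy2 hnU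
  refine ⟨g * c⁻¹ * c', mul_mem (h.G2_le_G1 hm) ((h.G1_inf_C hc'.1).2 hc'), ?_⟩
  rw [show g * c⁻¹ * c' * x * (g * c⁻¹ * c')⁻¹ = g * c⁻¹ * (c' * x * c'⁻¹) * (g * c⁻¹)⁻¹ by group, he]
  group

theorem card_cent_G1_z (h : NG K n r x) :
    Nat.card (centralizer ({(⟨z, h.G2_le_G1 h.z_mem_G2⟩ : h.G1)} : Set h.G1)) = 384 := by
  rw [← K.card_CC]
  refine Nat.card_congr
    { toFun := fun g => ⟨((g : h.G1) : G), ?_⟩
      invFun := fun g => ⟨⟨(g : G), (h.G1_inf_C g.2.1).2 g.2⟩, ?_⟩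
      left_inv := fun g => rfl
      right_inv := fun g => rfl }
  · have hz : ((g : h.G1) : G) ∈ centralizer ({z} : Set G) :=
      mem_centralizer_singleton_iff.2 (congrArg Subtype.val (mem_centralizer_singleton_iff.1 g.2))
    exact (h.G1_inf_C hz).1 (g : h.G1).2
  · exact mem_centralizer_singleton_iff.2 (Subtype.ext (mem_centralizer_singleton_iff.1 g.2.1))

theorem card_cent_G1_x (h : NG K n r x) {H : Subgroup G} (hH1 : ∀ k ∈ H, k ∈ h.G1 ∧ Commute k x) (hxH : x ∉ H)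
    (hdec : ∀ g ∈ h.G1, Commute g x → g ∈ H ∨ g * x ∈ H) :
    Nat.card (centralizer ({(⟨x, h.x_mem_G1⟩ : h.G1)} : Set h.G1)) = 2 * Nat.card H := by
  let f : Fin 2 × H → centralizer ({(⟨x, h.x_mem_G1⟩ : h.G1)} : Set h.G1) := fun p =>
    ⟨⟨(p.2 : G) * x ^ p.1.val, mul_mem (hH1 _ p.2.2).1 (pow_mem h.x_mem_G1 _)⟩,
      mem_centralizer_singleton_iff.2 (Subtype.ext
        ((hH1 _ p.2.2).2.mul_left (Commute.pow_self x p.1.val)).eq)⟩
  have hf : Function.Bijective f := by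
    constructor
    · rintro ⟨i, c⟩ ⟨j, d⟩ q
      have e1 : (c : G) * x ^ i.val = (d : G) * x ^ j.val :=
        congrArg (fun y : centralizer ({(⟨x, h.x_mem_G1⟩ : h.G1)} : Set h.G1) => ((y : h.G1) : G)) q
      fin_cases i <;> fin_cases j <;>
        simp only [Fin.zero_eta, Fin.mk_one, Fin.val_zero, Fin.val_one, pow_zero, pow_one, mul_one] at e1
      · exact Prod.ext rfl (Subtype.ext e1)
      · refine absurd ?_ hxH
        have := mul_mem (inv_mem d.2) (e1 ▸ c.2 : (d : G) * x ∈ H)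
        rwa [inv_mul_cancel_left] at this
      · refine absurd ?_ hxH
        have := mul_mem (inv_mem c.2) (e1.symm ▸ d.2 : (c : G) * x ∈ H)
        rwa [inv_mul_cancel_left] at this
      · exact Prod.ext rfl (Subtype.ext (mul_right_cancel e1))
    · rintro ⟨⟨g, hg⟩, hgc⟩
      have hgx : Commute g x := congrArg Subtype.val (mem_centralizer_singleton_iff.1 hgc)
      rcases hdec g hg hgx with q | q
      · exact ⟨(0, ⟨g, q⟩), Subtype.ext (Subtype.ext (by simp [f]))⟩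
      · exact ⟨(1, ⟨_, q⟩), Subtype.ext (Subtype.ext (by simp [f, mul_assoc, h.x2]))⟩
  rw [← Nat.card_eq_of_bijective f hf, Nat.card_prod, Nat.card_fin]

/-- The order formula. -/
theorem card_G1_formula (h : NG K n r x) (hU : ∀ u ∈ K.U, u * u = 1 → u ≠ 1 → IsConj z u) :
    Nat.card h.G1 = 384 * (3 * 9) ∨ Nat.card h.G1 = 384 * (15 * 21) := by
  classical
  obtain ⟨H, S, hH1, hxH, hdec⟩ := h.x_cell
  let zG : h.G1 := ⟨z, h.G2_le_G1 h.z_mem_G2⟩
  let xG : h.G1 := ⟨x, h.x_mem_G1⟩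
  have oz : orderOf zG = 2 := Dihedral.orderOf_eq_two (Subtype.ext K.sq_z)
    fun q => K.frame.extra.z_ne (congrArg Subtype.val q)
  have ox : orderOf xG = 2 := Dihedral.orderOf_eq_two (Subtype.ext h.x2)
    fun q => h.x_not_U (by rw [show x = 1 from congrArg Subtype.val q]; exact one_mem _)
  have hzu : ∀ u : h.G1, IsConj zG u ↔ IsConj z (u : G) := by
    intro u
    constructor
    · intro hc
      obtain ⟨g, hg⟩ := isConj_iff.1 hc
      exact isConj_iff.2 ⟨g, congrArg Subtype.val hg⟩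
    · intro hc
      obtain ⟨g, hg, he⟩ := h.conj_in_G2 hc
      exact isConj_iff.2 ⟨⟨g, h.G2_le_G1 hg⟩, Subtype.ext he⟩
  have hxu : ∀ u : h.G1, IsConj xG u ↔ IsConj x (u : G) := by
    intro u
    constructor
    · intro hc
      obtain ⟨g, hg⟩ := isConj_iff.1 hc
      exact isConj_iff.2 ⟨g, congrArg Subtype.val hg⟩
    · intro hc
      obtain ⟨g, hg, he⟩ := h.x_G1_conj hc
      exact isConj_iff.2 ⟨⟨g, hg⟩, Subtype.ext he⟩
  have hne : ¬ IsConj zG xG := fun hc => h.x_not_conj_z ((hzu xG).1 hc)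
  have hcl : ∀ u : h.G1, orderOf u = 2 → IsConj zG u ∨ IsConj xG u := by
    intro u hu
    have h2 : (u : G) * u = 1 := congrArg Subtype.val (Dihedral.mul_self hu)
    have h1 : (u : G) ≠ 1 := fun q => Dihedral.ne_one hu (Subtype.ext q)
    obtain ⟨g, hg⟩ := h.exists_conj_C h2
    have hm : g * (u : G) * g⁻¹ ∈ h.G1 := h.G1_of_conj u.2 (isConj_iff.2 ⟨g, rfl⟩)
    have hm2 : g * (u : G) * g⁻¹ * (g * (u : G) * g⁻¹) = 1 := by rw [conj_mul, h2, mul_one, mul_inv_cancel]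
    rcases h.G1_invol_C hm hg hm2 with q | ⟨c, -, hc⟩
    · exact Or.inl ((hzu u).2 ((hU _ q hm2 fun e1 => h1 (conj_eq_one_iff.1 e1)).trans
        (isConj_iff.2 ⟨g, rfl⟩).symm))
    · exact Or.inr ((hxu u).2 ((isConj_iff.2 ⟨c, hc⟩).trans (isConj_iff.2 ⟨g, rfl⟩).symm))
  have hform := OrderFormula.card_eq zG xG oz ox hne hcl
  have hzG1 : ∀ k, IsConj z k → k ∈ h.G1 := fun k hk => h.G1_of_conj (h.G2_le_G1 h.z_mem_G2) hk
  have hxG1 : ∀ k, IsConj x k → k ∈ h.G1 := fun k hk => h.G1_of_conj h.x_mem_G1 hk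
  rw [card_G_sub_pairs zG xG zG _ _ hzu hxu hzG1 hxG1, card_G_sub_pairs zG xG xG _ _ hzu hxu hzG1 hxG1,
    h.card_cent_G1_z, h.card_cent_G1_x hH1 hxH hdec] at hform
  -- the pairs with centre `z`
  have hz384 : {p : G × G | IsConj z p.1 ∧ IsConj x p.2 ∧ ∃ i : ℕ, (p.1 * p.2) ^ i = z}.ncard = 384 := by
    rw [← (h.pairs_z).2 hU, ← Nat.card_coe_set_eq]
    refine Nat.card_congr (Equiv.subtypeEquivRight fun p => ?_)
    constructor
    · rintro ⟨hk, hv, i, hi⟩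
      obtain ⟨hk2, hk1⟩ := h.z_sq_conj hk
      obtain ⟨g, hg⟩ := isConj_iff.1 hv
      have hv2 : p.2 * p.2 = 1 := by rw [← hg, conj_mul, h.x2, mul_one, mul_inv_cancel]
      obtain ⟨hkz, hvz⟩ := commute_of_pow_eq hk2 hv2 K.sq_z hi
      have hkC := mem_centralizer_singleton_iff.2 hkz.eq
      have hvC := mem_centralizer_singleton_iff.2 hvz.eq
      refine ⟨hk, ?_, ?_, i, hi⟩
      · rcases h.G1_invol_C (hzG1 _ hk) hkC hk2 with q | ⟨c, -, hc⟩
        · exact q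
        · exact absurd (hk.trans (isConj_iff.2 ⟨c, hc⟩).symm) h.x_not_conj_z
      · rcases h.G1_invol_C (hxG1 _ hv) hvC hv2 with q | q
        · exfalso
          refine h.x_not_conj_z ((hU _ q hv2 ?_).trans hv.symm)
          intro e1
          rw [← hg, conj_eq_one_iff] at e1
          exact h.x_not_U (e1 ▸ one_mem _)
        · exact q
    · rintro ⟨hk, -, ⟨g, -, hg⟩, i, hi⟩
      exact ⟨hk, isConj_iff.2 ⟨g, hg⟩, i, hi⟩
  -- the pairs with centre `x`
  have hxI : {p : G × G | IsConj z p.1 ∧ IsConj x p.2 ∧ ∃ i : ℕ, (p.1 * p.2) ^ i = x}.ncard =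
      (invSet H).ncard * ((invSet H).ncard - 2) := by
    have hconjH : ∀ k ∈ H, k * k = 1 → k ≠ 1 → ∃ g ∈ H, g * z * g⁻¹ = k := fun k hk h2 h1 => S.conj_z ⟨hk, h2, h1⟩
    have hzx : ∀ g ∈ H, IsConj x (g * z * g⁻¹ * x) := by
      intro g hg
      obtain ⟨c, -, hc⟩ := h.mul_x_conj (c := z) ((K.mem_Z0).2 (Or.inr (Or.inl rfl)))
      refine (isConj_iff.2 ⟨c, hc⟩).trans (isConj_iff.2 ⟨g, ?_⟩)
      rw [show g * (z * x) * g⁻¹ = g * z * g⁻¹ * (g * x * g⁻¹) by group, (hH1 g hg).2.eq, mul_inv_cancel_right]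
    refine fibre_count S h.x2 hxH (fun k hk => (hH1 k hk).2) _ _ (fun k hk => (h.z_sq_conj hk).1)
      (fun v hv => by
        obtain ⟨g, rfl⟩ := isConj_iff.1 hv
        rw [conj_mul, h.x2, mul_one, mul_inv_cancel]) ?_ ?_ ?_ ?_
    · intro k hk hkx
      obtain ⟨hk2, hk1⟩ := h.z_sq_conj hk
      rcases hdec k (hzG1 k hk) hkx with q | q
      · exact ⟨q, hk2, hk1⟩
      · exfalso
        obtain ⟨g, hg, he⟩ := hconjH _ q (by rw [hkx.symm.mul_mul_mul_comm, hk2, h.x2, one_mul]) fun e1 => by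
          rw [← inv_eq_of_mul_eq_one_right h.x2] at hkx
          exact h.x_not_conj_z (by
            rw [show k = x by
              rw [← inv_eq_of_mul_eq_one_right h.x2]; exact eq_inv_of_mul_eq_one_left e1] at hk
            exact hk)
        refine h.x_not_conj_z (hk.trans ?_)
        have : k = g * z * g⁻¹ * x := by rw [he, mul_assoc, h.x2, mul_one]
        rw [this]
        exact (hzx g hg).symm
    · intro k hk
      obtain ⟨g, -, he⟩ := S.conj_z hk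
      exact isConj_iff.2 ⟨g, he⟩
    · intro k v _ hv hvx i _
      obtain ⟨c, hc⟩ := isConj_iff.1 hv
      rcases hdec v (hxG1 v hv) hvx with q | q
      · exfalso
        have hv2 : v * v = 1 := by rw [← hc, conj_mul, h.x2, mul_one, mul_inv_cancel]
        obtain ⟨g, -, he⟩ := hconjH v q hv2 (fun e1 => by
          rw [← hc, conj_eq_one_iff] at e1
          exact h.x_not_U (e1 ▸ one_mem _))
        exact h.x_not_conj_z ((isConj_iff.2 ⟨g, he⟩).trans hv.symm)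
      · rwa [hvx.eq] at q
    · intro k hk
      obtain ⟨g, hg, he⟩ := S.conj_z hk
      rw [← he, ← (hH1 _ (mul_mem (mul_mem hg S.hz) (inv_mem hg))).2.eq]
      exact hzx g hg
  change Nat.card h.G1 = {p : G × G | IsConj z p.1 ∧ IsConj x p.2 ∧ ∃ i : ℕ, (p.1 * p.2) ^ i = z}.ncard * _ +
    {p : G × G | IsConj z p.1 ∧ IsConj x p.2 ∧ ∃ i : ℕ, (p.1 * p.2) ^ i = x}.ncard * _ at hform
  rw [hz384, hxI, S.card_eq_four_mul] at hform
  rcases S.ncard_invs with q | q <;> rw [q] at hform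
  · exact Or.inl hform
  · exact Or.inr hform

end Ctx.NG

end CfsgLib.Recognition.PSLThreeFourAut
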