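import Cfsg.Agent.Lib.Recognition.PSLThreeFourAut.Cent
import Cfsg.Agent.Lib.Involution.OrderFormula

/-!
# The pairs with central involution `z`
-/

set_option autoImplicit false
set_option maxRecDepth 100000
set_option linter.unusedSectionVars false

namespace CfsgLib.Recognition.PSLThreeFourAut

open Subgroup CfsgLib.Involution FourSplit

variable {G : Type*} [Group G] [Finite G]

namespace Ctx.NG

variable {z : G} {E : Subgroup G} {e : Fin 4 → G} {K : Ctx z E e} {n r x : G}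

/-- `((k x)²)²`. -/
def phi (x k : G) : G := k * (x * k * x⁻¹) * (k * (x * k * x⁻¹))

/-- The involutions of `U` making with `x` a dihedral group with centre `z`. -/
def Good (K : Ctx z E e) (x : G) : Set G :=
  {k | k ∈ K.U ∧ k * k = 1 ∧ k ≠ 1 ∧ ∃ i : ℕ, (k * x) ^ i = z}

theorem x_conj_U (h : NG K n r x) {k : G} (hk : k ∈ K.U) : x * k * x⁻¹ ∈ K.U := h.conj_U_CC h.x_mem hk

theorem phi_mem (h : NG K n r x) {k : G} (hk : k ∈ K.U) : phi x k ∈ K.Z0 :=
  K.U_sq (mul_mem hk (h.x_conj_U hk))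

theorem kx_four (h : NG K n r x) (k : G) : (k * x) ^ 4 = phi x k := by
  unfold phi
  simp only [pow_succ, pow_zero, one_mul]
  rw [h.x_inv]
  group

theorem phi_ne (h : NG K n r x) {k : G} (hk : k ∈ K.U) (h2 : k * k = 1) (h0 : k ∉ K.Z0) : phi x k ≠ 1 := by
  intro e1
  have key : ∀ a ∈ A K n r, a ∉ K.Z0 → phi x a ≠ 1 := fun a ha ha0 ea => by
    have hb := h.x_span ha
    set b := x * a * x⁻¹ with hb'
    have hc : Commute a b := by
      show a * b = b * a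
      have ia : a⁻¹ = a := inv_eq_of_mul_eq_one_right (h.A_sq ha)
      have ib : b⁻¹ = b := inv_eq_of_mul_eq_one_right (h.B_sq hb)
      rw [← inv_eq_of_mul_eq_one_right (ea : a * b * (a * b) = 1), mul_inv_rev, ia, ib]
    have hbA := h.cent_A ha ha0 (h.B_le_U hb) hc
    refine ha0 ?_
    have h0b := h.A_inf_B hbA hb
    have := h.conj_x_Z0 h0b
    rwa [hb', show x * (x * a * x⁻¹) * x⁻¹ = (x * x) * a * (x * x)⁻¹ by group, h.x2, one_mul, inv_one, mul_one] at this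
  rcases h.invol_mem hk h2 with q | q
  · exact key k q h0 e1
  · have hxk := h.x_span' q
    refine key _ hxk (fun h1 => h0 ?_) ?_
    · have := h.conj_x_Z0 h1
      rwa [show x * (x * k * x⁻¹) * x⁻¹ = (x * x) * k * (x * x)⁻¹ by group, h.x2, one_mul, inv_one, mul_one] at this
    · unfold phi at e1 ⊢
      rw [show x * (x * k * x⁻¹) * x⁻¹ = (x * x) * k * (x * x)⁻¹ by group, h.x2, one_mul, inv_one, mul_one]
      rw [show x * k * x⁻¹ * k * (x * k * x⁻¹ * k) = k⁻¹ * (k * (x * k * x⁻¹) * (k * (x * k * x⁻¹))) * k by group,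
        e1]
      group

theorem phi_conj_x (h : NG K n r x) {k : G} (hk : k ∈ K.U) : phi x (x * k * x⁻¹) = phi x k := by
  have hc := K.Z0_central (h.phi_mem hk) hk.1
  unfold phi at *
  rw [show x * (x * k * x⁻¹) * x⁻¹ = (x * x) * k * (x * x)⁻¹ by group, h.x2, one_mul, inv_one, mul_one,
    show x * k * x⁻¹ * k * (x * k * x⁻¹ * k) = k⁻¹ * (k * (x * k * x⁻¹) * (k * (x * k * x⁻¹))) * k by group,
    mul_assoc, ← hc.eq, inv_mul_cancel_left]

theorem phi_Z0_mul (h : NG K n r x) {c a : G} (hc : c ∈ K.Z0) (ha : a ∈ K.U) : phi x (c * a) = phi x a := by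
  have hb : x * a * x⁻¹ ∈ CC z e := (h.x_conj_U ha).1
  have e1 : x * (c * a) * x⁻¹ = c * (x * a * x⁻¹) := by rw [← conj_mul, K.Z0_conj_CC h.x_mem hc]
  unfold phi
  rw [e1, (show Commute a c from K.Z0_central hc ha.1).mul_mul_mul_comm, K.Z0_sq hc, one_mul]

theorem phi_n (h : NG K n r x) (a : G) : phi x (n * a * n⁻¹) = n * phi x a * n⁻¹ := by
  unfold phi
  have e1 : x * (n * a * n⁻¹) * x⁻¹ = n * (x * a * x⁻¹) * n⁻¹ := by
    rw [show x * (n * a * n⁻¹) * x⁻¹ = (x * n) * a * (x * n)⁻¹ by group, ← h.nx.eq]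
    group
  rw [e1]
  group

theorem good_iff (h : NG K n r x) {k : G} :
    k ∈ Good K x ↔ k ∈ K.U ∧ k * k = 1 ∧ k ∉ K.Z0 ∧ phi x k = z := by
  constructor
  · rintro ⟨hk, h2, h1, i, hi⟩
    have hk0 : k ∉ K.Z0 := by
      intro h0
      have hc : Commute x k := K.Z0_central h0 h.x_mem
      have e2 : k * x * (k * x) = 1 := by rw [hc.mul_mul_mul_comm, h2, h.x2, one_mul]
      have hi' := hi
      rw [← Nat.mod_add_div i 2, pow_add, pow_mul, pow_two, e2, one_pow, mul_one] at hi'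
      rcases Nat.mod_two_eq_zero_or_one i with q | q <;> rw [q] at hi'
      · rw [pow_zero] at hi'
        exact K.frame.extra.z_ne hi'.symm
      · rw [pow_one] at hi'
        refine h.x_not_U ?_
        have := mul_mem (inv_mem hk) (hi'.symm ▸ h.z_mem_U : k * x ∈ K.U)
        rwa [inv_mul_cancel_left] at this
    refine ⟨hk, h2, hk0, ?_⟩
    have h4 := h.kx_four k
    have hne : ¬ (k * x) ^ (2 ^ 2) = 1 := by
      rw [show (2 : ℕ) ^ 2 = 4 from rfl, h4]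
      exact h.phi_ne hk h2 hk0
    have h8 : (k * x) ^ (2 ^ 3) = 1 := by
      rw [show (2 : ℕ) ^ 3 = 4 + 4 from rfl, pow_add, h4]
      exact K.Z0_sq (h.phi_mem hk)
    haveI : Fact (Nat.Prime 2) := ⟨Nat.prime_two⟩
    have ho : orderOf (k * x) = 2 ^ 3 := orderOf_eq_prime_pow hne h8
    have hz2 : orderOf z = 2 := Dihedral.orderOf_eq_two K.sq_z K.frame.extra.z_ne
    have := OrderFormula.eq_half hz2 hi
    rw [ho, show (2 : ℕ) ^ 3 / 2 = 4 from rfl, h4] at this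
    exact this
  · rintro ⟨hk, h2, hk0, he⟩
    exact ⟨hk, h2, fun e1 => hk0 (e1 ▸ one_mem _), 4, by rw [h.kx_four, he]⟩

theorem A_dec_orbit (h : NG K n r x) {a1 : G} (ha : a1 ∈ fixU K (n * r)) (h1 : a1 ≠ 1) {b : G}
    (hb : b ∈ fixU K (n * r)) (hb1 : b ≠ 1) :
    b = a1 ∨ b = n * a1 * n⁻¹ ∨ b = n * (n * a1 * n⁻¹) * n⁻¹ := by
  classical
  haveI := Fintype.ofFinite G
  have hcomm : Commute n (n * r) := (Commute.refl n).mul_right h.nr
  have h2 := h.n_fix hcomm ha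
  have h3 := h.n_fix hcomm h2
  have hU := (h.fix_mem.1 ha).1
  have ne12 : n * a1 * n⁻¹ ≠ a1 := fun q => h1 (h.fpf _ hU q)
  have ne23 : n * (n * a1 * n⁻¹) * n⁻¹ ≠ n * a1 * n⁻¹ := fun q => ne12 (mul_left_cancel (mul_right_cancel q))
  have ne13 : n * (n * a1 * n⁻¹) * n⁻¹ ≠ a1 := fun q => ne12 (by
    have e1 : n * (n * (n * a1 * n⁻¹) * n⁻¹) * n⁻¹ = a1 := by
      rw [show n * (n * (n * a1 * n⁻¹) * n⁻¹) * n⁻¹ = (n * n * n) * a1 * (n * n * n)⁻¹ by group, h.n3]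
      group
    rwa [q] at e1)
  have hne1 : ∀ g : G, g * a1 * g⁻¹ ≠ 1 := fun g q => h1 (conj_eq_one_iff.1 q)
  set S : Finset G := {1, a1, n * a1 * n⁻¹, n * (n * a1 * n⁻¹) * n⁻¹} with hS
  have hS4 : S.card = 4 := by
    have q3 : n * (n * a1 * n⁻¹) * n⁻¹ ≠ 1 := fun q => hne1 n (conj_eq_one_iff.1 q)
    simp [hS, h1.symm, (hne1 n).symm, q3.symm, ne12.symm, ne13.symm, ne23.symm]
  have hsub : (↑S : Set G) ⊆ (fixU K (n * r) : Set G) := by
    intro y hy
    simp only [hS, Finset.coe_insert, Finset.coe_singleton, Set.mem_insert_iff, Set.mem_singleton_iff] at hy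
    rcases hy with q | q | q | q <;> rw [q]
    · exact one_mem _
    · exact ha
    · exact h2
    · exact h3
  have heq := Set.eq_of_subset_of_ncard_le hsub (by
    rw [Set.ncard_coe_finset, hS4, ← Nat.card_coe_set_eq]
    exact le_of_eq h.card_fix) (Set.toFinite _)
  have : b ∈ (↑S : Set G) := heq ▸ hb
  simp only [hS, Finset.coe_insert, Finset.coe_singleton, Set.mem_insert_iff, Set.mem_singleton_iff] at this
  exact this.resolve_left hb1

theorem exists_phi_z (h : NG K n r x) : ∃ a1 ∈ fixU K (n * r), a1 ≠ 1 ∧ phi x a1 = z ∧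
    ∀ b ∈ fixU K (n * r), b ≠ 1 → phi x b = z → b = a1 := by
  obtain ⟨a, ha, ha1, haA, ha0⟩ := h.exists_A_out
  have hp := h.phi_mem (h.A_le_U haA)
  have hne := h.phi_ne (h.A_le_U haA) (h.A_sq haA) ha0
  have hcomm : Commute n (n * r) := (Commute.refl n).mul_right h.nr
  have h2 := h.n_fix hcomm ha
  have h3 := h.n_fix hcomm h2
  have rot : n * (t0 z e * z) * n⁻¹ = z := K.cyc_t0z h.cyc
  obtain ⟨a1, hm, h11, hz⟩ : ∃ a1 ∈ fixU K (n * r), a1 ≠ 1 ∧ phi x a1 = z := by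
    rcases (K.mem_Z0).1 hp with q | q | q | q
    · exact absurd q hne
    · exact ⟨a, ha, ha1, q⟩
    · exact ⟨_, h3, fun e1 => ha1 (conj_eq_one_iff.1 (conj_eq_one_iff.1 e1)), by
        rw [h.phi_n, h.phi_n, q, h.cyc.2, rot]⟩
    · exact ⟨_, h2, fun e1 => ha1 (conj_eq_one_iff.1 e1), by rw [h.phi_n, q, rot]⟩
  refine ⟨a1, hm, h11, hz, fun b hb hb1 hbz => ?_⟩
  rcases h.A_dec_orbit hm h11 hb hb1 with q | q | q
  · exact q
  · rw [q, h.phi_n, hz, h.cyc.1] at hbz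
    exact absurd hbz K.t0_ne_z
  · rw [q, h.phi_n, h.phi_n, hz, h.cyc.1, h.cyc.2] at hbz
    exact absurd (mul_eq_right.1 hbz) K.t0_ne_one

theorem ncard_good (h : NG K n r x) : (Good K x).ncard = 8 := by
  obtain ⟨a1, ha1, h11, hz, huniq⟩ := h.exists_phi_z
  have ha1A := h.fix_le_A ha1
  have ha10 : a1 ∉ K.Z0 := fun h0 => h11 (h.fix_inf_Z0 ha1 h0)
  have ha1U := h.A_le_U ha1A
  have hswap : ∀ k : G, x * (x * k * x⁻¹) * x⁻¹ = k := fun k => by
    rw [show x * (x * k * x⁻¹) * x⁻¹ = (x * x) * k * (x * x)⁻¹ by group, h.x2, one_mul, inv_one, mul_one]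
  have hA : ∀ k ∈ A K n r, k ∉ K.Z0 → phi x k = z → ∃ c ∈ K.Z0, k = c * a1 := by
    intro k hk hk0 hkz
    obtain ⟨c, b, hc, hb, rfl⟩ := hk
    refine ⟨c, hc, ?_⟩
    rw [huniq b hb (fun e1 => hk0 (by rw [e1, mul_one]; exact hc))
      (by rw [← h.phi_Z0_mul hc (h.fix_mem.1 hb).1]; exact hkz)]
  let f : K.Z0 × Fin 2 → G := fun p => x ^ p.2.val * ((p.1 : G) * a1) * (x ^ p.2.val)⁻¹
  have f0 : ∀ c : K.Z0, f (c, 0) = (c : G) * a1 := fun c => by simp [f]
  have f1 : ∀ c : K.Z0, f (c, 1) = x * ((c : G) * a1) * x⁻¹ := fun c => by simp [f]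
  have hcA : ∀ c : K.Z0, (c : G) * a1 ∈ A K n r ∧ (c : G) * a1 ∉ K.Z0 := fun c =>
    ⟨mul_mem (h.Z0_le_A c.2) ha1A, fun h0 => ha10 (by
      have := mul_mem (inv_mem c.2) h0
      rwa [inv_mul_cancel_left] at this)⟩
  have hinj : Function.Injective f := by
    have hsep : ∀ c d : K.Z0, (c : G) * a1 ≠ x * ((d : G) * a1) * x⁻¹ := fun c d q =>
      (hcA c).2 (h.A_inf_B (hcA c).1 (q ▸ h.x_span (hcA d).1))
    rintro ⟨c, i⟩ ⟨d, j⟩ q
    fin_cases i <;> fin_cases j <;> simp only [Fin.zero_eta, Fin.mk_one, f0, f1] at q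
    · exact Prod.ext (Subtype.ext (mul_right_cancel q)) rfl
    · exact absurd q (hsep c d)
    · exact absurd q.symm (hsep d c)
    · exact Prod.ext (Subtype.ext (mul_right_cancel (mul_left_cancel (mul_right_cancel q)))) rfl
  have hrange : Good K x = Set.range f := by
    ext k
    constructor
    · intro hk
      obtain ⟨hkU, hk2, hk0, hkz⟩ := h.good_iff.1 hk
      rcases h.invol_mem hkU hk2 with q | q
      · obtain ⟨c, hc, rfl⟩ := hA k q hk0 hkz
        exact ⟨(⟨c, hc⟩, 0), f0 _⟩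
      · obtain ⟨c, hc, he⟩ := hA _ (h.x_span' q)
          (fun h0 => hk0 (hswap k ▸ h.conj_x_Z0 h0)) (by rw [h.phi_conj_x hkU]; exact hkz)
        exact ⟨(⟨c, hc⟩, 1), by rw [f1]; show x * (c * a1) * x⁻¹ = k; rw [← he]; exact hswap k⟩
    · rintro ⟨⟨c, i⟩, rfl⟩
      have hU := h.A_le_U (hcA c).1
      fin_cases i <;> simp only [Fin.zero_eta, Fin.mk_one, f0, f1]
      · exact h.good_iff.2 ⟨hU, h.A_sq (hcA c).1, (hcA c).2, by rw [h.phi_Z0_mul c.2 ha1U, hz]⟩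
      · exact h.good_iff.2 ⟨h.x_conj_U hU, h.B_sq (h.x_span (hcA c).1),
          fun h0 => (hcA c).2 (hswap ((c : G) * a1) ▸ h.conj_x_Z0 h0),
          by rw [h.phi_conj_x hU, h.phi_Z0_mul c.2 ha1U, hz]⟩
  rw [hrange, ← Nat.card_coe_set_eq, Nat.card_range_of_injective hinj, Nat.card_prod, h.card_Z0, Nat.card_fin]

theorem card_cent_x_CC (h : NG K n r x) : Nat.card {g : G // g ∈ CC z e ∧ Commute g x} = 8 := by
  have hx0 : ∀ c ∈ K.Z0, c * x ∉ K.Z0 := fun c hc h0 => h.x_not_U (K.Z0_le_U (by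
    have := mul_mem (inv_mem hc) h0
    rwa [inv_mul_cancel_left] at this))
  let f : K.Z0 × Fin 2 → {g : G // g ∈ CC z e ∧ Commute g x} := fun p =>
    ⟨(p.1 : G) * x ^ p.2.val, mul_mem (K.Z0_le_CC p.1.2) (pow_mem h.x_mem _),
      (K.Z0_central p.1.2 h.x_mem).symm.mul_left (Commute.pow_self x _)⟩
  have hf : Function.Bijective f := by
    constructor
    · rintro ⟨c, i⟩ ⟨d, j⟩ q
      have e1 : (c : G) * x ^ i.val = (d : G) * x ^ j.val := congrArg Subtype.val q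
      fin_cases i <;> fin_cases j <;>
        simp only [Fin.zero_eta, Fin.mk_one, Fin.val_zero, Fin.val_one, pow_zero, pow_one, mul_one] at e1
      · exact Prod.ext (Subtype.ext e1) rfl
      · exact absurd (e1 ▸ c.2) (hx0 d d.2)
      · exact absurd (e1.symm ▸ d.2) (hx0 c c.2)
      · exact Prod.ext (Subtype.ext (mul_right_cancel e1)) rfl
    · rintro ⟨g, hg, hgx⟩
      rcases h.cent_x_CC hg hgx with q | q
      · exact ⟨(⟨g, q⟩, 0), Subtype.ext (by simp [f])⟩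
      · exact ⟨(⟨_, q⟩, 1), Subtype.ext (by simp [f, mul_assoc, h.x2])⟩
  rw [← Nat.card_eq_of_bijective f hf, Nat.card_prod, h.card_Z0, Nat.card_fin]

/-- The pairs with central involution `z`. -/
theorem pairs_z (h : NG K n r x) :
    Nat.card {p : G × G // IsConj z p.1 ∧ p.1 ∈ K.U ∧ (∃ g ∈ CC z e, g * x * g⁻¹ = p.2) ∧
      ∃ i : ℕ, (p.1 * p.2) ^ i = z} ≤ 384 ∧
    ((∀ u ∈ K.U, u * u = 1 → u ≠ 1 → IsConj z u) →
      Nat.card {p : G × G // IsConj z p.1 ∧ p.1 ∈ K.U ∧ (∃ g ∈ CC z e, g * x * g⁻¹ = p.2) ∧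
        ∃ i : ℕ, (p.1 * p.2) ^ i = z} = 384) := by
  classical
  set S := {p : G × G // IsConj z p.1 ∧ p.1 ∈ K.U ∧ (∃ g ∈ CC z e, g * x * g⁻¹ = p.2) ∧
      ∃ i : ℕ, (p.1 * p.2) ^ i = z}
  set P := {g : G // g ∈ CC z e ∧ Commute g x}
  have hgood : ∀ (p : S) (c : P), (((p.2.2.2.1).choose * (c : G))⁻¹ * p.1.1 *
      ((p.2.2.2.1).choose * (c : G))) ∈ Good K x := by
    rintro ⟨⟨k, v⟩, hk, hkU, hv, i, hi⟩ ⟨c, hc, hcx⟩
    change (hv.choose * c)⁻¹ * k * (hv.choose * c) ∈ Good K x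
    obtain ⟨hgC, hgv⟩ := hv.choose_spec
    set g := hv.choose * c with hg
    have hgCC : g ∈ CC z e := mul_mem hgC hc
    have hgx : g * x * g⁻¹ = v := by
      rw [hg, show hv.choose * c * x * (hv.choose * c)⁻¹ = hv.choose * (c * x * c⁻¹) * hv.choose⁻¹ by group,
        hcx.eq, mul_inv_cancel_right, hgv]
    have h2 : k * k = 1 := by
      obtain ⟨a, rfl⟩ := isConj_iff.1 hk
      rw [conj_mul, K.sq_z, mul_one, mul_inv_cancel]
    refine ⟨?_, ?_, fun e1 => ?_, i, ?_⟩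
    · have := h.conj_U_CC (inv_mem hgCC) hkU
      rwa [inv_inv] at this
    · rw [show g⁻¹ * k * g * (g⁻¹ * k * g) = g⁻¹ * (k * k) * g by group, h2]; group
    · obtain ⟨a, ha⟩ := isConj_iff.1 hk
      refine K.frame.extra.z_ne (conj_eq_one_iff.1 (ha.trans ?_))
      rw [show k = g * (g⁻¹ * k * g) * g⁻¹ by group, e1]; group
    · rw [show g⁻¹ * k * g * x = g⁻¹ * (k * (g * x * g⁻¹)) * g⁻¹⁻¹ by group, hgx, _root_.conj_pow, hi, inv_inv]
      have := K.frame.conj_z (inv_mem hgCC.1)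
      rwa [inv_inv] at this
  let F : S × P → CC z e × Good K x := fun q =>
    (⟨(q.1.2.2.2.1).choose * (q.2 : G), mul_mem (q.1.2.2.2.1).choose_spec.1 q.2.2.1⟩, ⟨_, hgood q.1 q.2⟩)
  have hF : Function.Injective F := by
    rintro ⟨p, c⟩ ⟨p', c'⟩ q
    have e1 : (p.2.2.2.1).choose * (c : G) = (p'.2.2.2.1).choose * (c' : G) :=
      congrArg (fun y : CC z e × Good K x => (y.1 : G)) q
    have e2 := congrArg (fun y : CC z e × Good K x => (y.2 : G)) q
    change ((p.2.2.2.1).choose * (c : G))⁻¹ * p.1.1 * ((p.2.2.2.1).choose * (c : G)) =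
      ((p'.2.2.2.1).choose * (c' : G))⁻¹ * p'.1.1 * ((p'.2.2.2.1).choose * (c' : G)) at e2
    rw [e1] at e2
    have hk : p.1.1 = p'.1.1 := mul_left_cancel (mul_right_cancel e2)
    have hconj : ∀ (p : S) (c : P), p.1.2 =
        ((p.2.2.2.1).choose * (c : G)) * x * ((p.2.2.2.1).choose * (c : G))⁻¹ := fun p c => by
      rw [show ((p.2.2.2.1).choose * (c : G)) * x * ((p.2.2.2.1).choose * (c : G))⁻¹ =
        (p.2.2.2.1).choose * ((c : G) * x * (c : G)⁻¹) * (p.2.2.2.1).choose⁻¹ by group, c.2.2.eq,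
        mul_inv_cancel_right]
      exact (p.2.2.2.1).choose_spec.2.symm
    have hp : p = p' := Subtype.ext (Prod.ext hk (by rw [hconj p c, hconj p' c', e1]))
    subst hp
    exact Prod.ext rfl (Subtype.ext (mul_left_cancel e1))
  have hgood8 : Nat.card (Good K x) = 8 := by rw [Nat.card_coe_set_eq, h.ncard_good]
  refine ⟨?_, fun hU => ?_⟩
  · have := Nat.card_le_card_of_injective F hF
    rw [Nat.card_prod, Nat.card_prod, h.card_cent_x_CC, K.card_CC, hgood8] at this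
    omega
  · have hsurj : Function.Surjective F := by
      rintro ⟨⟨g, hg⟩, ⟨k, hkU, hk2, hk1, i, hi⟩⟩
      have hv : ∃ g' ∈ CC z e, g' * x * g'⁻¹ = g * x * g⁻¹ := ⟨g, hg, rfl⟩
      have hp : IsConj z (g * k * g⁻¹) ∧ g * k * g⁻¹ ∈ K.U ∧
          (∃ g' ∈ CC z e, g' * x * g'⁻¹ = g * x * g⁻¹) ∧ ∃ i : ℕ, (g * k * g⁻¹ * (g * x * g⁻¹)) ^ i = z := by
        refine ⟨(hU k hkU hk2 hk1).trans (isConj_iff.2 ⟨g, rfl⟩), h.conj_U_CC hg hkU, hv, i, ?_⟩
        rw [conj_mul, _root_.conj_pow, hi, K.frame.conj_z hg.1]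
      obtain ⟨hg0C, hg0⟩ := hp.2.2.1.choose_spec
      refine ⟨(⟨(g * k * g⁻¹, g * x * g⁻¹), hp⟩, ⟨hp.2.2.1.choose⁻¹ * g, mul_mem (inv_mem hg0C) hg, ?_⟩), ?_⟩
      · refine mul_inv_eq_iff_eq_mul.1 ?_
        generalize hp.2.2.1.choose = g1 at hg0 ⊢
        rw [show g1⁻¹ * g * x * (g1⁻¹ * g)⁻¹ = g1⁻¹ * (g * x * g⁻¹) * g1 by group, ← hg0]
        group
      · refine Prod.ext (Subtype.ext (mul_inv_cancel_left _ _)) (Subtype.ext ?_)
        show (hp.2.2.1.choose * (hp.2.2.1.choose⁻¹ * g))⁻¹ * (g * k * g⁻¹) * (hp.2.2.1.choose * (hp.2.2.1.choose⁻¹ * g)) = k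
        rw [mul_inv_cancel_left]
        group
    have := Nat.card_eq_of_bijective F ⟨hF, hsurj⟩
    rw [Nat.card_prod, Nat.card_prod, h.card_cent_x_CC, K.card_CC, hgood8] at this
    omega

end Ctx.NG

end CfsgLib.Recognition.PSLThreeFourAut
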