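import Cfsg.Agent.Lib.Recognition.PSLThreeFourAut.Geometry
import Cfsg.Agent.Lib.SmallGroups.M21
import Cfsg.Agent.Lib.SmallGroups.MathieuSimple
import Cfsg.Agent.Lib.Sporadic.FieldFour
import Cfsg.Agent.Lib.Characterizations.L34Aut.Model

/-!
# The plane of order four
-/

set_option autoImplicit false
set_option maxRecDepth 100000
set_option linter.unusedSectionVars false
set_option linter.style.haveILetI false
set_option synthInstance.maxSize 4000
set_option synthInstance.maxHeartbeats 400000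

namespace CfsgLib.Recognition.PSLThreeFourAut

open Subgroup CfsgLib.Involution FourSplit
open scoped Pointwise

/-- The collineations of a plane of order four contain a copy of `PSL(3,4)`. -/
theorem exists_psl_sub {α : Type*} [Fintype α] [DecidableEq α] (hα : Fintype.card α = 21)
    {L : Set (Finset α)} (hL : Cfsg.IsSteinerSystem 2 5 L) (F : Type) [Field F] [Fintype F]
    (hF : Fintype.card F = 4) :
    ∃ S : Subgroup (Cfsg.setSystemAut L), IsSimpleGroup S ∧ Nat.card S = 20160 ∧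
      Nonempty (S ≃* Matrix.ProjectiveSpecialLinearGroup (Fin 3) F) := by
  classical
  open CfsgLib.SmallGroups in
  have hP := M21.card_points hF
  open CfsgLib.SmallGroups in
  haveI : Finite (M21.P3 F) := Nat.finite_of_card_ne_zero (by rw [hP]; norm_num)
  open CfsgLib.SmallGroups in
  haveI : Fintype (M21.P3 F) := Fintype.ofFinite _
  rw [Nat.card_eq_fintype_card] at hP
  obtain ⟨E, hE⟩ := CfsgLib.Sporadic.PlaneFour.unique hP hα (CfsgLib.SmallGroups.M21.isSteiner_proj hF) hL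
  let act : Matrix.ProjectiveSpecialLinearGroup (Fin 3) F →* Equiv.Perm α :=
    E.permCongrHom.toMonoidHom.comp (MulAction.toPermHom _ (CfsgLib.SmallGroups.M21.P3 F))
  have hact : ∀ g, act g ∈ Cfsg.setSystemAut L := fun g => by
    set σ := MulAction.toPermHom (Matrix.ProjectiveSpecialLinearGroup (Fin 3) F) (CfsgLib.SmallGroups.M21.P3 F) g with hσdef
    have hσ : σ • CfsgLib.SmallGroups.M21.projLines F = CfsgLib.SmallGroups.M21.projLines F :=
      CfsgLib.SmallGroups.M21.smul_projLines g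
    have key : ∀ l : Finset (CfsgLib.SmallGroups.M21.P3 F), act g • l.image E = (σ • l).image E := fun l => by
      show (l.image E).image (act g) = (l.image σ).image E
      rw [Finset.image_image, Finset.image_image]
      congr 1
      funext x
      simp [act, hσdef]
    show act g • L = L
    conv_lhs => rw [← hE]
    conv_rhs => rw [← hE, ← hσ]
    rw [← Set.image_smul, ← Set.image_smul, Set.image_image, Set.image_image]
    exact Set.image_congr' key
  haveI hsimple := CfsgLib.Classical.psl_fin_isSimpleGroup (F := F) (k := 3) (by norm_num) (by norm_num)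
  let b : Matrix.ProjectiveSpecialLinearGroup (Fin 3) F →* Cfsg.setSystemAut L := act.codRestrict _ hact
  have hb : Function.Injective b := by
    rw [← MonoidHom.ker_eq_bot_iff]
    refine (b.normal_ker).eq_bot_or_eq_top.resolve_right fun htop => ?_
    obtain ⟨x, y, hxy⟩ := Fintype.exists_pair_of_one_lt_card
      (show 1 < Fintype.card (CfsgLib.SmallGroups.M21.P3 F) by omega)
    obtain ⟨g, hg⟩ := MulAction.exists_smul_eq (Matrix.SpecialLinearGroup (Fin 3) F) x y
    have h1 : b (QuotientGroup.mk g) = 1 := MonoidHom.mem_ker.1 (htop ▸ Subgroup.mem_top _)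
    have h2 : act (QuotientGroup.mk g) (E x) = E x := by
      rw [show act (QuotientGroup.mk g) = 1 from congrArg Subtype.val h1]; rfl
    simp only [act, MonoidHom.comp_apply, MulEquiv.coe_toMonoidHom, Equiv.permCongrHom_coe,
      Equiv.permCongr_apply, Equiv.symm_apply_apply, MulAction.toPermHom_apply, MulAction.toPerm_apply,
      EmbeddingLike.apply_eq_iff_eq] at h2
    rw [Matrix.ProjectiveSpecialLinearGroup.smul_proj_mk, hg] at h2
    exact hxy h2.symm
  exact ⟨b.range, CfsgLib.SmallGroups.MathieuSimple.isSimpleGroup_congr' (MonoidHom.ofInjective hb),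
    by rw [← Nat.card_congr (MonoidHom.ofInjective hb).toEquiv, CfsgLib.SmallGroups.M21.card_psl F hF],
    ⟨(MonoidHom.ofInjective hb).symm⟩⟩

theorem a4_centraliser : ∀ a b p : Equiv.Perm (Fin 4), IsDT a → b * b * b = 1 → b ≠ 1 → p * b = b * p →
    p * a = a * p → p = 1 := by
  decide +kernel

/-- Projective special linear groups over isomorphic fields. -/
theorem psl_three_congr {F F' : Type*} [Field F] [Field F'] (e : F ≃+* F') :
    Nonempty (Matrix.ProjectiveSpecialLinearGroup (Fin 3) F ≃* Matrix.ProjectiveSpecialLinearGroup (Fin 3) F') := by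
  let f : Matrix.SpecialLinearGroup (Fin 3) F ≃* Matrix.SpecialLinearGroup (Fin 3) F' :=
    { toFun := Matrix.SpecialLinearGroup.map e.toRingHom
      invFun := Matrix.SpecialLinearGroup.map e.symm.toRingHom
      left_inv := fun g => Matrix.SpecialLinearGroup.ext _ _ fun i j => by simp
      right_inv := fun g => Matrix.SpecialLinearGroup.ext _ _ fun i j => by simp
      map_mul' := map_mul _ }
  exact ⟨QuotientGroup.congr (Subgroup.center _) (Subgroup.center _) f
    (Subgroup.ext fun x => by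
      simp only [Subgroup.mem_map, Subgroup.mem_center_iff]
      refine ⟨?_, fun h => ⟨f.symm x, fun g => f.injective ?_, f.apply_symm_apply x⟩⟩
      · rintro ⟨y, hy, rfl⟩ g
        obtain ⟨g, rfl⟩ := f.surjective g
        exact (map_mul f g y).symm.trans ((congrArg f (hy g)).trans (map_mul f y g))
      · rw [map_mul, map_mul, f.apply_symm_apply]; exact h (f g))⟩

variable {G : Type*} [Group G] [Finite G]

namespace Ctx.NG

variable {z : G} {E : Subgroup G} {e : Fin 4 → G} {K : Ctx z E e} {n r x : G}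

/-- Incidence. -/
def Meets (P L : Subgroup G) : Prop := ∃ u ∈ P, u ≠ 1 ∧ u ∈ L

theorem meets_cj {g : G} {P L : Subgroup G} : Meets (cj g P) (cj g L) ↔ Meets P L := by
  constructor
  · rintro ⟨u, hu, h1, hu'⟩
    rw [mem_cj] at hu hu'
    refine ⟨_, hu, fun e1 => h1 ?_, hu'⟩
    rw [show u = g * (g⁻¹ * u * g) * g⁻¹ by group, e1]
    group
  · rintro ⟨u, hu, h1, hu'⟩
    exact ⟨g * u * g⁻¹, mem_cj'.2 hu, fun e1 => h1 (conj_eq_one_iff.1 e1), mem_cj'.2 hu'⟩

/-- The point set. -/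
abbrev Pts (h : NG K n r x) : Type _ := {P : Subgroup G // h.IsPt P}

open scoped _root_.Classical in
/-- The points of a line. -/
noncomputable def lineSet (h : NG K n r x) [Fintype h.Pts] (L : Subgroup G) : Finset h.Pts :=
  Finset.univ.filter fun P => Meets P.1 L

/-- The lines of the plane. -/
def planeLines (h : NG K n r x) [Fintype h.Pts] : Set (Finset h.Pts) :=
  {l | ∃ L, h.IsLn L ∧ l = h.lineSet L}

theorem mem_lineSet (h : NG K n r x) [Fintype h.Pts] {L : Subgroup G} {P : h.Pts} :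
    P ∈ h.lineSet L ↔ Meets P.1 L := by
  classical
  simp [lineSet]

theorem lineSet_card (h : NG K n r x) (hU : ∀ u ∈ K.U, u * u = 1 → u ≠ 1 → IsConj z u) [Fintype h.Pts]
    {L : Subgroup G} (hL : h.IsLn L) : (h.lineSet L).card = 5 := by
  classical
  rw [← h.five_points hU hL, ← Set.ncard_coe_finset, ← Set.ncard_image_of_injective _ Subtype.val_injective]
  congr 1
  ext P
  simp only [Set.mem_image, Finset.mem_coe, h.mem_lineSet, Set.mem_setOf_eq]
  constructor
  · rintro ⟨⟨P, hP⟩, ⟨u, hu, h1, hu'⟩, rfl⟩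
    exact ⟨hP, u, hu', h1, hu⟩
  · rintro ⟨hP, u, hu, h1, hu'⟩
    exact ⟨⟨P, hP⟩, ⟨u, hu', h1, hu⟩, rfl⟩

theorem meets_unique (h : NG K n r x) (hU : ∀ u ∈ K.U, u * u = 1 → u ≠ 1 → IsConj z u) {P Q : h.Pts}
    (hPQ : P ≠ Q) {L L' : Subgroup G} (hL : h.IsLn L) (hL' : h.IsLn L') (h1 : Meets P.1 L) (h2 : Meets Q.1 L)
    (h1' : Meets P.1 L') (h2' : Meets Q.1 L') : L = L' := by
  obtain ⟨u, hu, hu1, hu'⟩ := h1
  obtain ⟨w, hw, hw1, hw'⟩ := h2
  obtain ⟨a, ha, ha1, ha'⟩ := h1'
  obtain ⟨b, hb, hb1, hb'⟩ := h2'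
  exact h.no_digon hU P.2 Q.2 hL hL' (fun q => hPQ (Subtype.ext q)) hu hu' hu1 hw hw' hw1 ha ha' ha1 hb hb' hb1

theorem meets_exists (h : NG K n r x) (hU : ∀ u ∈ K.U, u * u = 1 → u ≠ 1 → IsConj z u) [Fintype h.Pts]
    (h21 : Fintype.card h.Pts = 21) {P Q : h.Pts} (hPQ : P ≠ Q) :
    ∃ L, h.IsLn L ∧ Meets P.1 L ∧ Meets Q.1 L := by
  classical
  haveI := Fintype.ofFinite (Subgroup G)
  set S : Finset (Subgroup G) := Finset.univ.filter fun L => h.IsLn L ∧ Meets P.1 L with hS
  have hS5 : S.card = 5 := by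
    rw [← h.five_lines hU P.2, ← Set.ncard_coe_finset]
    congr 1
    ext L
    rw [Finset.mem_coe]
    constructor
    · intro hh; exact (Finset.mem_filter.1 hh).2
    · intro hh; exact Finset.mem_filter.2 ⟨Finset.mem_univ _, hh⟩
  have hmem : ∀ L ∈ S, h.IsLn L ∧ Meets P.1 L := fun L hL => (Finset.mem_filter.1 hL).2
  have hdisj : (S : Set (Subgroup G)).PairwiseDisjoint fun L => (h.lineSet L).erase P := by
    intro L hL L' hL' hne
    rw [Function.onFun, Finset.disjoint_left]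
    intro R hR hR'
    rw [Finset.mem_erase, h.mem_lineSet] at hR hR'
    exact hne (h.meets_unique hU hR.1.symm (hmem L hL).1 (hmem L' hL').1 (hmem L hL).2 hR.2 (hmem L' hL').2 hR'.2)
  have hsub : S.biUnion (fun L => (h.lineSet L).erase P) ⊆ (Finset.univ : Finset h.Pts).erase P := fun R hR => by
    obtain ⟨L, -, hR'⟩ := Finset.mem_biUnion.1 hR
    exact Finset.mem_erase.2 ⟨(Finset.mem_erase.1 hR').1, Finset.mem_univ _⟩
  have hcard : ((Finset.univ : Finset h.Pts).erase P).card ≤ (S.biUnion fun L => (h.lineSet L).erase P).card := by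
    rw [Finset.card_biUnion hdisj, Finset.card_erase_of_mem (Finset.mem_univ _), Finset.card_univ, h21,
      Finset.sum_congr rfl (g := fun _ => 4) fun L hL => by
        rw [Finset.card_erase_of_mem (h.mem_lineSet.2 (hmem L hL).2), h.lineSet_card hU (hmem L hL).1],
      Finset.sum_const, hS5]
    norm_num
  have heq := Finset.eq_of_subset_of_card_le hsub hcard
  have hQ : Q ∈ S.biUnion (fun L => (h.lineSet L).erase P) :=
    heq ▸ Finset.mem_erase.2 ⟨hPQ.symm, Finset.mem_univ _⟩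
  obtain ⟨L, hL, hQL⟩ := Finset.mem_biUnion.1 hQ
  exact ⟨L, (hmem L hL).1, (hmem L hL).2, h.mem_lineSet.1 (Finset.mem_erase.1 hQL).2⟩

theorem steiner (h : NG K n r x) (hU : ∀ u ∈ K.U, u * u = 1 → u ≠ 1 → IsConj z u) [Fintype h.Pts]
    (h21 : Fintype.card h.Pts = 21) : Cfsg.IsSteinerSystem 2 5 h.planeLines := by
  classical
  refine ⟨?_, fun s hs => ?_⟩
  · rintro _ ⟨L, hL, rfl⟩
    exact h.lineSet_card hU hL
  · obtain ⟨P, Q, hPQ, rfl⟩ := Finset.card_eq_two.1 hs
    obtain ⟨L, hL, hPL, hQL⟩ := h.meets_exists hU h21 hPQ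
    refine ⟨h.lineSet L, ⟨⟨L, hL, rfl⟩, by simp [Finset.insert_subset_iff, h.mem_lineSet, hPL, hQL]⟩, ?_⟩
    rintro _ ⟨⟨L', hL', rfl⟩, hsub⟩
    rw [h.meets_unique hU hPQ hL' hL (h.mem_lineSet.1 (hsub (by simp))) (h.mem_lineSet.1 (hsub (by simp))) hPL hQL]

/-- `G₂` acts on the points. -/
noncomputable def ptAct (h : NG K n r x) : h.G2 →* Equiv.Perm h.Pts where
  toFun g :=
    { toFun := fun P => ⟨cj (g : G) P.1, h.isPt_cj P.2 g.2⟩
      invFun := fun P => ⟨cj (g : G)⁻¹ P.1, h.isPt_cj P.2 (inv_mem g.2)⟩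
      left_inv := fun P => Subtype.ext (cj_inv_cancel _ _)
      right_inv := fun P => Subtype.ext (by
        show cj (g : G) (cj (g : G)⁻¹ P.1) = P.1
        rw [cj_mul, mul_inv_cancel, cj_one]) }
  map_one' := Equiv.ext fun P => Subtype.ext (cj_one _)
  map_mul' g f := Equiv.ext fun P => Subtype.ext (cj_mul (g : G) (f : G) P.1).symm

theorem ptAct_val (h : NG K n r x) (g : h.G2) (P : h.Pts) : (h.ptAct g P).1 = cj (g : G) P.1 := rfl

theorem ptAct_line (h : NG K n r x) [Fintype h.Pts] [DecidableEq h.Pts] (g : h.G2) (L : Subgroup G) :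
    (h.lineSet L).image (h.ptAct g) = h.lineSet (cj (g : G) L) := by
  ext P
  rw [Finset.mem_image, h.mem_lineSet]
  constructor
  · rintro ⟨Q, hQ, rfl⟩
    rw [h.ptAct_val]
    exact meets_cj.2 (h.mem_lineSet.1 hQ)
  · intro hP
    refine ⟨h.ptAct g⁻¹ P, h.mem_lineSet.2 ?_, ?_⟩
    · rw [h.ptAct_val]
      have := (meets_cj (g := ((g⁻¹ : h.G2) : G))).2 hP
      rwa [Subgroup.coe_inv, cj_inv_cancel] at this
    · rw [map_inv]
      exact Equiv.apply_symm_apply _ _

theorem ptAct_mem (h : NG K n r x) [Fintype h.Pts] [DecidableEq h.Pts] (g : h.G2) :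
    h.ptAct g ∈ Cfsg.setSystemAut h.planeLines := by
  refine Set.eq_of_subset_of_ncard_le ?_ (le_of_eq ?_) (Set.toFinite _)
  · rintro _ ⟨l, ⟨L, hL, rfl⟩, rfl⟩
    exact ⟨_, h.isLn_cj hL g.2, h.ptAct_line g L⟩
  · exact (Set.ncard_image_of_injective _ (MulAction.injective _)).symm

theorem cent_U_one (h : NG K n r x) {k : G} (hk : k ∈ h.G2) (hc : ∀ u ∈ K.U, Commute k u) : k ∈ K.Z0 := by
  obtain ⟨a, -, -, ha, ha0⟩ := h.exists_A_out
  have hkA := h.cent_a_C ha ha0 hk (hc z h.z_mem_U) (hc a (h.A_le_U ha))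
  exact h.center_U (h.A_le_U hkA) hc

theorem z_moves (h : NG K n r x) (hU : ∀ u ∈ K.U, u * u = 1 → u ≠ 1 → IsConj z u) :
    ∃ P, h.IsPt P ∧ cj z P ≠ P := by
  obtain ⟨a, -, ha1, haA, ha0⟩ := h.exists_A_out
  have hzA : z ∈ A K n r := h.Z0_le_A ((K.mem_Z0).2 (Or.inr (Or.inl rfl)))
  have hA : h.IsPt (A K n r) := ⟨1, one_mem _, (cj_one _).symm⟩
  obtain ⟨g, hg, -, -, hB⟩ := h.exists_pt_ln hU (h.pt_G2 hA haA).1 (h.pt_G2 hA haA).2 ha1
  set L := cj g (B K n r) with hL'
  have hL : h.IsLn L := ⟨g, hg, rfl⟩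
  have hzL : z ∉ L := fun q => ha0 (h.A_inf_B haA (h.ln_of_z hU hL q ▸ hB))
  obtain ⟨P, ⟨hP, w, hw, hw1, hwP⟩, hPA⟩ := Set.exists_ne_of_one_lt_ncard
    (show 1 < {P | h.IsPt P ∧ ∃ u ∈ L, u ≠ 1 ∧ u ∈ P}.ncard by rw [h.five_points hU hL]; norm_num) (A K n r)
  exact ⟨P, hP, fun q => hzL ((h.fix_iff hU hA hP hL (Ne.symm hPA) haA hB ha1 hwP hw hw1 hzA K.frame.extra.z_ne).1 q)⟩

theorem ptAct_inj (h : NG K n r x) (hU : ∀ u ∈ K.U, u * u = 1 → u ≠ 1 → IsConj z u) [Fintype h.Pts]
    [DecidableEq h.Pts] : Function.Injective h.ptAct := by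
  refine (injective_iff_map_eq_one _).2 fun k hk => ?_
  have hpt : ∀ f : h.G2, h.ptAct f = 1 → ∀ P, h.IsPt P → cj (f : G) P = P := fun f hf P hP =>
    congrArg Subtype.val (Equiv.ext_iff.1 hf ⟨P, hP⟩)
  have hln : ∀ f : h.G2, h.ptAct f = 1 → ∀ L, h.IsLn L → cj (f : G) L = L := by
    intro f hf L hL
    have e1 := h.ptAct_line f L
    rw [hf] at e1
    simp only [Equiv.Perm.coe_one, Finset.image_id] at e1
    obtain ⟨P, hP, Q, hQ, hPQ⟩ := Finset.one_lt_card.1
      (show 1 < (h.lineSet L).card by rw [h.lineSet_card hU hL]; norm_num)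
    exact h.meets_unique hU hPQ (h.isLn_cj hL f.2) hL (h.mem_lineSet.1 (e1 ▸ hP)) (h.mem_lineSet.1 (e1 ▸ hQ))
      (h.mem_lineSet.1 hP) (h.mem_lineSet.1 hQ)
  -- no involution fixes everything
  have hinv : ∀ f : h.G2, h.ptAct f = 1 → (f : G) * f = 1 → (f : G) = 1 := by
    intro f hf h2
    by_contra h1
    obtain ⟨g, hg, he⟩ := h.G2_conj hU f.2 h2 h1
    obtain ⟨P, hP, hne⟩ := h.z_moves hU
    refine hne ?_
    have := hpt f hf _ (h.isPt_cj hP hg)
    rw [← he, cj_mul, show g * z * g⁻¹ * g = g * z by group, ← cj_mul] at this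
    have e2 := congrArg (cj g⁻¹) this
    rwa [cj_inv_cancel, cj_inv_cancel] at e2
  have hU4 : ∀ f : h.G2, h.ptAct f = 1 → (f : G) ∈ K.U → (f : G) = 1 := by
    intro f hf hfU
    refine hinv f hf (hinv (f * f) (by rw [map_mul, hf, one_mul]) ?_)
    exact K.U_pow_four hfU
  have hA : h.IsPt (A K n r) := ⟨1, one_mem _, (cj_one _).symm⟩
  have hB : h.IsLn (B K n r) := ⟨1, one_mem _, (cj_one _).symm⟩
  have hkU : ∀ u ∈ K.U, (k : G) * u * (k : G)⁻¹ ∈ K.U := by
    intro u hu
    obtain ⟨a, b, ha, hb, rfl⟩ := h.dec_AB hu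
    rw [← conj_mul]
    exact mul_mem (h.A_le_U (hpt k hk _ hA ▸ mem_cj'.2 ha)) (h.B_le_U (hln k hk _ hB ▸ mem_cj'.2 hb))
  have hcomm : ∀ u ∈ K.U, Commute (k : G) u := by
    intro u hu
    have := hU4 (k * ⟨u, h.U_le_G2 hu⟩ * k⁻¹ * ⟨u, h.U_le_G2 hu⟩⁻¹)
      (by simp [map_mul, map_inv, hk]) (mul_mem (hkU u hu) (inv_mem hu))
    exact mul_inv_eq_iff_eq_mul.1 (mul_inv_eq_one.1 this)
  exact Subtype.ext (hU4 k hk (K.Z0_le_U (h.cent_U_one k.2 hcomm)))

/-- Recognition in the first case. -/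
theorem iso_caseI (h : NG K n r x) (hU : ∀ u ∈ K.U, u * u = 1 → u ≠ 1 → IsConj z u)
    {F : Type*} [Field F] [Fintype F] (hF : Fintype.card F = 4) :
    Nonempty (G ≃* MulAut (GL (Fin 3) F ⧸ Subgroup.center (GL (Fin 3) F))) := by
  classical
  haveI := Fintype.ofFinite h.Pts
  obtain ⟨hG2, hG, hpts⟩ := h.card_caseI hU
  have h21 : Fintype.card h.Pts = 21 := by rw [← Nat.card_eq_fintype_card]; exact hpts
  have hst := h.steiner hU h21
  have hle := CfsgLib.SmallGroups.M21.card_aut_le h21 hst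
  obtain ⟨S, hS, hSc, ⟨eS⟩⟩ :=
    exists_psl_sub h21 hst CfsgLib.Sporadic.FieldFour CfsgLib.Sporadic.FieldFour.card_eq
  haveI := hS
  let φ : h.G2 →* Cfsg.setSystemAut h.planeLines := h.ptAct.codRestrict _ h.ptAct_mem
  have hφ : Function.Injective φ := fun a b q => h.ptAct_inj hU (congrArg Subtype.val q)
  have hrange : Nat.card φ.range = 60480 := by
    rw [← Nat.card_congr (MonoidHom.ofInjective hφ).toEquiv, hG2]
  have hSle : S ≤ φ.range := by
    have hidx : φ.range.index ≤ 2 := by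
      have := φ.range.index_mul_card
      rw [hrange] at this
      omega
    let ψ : S →* Equiv.Perm (↥(Cfsg.setSystemAut h.planeLines) ⧸ φ.range) :=
      (MulAction.toPermHom _ _).comp S.subtype
    have hker : ψ.ker = ⊤ := by
      refine (ψ.normal_ker).eq_bot_or_eq_top.resolve_left fun hbot => ?_
      have h1 := Nat.card_le_card_of_injective ψ ((MonoidHom.ker_eq_bot_iff ψ).1 hbot)
      rw [hSc, Nat.card_perm] at h1
      have h2 : (Nat.card (↥(Cfsg.setSystemAut h.planeLines) ⧸ φ.range)).factorial ≤ (2 : ℕ).factorial :=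
        Nat.factorial_le hidx
      have h3 : (2 : ℕ).factorial = 2 := rfl
      omega
    intro y hy
    have h1 : ψ ⟨y, hy⟩ = 1 := MonoidHom.mem_ker.1 (hker ▸ Subgroup.mem_top _)
    have h2 := congrArg (fun σ : Equiv.Perm _ => σ ((1 : ↥(Cfsg.setSystemAut h.planeLines)) :
      ↥(Cfsg.setSystemAut h.planeLines) ⧸ φ.range)) h1
    simp only [ψ, MonoidHom.comp_apply, Subgroup.coe_subtype, MulAction.toPermHom_apply,
      MulAction.toPerm_apply, Equiv.Perm.one_apply] at h2
    rw [MulAction.Quotient.smul_coe, smul_eq_mul, mul_one, eq_comm, QuotientGroup.eq] at h2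
    simpa using h2
  let N0 : Subgroup h.G2 := S.comap φ
  have hmapN : N0.map φ = S := Subgroup.map_comap_eq_self hSle
  let N : Subgroup G := N0.map h.G2.subtype
  let eN : N ≃* S :=
    (Subgroup.equivMapOfInjective N0 h.G2.subtype h.G2.subtype_injective).symm.trans
      ((Subgroup.equivMapOfInjective N0 φ hφ).trans (MulEquiv.subgroupCongr hmapN))
  have hN0c : Nat.card N0 = 20160 := by
    rw [← Subgroup.card_map_of_injective hφ, hmapN, hSc]
  have huniq : ∀ R : Subgroup h.G2, Nat.card R = 20160 → R = N0 := fun R hR => by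
    refine Subgroup.map_injective hφ ?_
    rw [hmapN]
    exact (CfsgLib.SmallGroups.M21.eq_of_simple hle S (R.map φ) hSc
      (by rw [Subgroup.card_map_of_injective hφ, hR])).symm
  have hNle : N ≤ h.G2 := Subgroup.map_subtype_le _
  have hNnorm : N.Normal := by
    refine ⟨fun y hy g => ?_⟩
    have hgle : cj g N ≤ h.G2 := fun w hw => by
      rw [mem_cj] at hw
      have := h.G2_normal.conj_mem _ (hNle hw) g
      rwa [show g * (g⁻¹ * w * g) * g⁻¹ = w by group] at this
    have hR := huniq ((cj g N).subgroupOf h.G2) (by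
      rw [Nat.card_congr (Subgroup.subgroupOfEquivOfLe hgle).toEquiv, card_cj,
        Subgroup.card_map_of_injective h.G2.subtype_injective, hN0c])
    have hgy : g * y * g⁻¹ ∈ cj g N := mem_cj'.2 hy
    exact ⟨⟨_, hgle hgy⟩, hR ▸ (Subgroup.mem_subgroupOf.2 hgy : (⟨_, hgle hgy⟩ : h.G2) ∈ (cj g N).subgroupOf h.G2), rfl⟩
  haveI := hNnorm
  have hN0norm : N0.Normal := by
    refine ⟨fun y hy g => ?_⟩
    obtain ⟨y', hy', he⟩ := hNnorm.conj_mem (y : G) ⟨y, hy, rfl⟩ (g : G)
    have : g * y * g⁻¹ = y' := Subtype.ext he.symm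
    rw [this]; exact hy'
  haveI := hN0norm
  have hidx : N0.index = 3 := by
    have := N0.index_mul_card
    rw [hN0c, hG2] at this
    omega
  have hUN : ∀ u ∈ K.U, u ∈ N := by
    intro u hu
    refine ⟨⟨u, h.U_le_G2 hu⟩, ?_, rfl⟩
    rw [SetLike.mem_coe, ← QuotientGroup.eq_one_iff]
    refine eq_one_of_three (k := 2) ?_ ?_
    · have := pow_card_eq_one' (G := ↥h.G2 ⧸ N0) (x := ((⟨u, h.U_le_G2 hu⟩ : h.G2) : ↥h.G2 ⧸ N0))
      rw [← Subgroup.index_eq_card, hidx, pow_succ, pow_two] at this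
      exact this
    · rw [← QuotientGroup.mk_pow, show (⟨u, h.U_le_G2 hu⟩ : h.G2) ^ 2 ^ 2 = 1 from Subtype.ext (by
        show u ^ (2 ^ 2) = 1
        rw [show (2 : ℕ) ^ 2 = 2 + 2 from rfl, pow_add, pow_two]
        exact K.U_pow_four hu), QuotientGroup.mk_one]
  have hcent : centralizer (N : Set G) = ⊥ := by
    rw [Subgroup.eq_bot_iff_forall]
    intro m hm
    haveI : (centralizer (N : Set G)).Normal := Subgroup.normal_centralizer
    have hmU : ∀ u ∈ K.U, Commute m u := fun u hu => ((Subgroup.mem_centralizer_iff.1 hm) u (hUN u hu)).symm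
    obtain ⟨a, -, -, haA, ha0⟩ := h.exists_A_out
    -- elements inside `G₂`
    have hin : ∀ k ∈ h.G2, k ∈ centralizer (N : Set G) → k = 1 := by
      intro k hk hkc
      by_contra hk1
      have hk0 := h.cent_U_one hk fun u hu => ((Subgroup.mem_centralizer_iff.1 hkc) u (hUN u hu)).symm
      have hkz : IsConj z k := h.Z0_conj hk0 hk1
      obtain ⟨c, hc⟩ := isConj_iff.1 hkz
      have hzc : z ∈ centralizer (N : Set G) := by
        have := (inferInstance : (centralizer (N : Set G)).Normal).conj_mem k hkc c⁻¹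
        rwa [← hc, show c⁻¹ * (c * z * c⁻¹) * c⁻¹⁻¹ = z by group] at this
      obtain ⟨g, hg, he⟩ := h.conj_in_G2 (hU a (h.A_le_U haA) (h.A_sq haA) fun e1 => ha0 (e1 ▸ one_mem _))
      have haC : a ∈ centralizer (N : Set G) := he ▸ (inferInstance : (centralizer (N : Set G)).Normal).conj_mem z hzc g
      refine ha0 (h.center_U (h.A_le_U haA) fun u hu => ?_)
      exact ((Subgroup.mem_centralizer_iff.1 haC) u (hUN u hu)).symm
    have hcomm : ∀ g ∈ h.G2, Commute m g := by
      intro g hg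
      have hk : m * g * m⁻¹ * g⁻¹ ∈ h.G2 := mul_mem (h.G2_normal.conj_mem g hg m) (inv_mem hg)
      have hk' : m * g * m⁻¹ * g⁻¹ ∈ centralizer (N : Set G) := by
        rw [show m * g * m⁻¹ * g⁻¹ = m * (g * m⁻¹ * g⁻¹) by group]
        exact mul_mem hm ((inferInstance : (centralizer (N : Set G)).Normal).conj_mem _ (inv_mem hm) g)
      exact mul_inv_eq_iff_eq_mul.1 (mul_inv_eq_one.1 (hin _ hk hk'))
    have hmC : m ∈ centralizer ({z} : Set G) :=
      mem_centralizer_singleton_iff.2 (hcomm z h.z_mem_G2).eq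
    have e1 : sig z e m * sig z e r = sig z e r * sig z e m := by
      rw [← K.frame.sig_mul hmC h.r_mem.1, ← K.frame.sig_mul h.r_mem.1 hmC, (hcomm r h.r_mem_G2).eq]
    have e2 : sig z e m * sig z e a = sig z e a * sig z e m := by
      rw [← K.frame.sig_mul hmC (h.A_le_U haA).1.1, ← K.frame.sig_mul (h.A_le_U haA).1.1 hmC,
        (hmU a (h.A_le_U haA)).eq]
    have ha' : IsDT (sig z e a) := by
      rcases K.U_sig (h.A_le_U haA) with q | q
      · exfalso
        have haE := K.frame.mem_E_of_sig (h.A_le_U haA).1.1 q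
        rcases K.mem_Z0_of_E haE (h.A_sq haA) (K.CC_t0 (h.A_le_U haA).1) with s | s | s | s
        · exact ha0 (s ▸ one_mem _)
        all_goals exact ha0 ((K.mem_Z0).2 (by simp [s]))
      · exact q
    have hr3 : sig z e r * sig z e r * sig z e r = 1 := by
      rw [← K.frame.sig_mul h.r_mem.1 h.r_mem.1, ← K.frame.sig_mul (mul_mem h.r_mem.1 h.r_mem.1) h.r_mem.1, h.r3,
        K.frame.sig_one]
    have hr1 : sig z e r ≠ 1 := fun q => h.rho_r.2 (by rw [rho, q, map_one])
    have hs : sig z e m = 1 := a4_centraliser _ _ _ ha' hr3 hr1 e1 e2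
    have hmE := K.frame.mem_E_of_sig hmC hs
    have hmU' : m ∈ K.U := by
      refine ⟨K.mem_CC hmC (hcomm _ ?_), K.rho_E hmE⟩
      exact h.G2_of_conj h.z_mem_G2 h.conj_z_t0
    exact hin m (h.U_le_G2 hmU') hm
  obtain ⟨eF⟩ := psl_three_congr
    (FiniteField.ringEquivOfCardEq (K := CfsgLib.Sporadic.FieldFour) (K' := F)
      (CfsgLib.Sporadic.FieldFour.card_eq.trans hF.symm))
  exact CfsgLib.Characterizations.L34Aut.nonempty_equiv_mulAut_pgl hF N ((eN.trans eS).trans eF) hcent hG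

end Ctx.NG

end CfsgLib.Recognition.PSLThreeFourAut
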