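import Cfsg.Agent.Lib.Recognition.PSLThreeFourAut.Normalizer

/-!
# The two elementary abelian subgroups of order sixteen of `U`
-/

set_option autoImplicit false
set_option maxRecDepth 100000
set_option linter.unusedSectionVars false

namespace CfsgLib.Recognition.PSLThreeFourAut

open Subgroup

variable {G : Type*} [Group G] [Finite G]

theorem perm3_invol : ∀ a b : Equiv.Perm (Fin 3), b * b * b = 1 → b ≠ 1 → a * a = 1 → a ≠ 1 →
    ∀ c, c * c = 1 → c ≠ 1 → c = a ∨ b * c * b⁻¹ = a ∨ b * b * c * (b * b)⁻¹ = a := by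
  decide +kernel

namespace Ctx

variable {z : G} {E : Subgroup G} {e : Fin 4 → G} {K : Ctx z E e} {n r x : G}

/-- `U` modulo `Z₀`, as a relation. -/
def Cong (K : Ctx z E e) (u v : G) : Prop := u⁻¹ * v ∈ K.Z0

theorem Z0_conj_CC (K : Ctx z E e) {g a : G} (hg : g ∈ CC z e) (ha : a ∈ K.Z0) : g * a * g⁻¹ = a := by
  rw [(K.Z0_central ha hg).eq, mul_inv_cancel_right]

theorem cong_refl (K : Ctx z E e) (u : G) : Cong K u u := by simp [Cong, one_mem]

theorem cong_symm (K : Ctx z E e) {u v : G} (h : Cong K u v) : Cong K v u := by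
  have := K.Z0.inv_mem h
  rwa [mul_inv_rev, inv_inv] at this

theorem cong_trans (K : Ctx z E e) {u v w : G} (h : Cong K u v) (h' : Cong K v w) : Cong K u w := by
  have := K.Z0.mul_mem h h'
  rwa [mul_assoc, mul_inv_cancel_left] at this

theorem cong_mul (K : Ctx z E e) {u v u' v' : G} (hv : v ∈ CC z e) (h : Cong K u u') (h' : Cong K v v') :
    Cong K (u * v) (u' * v') := by
  show (u * v)⁻¹ * (u' * v') ∈ K.Z0
  rw [show (u * v)⁻¹ * (u' * v') = v⁻¹ * (u⁻¹ * u') * v⁻¹⁻¹ * (v⁻¹ * v') by group,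
    K.Z0_conj_CC (inv_mem hv) h]
  exact mul_mem h h'

theorem comm_mem_Z0 (K : Ctx z E e) {u v : G} (hu : u ∈ K.U) (hv : v ∈ K.U) : Cong K (u * v) (v * u) := by
  show (u * v)⁻¹ * (v * u) ∈ K.Z0
  have e1 : (u * v)⁻¹ * (v * u) = v⁻¹ * (u⁻¹ * u⁻¹) * v⁻¹⁻¹ * (v⁻¹ * v⁻¹) * ((v * u) * (v * u))  := by
    have h1 := K.Z0_conj_CC (inv_mem hv.1) (K.U_sq (inv_mem hu))
    rw [h1]
    have h2 : Commute u⁻¹ (v⁻¹ * v⁻¹) := K.Z0_central (K.U_sq (inv_mem hv)) (inv_mem hu.1)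
    calc (u * v)⁻¹ * (v * u) = v⁻¹ * u⁻¹ * v * u := by group
      _ = v⁻¹ * (u⁻¹ * u⁻¹ * (u⁻¹)⁻¹) * v * u := by group
      _ = _ := by
        have h3 : Commute v⁻¹ (u⁻¹ * u⁻¹) := K.Z0_central (K.U_sq (inv_mem hu)) (inv_mem hv.1)
        calc v⁻¹ * (u⁻¹ * u⁻¹ * (u⁻¹)⁻¹) * v * u = (v⁻¹ * (u⁻¹ * u⁻¹)) * (u * v * u) := by group
          _ = u⁻¹ * u⁻¹ * v⁻¹ * (u * v * u) := by rw [h3.eq]
          _ = u⁻¹ * u⁻¹ * v⁻¹ * v⁻¹ * (v * u * v * u) := by group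
          _ = u⁻¹ * u⁻¹ * (v⁻¹ * v⁻¹) * (v * u * (v * u)) := by group
  rw [e1, K.Z0_conj_CC (inv_mem hv.1) (K.U_sq (inv_mem hu))]
  exact mul_mem (mul_mem (K.U_sq (inv_mem hu)) (K.U_sq (inv_mem hv))) (K.U_sq (mul_mem hv hu))

theorem cong_of_sq (K : Ctx z E e) {u : G} (hu : u ∈ K.U) : Cong K u⁻¹ u := by
  show u⁻¹⁻¹ * u ∈ K.Z0
  rw [inv_inv]; exact K.U_sq hu

/-- The fixed points of `g` in a coset of `Z₀`. -/
theorem fixed_lift (K : Ctx z E e) {g u : G} (hg3 : g * g * g = 1)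
    (hgz : ∀ a ∈ K.Z0, g * a * g⁻¹ ∈ K.Z0) (hu : u ∈ K.U) (hc : Cong K u (g * u * g⁻¹)) :
    ∃ v ∈ K.U, Cong K u v ∧ g * v * g⁻¹ = v := by
  classical
  haveI := Fintype.ofFinite K.Z0
  let S : Finset G := (Finset.univ : Finset K.Z0).image fun a : K.Z0 => u * (a : G)
  have hS : ∀ y ∈ S, g * y * g⁻¹ ∈ S := fun y hy => by
    obtain ⟨a, -, rfl⟩ := Finset.mem_image.1 hy
    refine Finset.mem_image.2 ⟨⟨u⁻¹ * (g * u * g⁻¹) * (g * a * g⁻¹), mul_mem hc (hgz a a.2)⟩,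
      Finset.mem_univ _, ?_⟩
    show u * (u⁻¹ * (g * u * g⁻¹) * (g * a * g⁻¹)) = _
    group
  have hcard : S.card = 4 := by
    rw [Finset.card_image_of_injective _ (fun a b h => Subtype.ext (mul_left_cancel h)), Finset.card_univ,
      ← Nat.card_eq_fintype_card]
    show Nat.card ({a | a = 1 ∨ a = z ∨ a = t0 z e ∨ a = t0 z e * z} : Set G) = 4
    rw [Nat.card_coe_set_eq, show {a : G | a = 1 ∨ a = z ∨ a = t0 z e ∨ a = t0 z e * z} =
      ↑({1, z, t0 z e, t0 z e * z} : Finset G) by ext; simp, Set.ncard_coe_finset]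
    have := K.frame.extra.z_ne
    have := K.t0_ne_one
    have := K.t0_ne_z
    have : t0 z e * z ≠ 1 := fun h => K.t0_ne_z (mul_right_cancel (h.trans K.sq_z.symm))
    have : t0 z e * z ≠ z := fun h => K.t0_ne_one (mul_eq_right.1 h)
    have : t0 z e * z ≠ t0 z e := fun h => K.frame.extra.z_ne (mul_eq_left.1 h)
    rw [Finset.card_insert_of_notMem, Finset.card_insert_of_notMem, Finset.card_pair] <;> simp <;> tauto
  obtain ⟨v, hv, hfix⟩ := fixed_in_set g hg3 S hS (by rw [hcard]; norm_num)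
  obtain ⟨a, -, rfl⟩ := Finset.mem_image.1 hv
  exact ⟨u * a, mul_mem hu (K.Z0_le_U a.2), by
    show u⁻¹ * (u * a) ∈ K.Z0
    rw [inv_mul_cancel_left]; exact a.2, hfix⟩

namespace NG

theorem conj_n_Z0 (h : NG K n r x) {a : G} (ha : a ∈ K.Z0) : n * a * n⁻¹ ∈ K.Z0 := by
  rcases ha with rfl | rfl | rfl | rfl
  · exact Or.inl (by group)
  · exact Or.inr (Or.inr (Or.inl h.cyc.1))
  · exact Or.inr (Or.inr (Or.inr h.cyc.2))
  · exact Or.inr (Or.inl (K.cyc_t0z h.cyc))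

theorem x_inv (h : NG K n r x) : x⁻¹ = x := inv_eq_of_mul_eq_one_right h.x2

theorem r_inv (h : NG K n r x) : r⁻¹ = r * r := inv_eq_of_mul_eq_one_right (by rw [← mul_assoc, h.r3])

theorem n_inv (h : NG K n r x) : n⁻¹ = n * n := inv_eq_of_mul_eq_one_right (by rw [← mul_assoc, h.n3])

theorem conj_U_CC (h : NG K n r x) {g u : G} (hg : g ∈ CC z e) (hu : u ∈ K.U) : g * u * g⁻¹ ∈ K.U := by
  refine ⟨mul_mem (mul_mem hg hu.1) (inv_mem hg), ?_⟩
  rw [K.rho_mul (mul_mem hg hu.1) (inv_mem hg), K.rho_mul hg hu.1, hu.2, mul_one, K.rho_inv hg, mul_inv_cancel]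

theorem conj_U_n (h : NG K n r x) {u : G} (hu : u ∈ K.U) : n * u * n⁻¹ ∈ K.U := K.cyc_conj_U h.cyc hu

/-- Only `Z₀` is fixed by `r` modulo `Z₀`. -/
theorem r_fixed (h : NG K n r x) {u : G} (hu : u ∈ K.U) (hc : Cong K u (r * u * r⁻¹)) : u ∈ K.Z0 := by
  have F := K.frame
  have hsE := F.sig_mem_E (K.Z0_le_E hc)
  rw [F.sig_mul (inv_mem hu.1.1) (mul_mem (mul_mem h.r_mem.1 hu.1.1) (inv_mem h.r_mem.1)), F.sig_inv hu.1.1,
    F.sig_mul (mul_mem h.r_mem.1 hu.1.1) (inv_mem h.r_mem.1), F.sig_mul h.r_mem.1 hu.1.1,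
    F.sig_inv h.r_mem.1, inv_mul_eq_one] at hsE
  have huE : u ∈ E := by
    rcases K.U_sig hu with s | s
    · exact F.mem_E_of_sig hu.1.1 s
    · exact absurd hsE.symm (pairing_three_cent _ _ h.rho_r.1 h.rho_r.2 s)
  obtain ⟨m, hm, hme⟩ := F.exists_el huE
  obtain ⟨t, ht, hte⟩ := F.exists_el (K.Z0_le_E hc)
  have h15 : Model.mul m 15 = Model.mul 15 m := F.el_inj (Model.mul_lt m hm 15 (by norm_num))
    (Model.mul_lt 15 (by norm_num) m hm)
    (by rw [← F.el_mul hm (by norm_num), ← F.el_mul (by norm_num) hm, hme]; exact (K.CC_t0 hu.1).eq)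
  have htl : t ∈ [0, 15, 16, 31] := by
    refine ptype_tables t ht ?_ ?_
    · exact F.el_inj (Model.mul_lt t ht 15 (by norm_num)) (Model.mul_lt 15 (by norm_num) t ht)
        (by rw [← F.el_mul ht (by norm_num), ← F.el_mul (by norm_num) ht, hte]; exact (K.CC_t0 (K.Z0_le_CC hc)).eq)
    · exact F.el_inj (Model.mul_lt t ht t ht) (by norm_num)
        (by rw [← F.el_mul ht ht, hte, Frame.el_zero]; exact K.Z0_sq hc)
  have hap : Model.ap (img z e r) m = Model.mul m t := by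
    refine F.el_inj (Model.ap_lt _ (F.img_mem h.r_mem.1) m hm) (Model.mul_lt m hm t ht) ?_
    rw [← F.conj_el' h.r_mem.1 hm, ← F.el_mul hm ht, hme, hte]
    group
  have := three_fpf _ h.rho_r.1 h.rho_r.2 _ (F.img_mem_lifts h.r_mem.1)
    ((F.commute_el_iff h.r_mem.1 (by norm_num)).1 (K.CC_t0 h.r_mem)) m hm h15 ⟨t, htl, hap⟩
  exact hme ▸ (K.el_Z0 this).2

theorem r_conj_cong (h : NG K n r x) {g u v : G} (hg : ∀ a ∈ K.Z0, g * a * g⁻¹ ∈ K.Z0) (hc : Cong K u v) :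
    Cong K (g * u * g⁻¹) (g * v * g⁻¹) := by
  show (g * u * g⁻¹)⁻¹ * (g * v * g⁻¹) ∈ K.Z0
  rw [show (g * u * g⁻¹)⁻¹ * (g * v * g⁻¹) = g * (u⁻¹ * v) * g⁻¹ by group]
  exact hg _ hc

theorem conj_r_Z0 (h : NG K n r x) {a : G} (ha : a ∈ K.Z0) : r * a * r⁻¹ ∈ K.Z0 := by
  rw [K.Z0_conj_CC h.r_mem ha]; exact ha

theorem conj_x_Z0 (h : NG K n r x) {a : G} (ha : a ∈ K.Z0) : x * a * x⁻¹ ∈ K.Z0 := by
  rw [K.Z0_conj_CC h.x_mem ha]; exact ha

/-- For a map of order three without fixed points, the orbit product is trivial modulo `Z₀`. -/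
theorem orbit_n (h : NG K n r x) {u : G} (hu : u ∈ K.U) :
    Cong K (n * (n * u * n⁻¹) * n⁻¹) ((n * u * n⁻¹) * u) := by
  set a := n * u * n⁻¹ with ha
  set b := n * a * n⁻¹ with hb
  have haU : a ∈ K.U := h.conj_U_n hu
  have hbU : b ∈ K.U := h.conj_U_n haU
  have hbn : n * b * n⁻¹ = u := by
    rw [hb, ha, show n * (n * (n * u * n⁻¹) * n⁻¹) * n⁻¹ = (n * n * n) * u * (n * n * n)⁻¹ by group, h.n3]
    group
  have hPU : u * a * b ∈ K.U := mul_mem (mul_mem hu haU) hbU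
  have hc : Cong K (u * a * b) (n * (u * a * b) * n⁻¹) := by
    rw [show n * (u * a * b) * n⁻¹ = (n * u * n⁻¹) * (n * a * n⁻¹) * (n * b * n⁻¹) by group, ← ha, ← hb, hbn,
      mul_assoc u a b]
    exact K.comm_mem_Z0 hu (mul_mem haU hbU)
  obtain ⟨v, hv, hcv, hfix⟩ := K.fixed_lift h.n3 (fun a ha => h.conj_n_Z0 ha) hPU hc
  have hv1 := h.fpf v hv hfix
  have hP : u * a * b ∈ K.Z0 := by
    have : (u * a * b)⁻¹ * 1 ∈ K.Z0 := hv1 ▸ hcv
    rw [mul_one] at this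
    exact inv_mem_iff.1 this
  -- `b ≡ (u a)⁻¹ ≡ a u`
  have h1 : Cong K b ((u * a)⁻¹) := by
    show b⁻¹ * (u * a)⁻¹ ∈ K.Z0
    rw [← mul_inv_rev]; exact inv_mem hP
  exact K.cong_trans h1 (K.cong_trans (K.cong_of_sq (mul_mem hu haU)) (K.comm_mem_Z0 hu haU))

theorem orbit_r (h : NG K n r x) {u : G} (hu : u ∈ K.U) :
    Cong K (r * (r * u * r⁻¹) * r⁻¹) ((r * u * r⁻¹) * u) := by
  set a := r * u * r⁻¹ with ha
  set b := r * a * r⁻¹ with hb
  have haU : a ∈ K.U := h.conj_U_CC h.r_mem hu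
  have hbU : b ∈ K.U := h.conj_U_CC h.r_mem haU
  have hbn : r * b * r⁻¹ = u := by
    rw [hb, ha, show r * (r * (r * u * r⁻¹) * r⁻¹) * r⁻¹ = (r * r * r) * u * (r * r * r)⁻¹ by group, h.r3]
    group
  have hPU : u * a * b ∈ K.U := mul_mem (mul_mem hu haU) hbU
  have hc : Cong K (u * a * b) (r * (u * a * b) * r⁻¹) := by
    rw [show r * (u * a * b) * r⁻¹ = (r * u * r⁻¹) * (r * a * r⁻¹) * (r * b * r⁻¹) by group, ← ha, ← hb, hbn,
      mul_assoc u a b]
    exact K.comm_mem_Z0 hu (mul_mem haU hbU)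
  have hP := h.r_fixed hPU hc
  have h1 : Cong K b ((u * a)⁻¹) := by
    show b⁻¹ * (u * a)⁻¹ ∈ K.Z0
    rw [← mul_inv_rev]; exact inv_mem hP
  exact K.cong_trans h1 (K.cong_trans (K.cong_of_sq (mul_mem hu haU)) (K.comm_mem_Z0 hu haU))

theorem m3 (h : NG K n r x) : n * r * (n * r) * (n * r) = 1 := by
  have e1 := h.nr
  calc n * r * (n * r) * (n * r) = (n * r) ^ 3 := by rw [pow_succ, pow_two]
    _ = n ^ 3 * r ^ 3 := e1.mul_pow 3
    _ = 1 := by rw [pow_succ, pow_two, h.n3, pow_succ, pow_two, h.r3, one_mul]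

theorem swap_x (h : NG K n r x) : x * (n * r) * x = n * (r * r) := by
  rw [← h.xrx]
  calc x * (n * r) * x = (x * n) * r * x := by group
    _ = (n * x) * r * x := by rw [h.nx.eq]
    _ = n * (x * r * x) := by group

theorem conj_m_Z0 (h : NG K n r x) {a : G} (ha : a ∈ K.Z0) : n * r * a * (n * r)⁻¹ ∈ K.Z0 := by
  rw [show n * r * a * (n * r)⁻¹ = n * (r * a * r⁻¹) * n⁻¹ by group]
  exact h.conj_n_Z0 (h.conj_r_Z0 ha)

theorem conj_U_m (h : NG K n r x) {u : G} (hu : u ∈ K.U) : n * r * u * (n * r)⁻¹ ∈ K.U := by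
  rw [show n * r * u * (n * r)⁻¹ = n * (r * u * r⁻¹) * n⁻¹ by group]
  exact h.conj_U_n (h.conj_U_CC h.r_mem hu)

theorem m_fixed_Z0 (h : NG K n r x) {a : G} (ha : a ∈ K.Z0) (hf : n * r * a * (n * r)⁻¹ = a) : a = 1 := by
  refine K.n_fixes_Z0 h.cyc ha ?_
  rw [show n * r * a * (n * r)⁻¹ = n * (r * a * r⁻¹) * n⁻¹ by group, K.Z0_conj_CC h.r_mem ha] at hf
  exact hf

/-- Some element outside `Z₀` is fixed by `nr` modulo `Z₀`. -/
theorem exists_m_fixed (h : NG K n r x) : ∃ u ∈ K.U, u ∉ K.Z0 ∧ Cong K u (n * r * u * (n * r)⁻¹) := by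
  by_contra hne
  push Not at hne
  have key : ∀ u ∈ K.U, Cong K (n * u * n⁻¹) (r * u * r⁻¹) := by
    intro u hu
    set a := n * u * n⁻¹ with ha
    set b := r * u * r⁻¹ with hb
    have haU : a ∈ K.U := h.conj_U_n hu
    have hbU : b ∈ K.U := h.conj_U_CC h.r_mem hu
    set c := r * a * r⁻¹ with hc
    have hcU : c ∈ K.U := h.conj_U_CC h.r_mem haU
    have hnb : n * b * n⁻¹ = c := by
      rw [hb, hc, ha, show n * (r * u * r⁻¹) * n⁻¹ = (n * r) * u * (n * r)⁻¹ by group, h.nr.eq]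
      group
    have hnaU : n * a * n⁻¹ ∈ K.U := h.conj_U_n haU
    set a2 := n * a * n⁻¹ with ha2
    -- `n (a b)` and `r² (a b)` agree modulo `Z₀`
    have e1 : Cong K (n * (a * b) * n⁻¹) (a * u * c) := by
      rw [show n * (a * b) * n⁻¹ = (n * a * n⁻¹) * (n * b * n⁻¹) by group, hnb]
      exact K.cong_mul hcU.1 (h.orbit_n hu) (K.cong_refl c)
    have hrr : r * b * r⁻¹ ∈ K.U := h.conj_U_CC h.r_mem hbU
    have e2 : Cong K (r * (r * (a * b) * r⁻¹) * r⁻¹) (c * a * u) := by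
      rw [show r * (r * (a * b) * r⁻¹) * r⁻¹ = (r * (r * a * r⁻¹) * r⁻¹) * (r * (r * b * r⁻¹) * r⁻¹) by group,
        ← hc, show r * (r * b * r⁻¹) * r⁻¹ = u by
          rw [hb, show r * (r * (r * u * r⁻¹) * r⁻¹) * r⁻¹ = (r * r * r) * u * (r * r * r)⁻¹ by group, h.r3]
          group]
      exact K.cong_mul hu.1 (h.orbit_r haU) (K.cong_refl u)
    have e12 : Cong K (a * u * c) (c * a * u) := by
      rw [mul_assoc c]; exact K.comm_mem_Z0 (mul_mem haU hu) hcU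
    have e3 := K.cong_trans e1 (K.cong_trans e12 (K.cong_symm e2))
    -- so `a b` is fixed by `nr`
    have hw : a * b ∈ K.U := mul_mem haU hbU
    have hm : Cong K (a * b) (n * r * (a * b) * (n * r)⁻¹) := by
      have e4 := h.r_conj_cong (g := r) (fun a ha => h.conj_r_Z0 ha) e3
      rw [show r * (r * (r * (a * b) * r⁻¹) * r⁻¹) * r⁻¹ = (r * r * r) * (a * b) * (r * r * r)⁻¹ by group, h.r3,
        show r * (n * (a * b) * n⁻¹) * r⁻¹ = (r * n) * (a * b) * (r * n)⁻¹ by group, ← h.nr.eq, one_mul,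
        inv_one, mul_one] at e4
      exact K.cong_symm e4
    have hab : a * b ∈ K.Z0 := by
      by_contra hab
      exact hne _ hw hab hm
    have : Cong K a⁻¹ b := by
      show a⁻¹⁻¹ * b ∈ K.Z0
      rw [inv_inv]; exact hab
    exact K.cong_trans (K.cong_symm (K.cong_of_sq haU)) this
  have hall : ∀ u ∈ K.U, u ∈ K.Z0 := by
    intro u hu
    have h1 := key _ (h.conj_U_CC h.x_mem hu)
    have hxr : x * (r * r) = r * x := by
      calc x * (r * r) = x * (x * r * x) := by rw [h.xrx]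
        _ = (x * x) * (r * x) := by group
        _ = r * x := by rw [h.x2, one_mul]
    rw [show n * (x * u * x⁻¹) * n⁻¹ = (n * x) * u * (n * x)⁻¹ by group, h.nx.eq,
      show r * (x * u * x⁻¹) * r⁻¹ = (r * x) * u * (r * x)⁻¹ by group, ← hxr] at h1
    have h2 := h.r_conj_cong (g := x) (fun a ha => h.conj_x_Z0 ha) h1
    rw [show x * ((x * n) * u * (x * n)⁻¹) * x⁻¹ = (x * x) * (n * u * n⁻¹) * (x * x)⁻¹ by group,
      show x * ((x * (r * r)) * u * (x * (r * r))⁻¹) * x⁻¹ = (x * x) * (r * (r * u * r⁻¹) * r⁻¹) * (x * x)⁻¹ by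
        group, h.x2, one_mul, one_mul, inv_one, mul_one, mul_one] at h2
    have h3 := K.cong_trans (K.cong_trans (K.cong_symm (key u hu)) h2) (h.orbit_r hu)
    -- `r u ≡ (r u) u`, so `u ∈ Z₀`
    have : (r * u * r⁻¹)⁻¹ * (r * u * r⁻¹ * u) ∈ K.Z0 := h3
    rwa [inv_mul_cancel_left] at this
  have hle : Nat.card K.U ≤ Nat.card K.Z0 :=
    Nat.card_le_card_of_injective (fun u : K.U => (⟨u, hall u u.2⟩ : K.Z0)) fun a b hab =>
      Subtype.ext (Subtype.mk.inj hab)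
  rw [K.card_U] at hle
  have : Nat.card K.Z0 ≤ 4 := by
    classical
    show Nat.card ({a | a = 1 ∨ a = z ∨ a = t0 z e ∨ a = t0 z e * z} : Set G) ≤ 4
    rw [Nat.card_coe_set_eq, show {a : G | a = 1 ∨ a = z ∨ a = t0 z e ∨ a = t0 z e * z} =
      ↑({1, z, t0 z e, t0 z e * z} : Finset G) by ext; simp, Set.ncard_coe_finset]
    exact Finset.card_le_four
  omega

end NG

/-- The first subgroup of order sixteen: the elements of `U` fixed by `m` modulo `Z₀`. -/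
def sixteen (K : Ctx z E e) (m : G) : Set G := {u | u ∈ K.U ∧ Cong K u (m * u * m⁻¹)}

/-- The fixed points of `m` in `U`. -/
def fixU (K : Ctx z E e) (m : G) : Subgroup G := K.U ⊓ centralizer ({m} : Set G)

namespace NG

theorem fix_mem (h : NG K n r x) {m a : G} : a ∈ fixU K m ↔ a ∈ K.U ∧ m * a * m⁻¹ = a := by
  rw [fixU, Subgroup.mem_inf, mem_centralizer_singleton_iff, mul_inv_eq_iff_eq_mul, eq_comm (a := a * m)]

theorem x_swap_fix (h : NG K n r x) {a : G} (ha : a ∈ fixU K (n * r)) : x * a * x⁻¹ ∈ fixU K (n * (r * r)) := by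
  obtain ⟨haU, hf⟩ := h.fix_mem.1 ha
  refine h.fix_mem.2 ⟨h.conj_U_CC h.x_mem haU, ?_⟩
  rw [← h.swap_x]
  conv_rhs => rw [← hf]
  rw [show x * (n * r) * x * (x * a * x⁻¹) * (x * (n * r) * x)⁻¹ =
    (x * (n * r)) * ((x * x) * a * (x * x)⁻¹) * (x * (n * r))⁻¹ by group, h.x2]
  group

theorem x_swap_fix' (h : NG K n r x) {a : G} (ha : a ∈ fixU K (n * (r * r))) : x * a * x⁻¹ ∈ fixU K (n * r) := by
  obtain ⟨haU, hf⟩ := h.fix_mem.1 ha
  refine h.fix_mem.2 ⟨h.conj_U_CC h.x_mem haU, ?_⟩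
  rw [← h.swap_x] at hf
  conv_rhs => rw [← hf]
  rw [show x * (x * (n * r) * x * a * (x * (n * r) * x)⁻¹) * x⁻¹ =
    (x * x) * (n * r * (x * a * x⁻¹) * (n * r)⁻¹) * (x * x)⁻¹ by group, h.x2]
  group

theorem fix_sq (h : NG K n r x) {a : G} (ha : a ∈ fixU K (n * r)) : a * a = 1 :=
  h.m_fixed_Z0 (K.U_sq (h.fix_mem.1 ha).1) (by rw [← conj_mul, (h.fix_mem.1 ha).2])

theorem fix_inf_Z0 (h : NG K n r x) {a : G} (ha : a ∈ fixU K (n * r)) (h0 : a ∈ K.Z0) : a = 1 :=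
  h.m_fixed_Z0 h0 (h.fix_mem.1 ha).2

theorem both_fixed (h : NG K n r x) {v : G} (hv : v ∈ K.U) (h1 : Cong K v (n * r * v * (n * r)⁻¹))
    (h2 : Cong K v (n * (r * r) * v * (n * (r * r))⁻¹)) : v ∈ K.Z0 := by
  refine h.r_fixed hv ?_
  have h3 := h.r_conj_cong (g := (n * r)⁻¹) (fun a ha => ?_) (K.cong_trans (K.cong_symm h1) h2)
  · rw [show (n * r)⁻¹ * (n * r * v * (n * r)⁻¹) * (n * r)⁻¹⁻¹ = v by group,
      show (n * r)⁻¹ * (n * (r * r) * v * (n * (r * r))⁻¹) * (n * r)⁻¹⁻¹ = r * v * r⁻¹ by group] at h3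
    exact h3
  · have hm := h.m3
    rw [show (n * r)⁻¹ = (n * r) * (n * r) from inv_eq_of_mul_eq_one_right (by rw [← mul_assoc, hm]),
      show n * r * (n * r) * a * (n * r * (n * r))⁻¹ = n * r * (n * r * a * (n * r)⁻¹) * (n * r)⁻¹ by group]
    exact h.conj_m_Z0 (h.conj_m_Z0 ha)

theorem cong_of_fix (h : NG K n r x) {m a : G} (ha : a ∈ fixU K m) : Cong K a (m * a * m⁻¹) := by
  rw [(h.fix_mem.1 ha).2]; exact K.cong_refl a

theorem r_fix_conj (h : NG K n r x) {a : G} (ha : a ∈ fixU K (n * r)) : r * a * r⁻¹ ∈ fixU K (n * r) := by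
  obtain ⟨haU, hf⟩ := h.fix_mem.1 ha
  refine h.fix_mem.2 ⟨h.conj_U_CC h.r_mem haU, ?_⟩
  conv_rhs => rw [← hf]
  rw [show n * r * (r * a * r⁻¹) * (n * r)⁻¹ = (n * r) * r * a * ((n * r) * r)⁻¹ by group,
    show r * (n * r * a * (n * r)⁻¹) * r⁻¹ = (r * n) * r * a * ((r * n) * r)⁻¹ by group, h.nr.eq]

theorem fix_unique (h : NG K n r x) {c c' a a' b b' : G} (hc : c ∈ K.Z0) (hc' : c' ∈ K.Z0)
    (ha : a ∈ fixU K (n * r)) (ha' : a' ∈ fixU K (n * r)) (hb : b ∈ fixU K (n * (r * r)))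
    (hb' : b' ∈ fixU K (n * (r * r))) (he : c * a * b = c' * a' * b') : c = c' ∧ a = a' ∧ b = b' := by
  have hA : a'⁻¹ * a ∈ fixU K (n * r) := mul_mem (inv_mem ha') ha
  have hB : b' * b⁻¹ ∈ fixU K (n * (r * r)) := mul_mem hb' (inv_mem hb)
  have hc0 : c'⁻¹ * c ∈ K.Z0 := mul_mem (inv_mem hc') hc
  have e1 : c'⁻¹ * c * (a'⁻¹ * a) = b' * b⁻¹ := by
    have hcm : Commute (c'⁻¹ * c) a'⁻¹ := (K.Z0_central hc0 (inv_mem (h.fix_mem.1 ha').1.1)).symm
    calc c'⁻¹ * c * (a'⁻¹ * a) = (c'⁻¹ * c * a'⁻¹) * a := by group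
      _ = (a'⁻¹ * (c'⁻¹ * c)) * a := by rw [hcm.eq]
      _ = a'⁻¹ * c'⁻¹ * (c * a * b) * b⁻¹ := by group
      _ = b' * b⁻¹ := by rw [he]; group
  have hAU := (h.fix_mem.1 hA).1
  have hcong : Cong K (a'⁻¹ * a) (b' * b⁻¹) := by
    show (a'⁻¹ * a)⁻¹ * (b' * b⁻¹) ∈ K.Z0
    rw [← e1, (K.Z0_central hc0 hAU.1).symm.eq, inv_mul_cancel_left]
    exact hc0
  have h0 : a'⁻¹ * a ∈ K.Z0 := by
    refine h.both_fixed hAU (h.cong_of_fix hA) ?_
    refine K.cong_trans hcong (K.cong_trans (h.cong_of_fix hB) (h.r_conj_cong (fun a ha => ?_) (K.cong_symm hcong)))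
    rw [show n * (r * r) * a * (n * (r * r))⁻¹ = n * (r * (r * a * r⁻¹) * r⁻¹) * n⁻¹ by group]
    exact h.conj_n_Z0 (h.conj_r_Z0 (h.conj_r_Z0 ha))
  have haa : a = a' := (inv_mul_eq_one.1 (h.fix_inf_Z0 hA h0)).symm
  subst haa
  rw [inv_mul_cancel, mul_one] at e1
  have hbb : b' * b⁻¹ = 1 := by
    have h1 : x * (b' * b⁻¹) * x⁻¹ ∈ fixU K (n * r) := h.x_swap_fix' hB
    have h2 : x * (b' * b⁻¹) * x⁻¹ ∈ K.Z0 := h.conj_x_Z0 (e1 ▸ hc0)
    exact conj_eq_one_iff.1 (h.fix_inf_Z0 h1 h2)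
  rw [hbb] at e1
  exact ⟨(inv_mul_eq_one.1 e1).symm, rfl, (mul_inv_eq_one.1 hbb).symm⟩

theorem card_Z0 (h : NG K n r x) : Nat.card K.Z0 = 4 := by
  classical
  show Nat.card ({a | a = 1 ∨ a = z ∨ a = t0 z e ∨ a = t0 z e * z} : Set G) = 4
  rw [Nat.card_coe_set_eq, show {a : G | a = 1 ∨ a = z ∨ a = t0 z e ∨ a = t0 z e * z} =
    ↑({1, z, t0 z e, t0 z e * z} : Finset G) by ext; simp, Set.ncard_coe_finset]
  have := K.frame.extra.z_ne
  have := K.t0_ne_one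
  have := K.t0_ne_z
  have : t0 z e * z ≠ 1 := fun h => K.t0_ne_z (mul_right_cancel (h.trans K.sq_z.symm))
  have : t0 z e * z ≠ z := fun h => K.t0_ne_one (mul_eq_right.1 h)
  have : t0 z e * z ≠ t0 z e := fun h => K.frame.extra.z_ne (mul_eq_left.1 h)
  rw [Finset.card_insert_of_notMem, Finset.card_insert_of_notMem, Finset.card_pair] <;> simp <;> tauto

theorem card_fix_eq (h : NG K n r x) : Nat.card (fixU K (n * (r * r))) = Nat.card (fixU K (n * r)) := by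
  refine Nat.card_congr
    { toFun := fun a => ⟨x * a * x⁻¹, h.x_swap_fix' a.2⟩
      invFun := fun a => ⟨x * a * x⁻¹, h.x_swap_fix a.2⟩
      left_inv := fun a => Subtype.ext ?_
      right_inv := fun a => Subtype.ext ?_ } <;>
  · show x * (x * (a : G) * x⁻¹) * x⁻¹ = a
    rw [show x * (x * (a : G) * x⁻¹) * x⁻¹ = (x * x) * a * (x * x)⁻¹ by group, h.x2]
    group

/-- The unique decomposition `U = Z₀ V_A V_B`. -/
theorem card_fix (h : NG K n r x) : Nat.card (fixU K (n * r)) = 4 := by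
  classical
  set V := fixU K (n * r) with hV
  have hle : Nat.card (K.Z0 × V × fixU K (n * (r * r))) ≤ Nat.card K.U := by
    refine Nat.card_le_card_of_injective
      (fun p => ⟨(p.1 : G) * p.2.1 * p.2.2, mul_mem (mul_mem (K.Z0_le_U p.1.2) (h.fix_mem.1 p.2.1.2).1)
        (h.fix_mem.1 p.2.2.2).1⟩) fun p q hpq => ?_
    obtain ⟨e1, e2, e3⟩ := h.fix_unique p.1.2 q.1.2 p.2.1.2 q.2.1.2 p.2.2.2 q.2.2.2
      (congrArg Subtype.val hpq)
    exact Prod.ext (Subtype.ext e1) (Prod.ext (Subtype.ext e2) (Subtype.ext e3))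
  rw [Nat.card_prod, Nat.card_prod, h.card_fix_eq, h.card_Z0, K.card_U] at hle
  have h4 : 4 ≤ Nat.card V := by
    haveI := Fintype.ofFinite V
    obtain ⟨u, hu, hu0, hc⟩ := h.exists_m_fixed
    obtain ⟨a, haU, hua, hfa⟩ := K.fixed_lift h.m3 (fun a ha => h.conj_m_Z0 ha) hu hc
    have ha : a ∈ V := h.fix_mem.2 ⟨haU, hfa⟩
    have ha1 : a ≠ 1 := fun e1 => hu0 (by
      have h1 : u⁻¹ * a ∈ K.Z0 := hua
      rw [e1, mul_one] at h1
      exact inv_mem_iff.1 h1)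
    have hne : r * a * r⁻¹ ≠ a := fun e1 => ha1 (h.fix_inf_Z0 ha (h.r_fixed haU (by rw [e1]; exact K.cong_refl a)))
    set b := r * a * r⁻¹ with hb
    have hne2 : r * b * r⁻¹ ≠ a := fun e1 => hne (by
      have e2 : r * (r * b * r⁻¹) * r⁻¹ = b := by rw [e1]
      rw [hb, show r * (r * (r * a * r⁻¹) * r⁻¹) * r⁻¹ = (r * r * r) * a * (r * r * r)⁻¹ by group, h.r3] at e2
      rw [hb, ← e2]; group)
    have hne3 : r * b * r⁻¹ ≠ b := fun e1 => hne (mul_left_cancel (mul_right_cancel e1))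
    have hconj1 : ∀ y : G, y ≠ 1 → r * y * r⁻¹ ≠ 1 := fun y hy e1 => hy (conj_eq_one_iff.1 e1)
    have hsub : ({1, a, b, r * b * r⁻¹} : Finset G) ⊆ Finset.univ.image (Subtype.val : V → G) := by
      intro y hy
      simp only [Finset.mem_insert, Finset.mem_singleton] at hy
      refine Finset.mem_image.2 ⟨⟨y, ?_⟩, Finset.mem_univ _, rfl⟩
      rcases hy with rfl | rfl | rfl | rfl
      · exact one_mem _
      · exact ha
      · exact h.r_fix_conj ha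
      · exact h.r_fix_conj (h.r_fix_conj ha)
    have hc4 : ({1, a, b, r * b * r⁻¹} : Finset G).card = 4 := by
      have := hconj1 a ha1
      have := hconj1 b (hconj1 a ha1)
      rw [Finset.card_insert_of_notMem, Finset.card_insert_of_notMem, Finset.card_pair] <;>
        simp <;> tauto
    have := (Finset.card_le_card hsub).trans Finset.card_image_le
    rw [hc4, Finset.card_univ, ← Nat.card_eq_fintype_card] at this
    exact this
  nlinarith

theorem exists_dec (h : NG K n r x) {u : G} (hu : u ∈ K.U) :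
    ∃ c a b, c ∈ K.Z0 ∧ a ∈ fixU K (n * r) ∧ b ∈ fixU K (n * (r * r)) ∧ u = c * a * b := by
  classical
  let f : K.Z0 × fixU K (n * r) × fixU K (n * (r * r)) → K.U := fun p =>
    ⟨(p.1 : G) * p.2.1 * p.2.2, mul_mem (mul_mem (K.Z0_le_U p.1.2) (h.fix_mem.1 p.2.1.2).1)
      (h.fix_mem.1 p.2.2.2).1⟩
  have hf : Function.Injective f := fun p q hpq => by
    obtain ⟨e1, e2, e3⟩ := h.fix_unique p.1.2 q.1.2 p.2.1.2 q.2.1.2 p.2.2.2 q.2.2.2 (congrArg Subtype.val hpq)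
    exact Prod.ext (Subtype.ext e1) (Prod.ext (Subtype.ext e2) (Subtype.ext e3))
  have hbij := (Nat.bijective_iff_injective_and_card f).2 ⟨hf, by
    rw [Nat.card_prod, Nat.card_prod, h.card_fix_eq, h.card_fix, h.card_Z0, K.card_U]⟩
  obtain ⟨p, hp⟩ := hbij.2 ⟨u, hu⟩
  exact ⟨_, _, _, p.1.2, p.2.1.2, p.2.2.2, (congrArg Subtype.val hp).symm⟩

theorem fixB_sq (h : NG K n r x) {b : G} (hb : b ∈ fixU K (n * (r * r))) : b * b = 1 := by
  have := h.fix_sq (h.x_swap_fix' hb)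
  rw [conj_mul] at this
  exact conj_eq_one_iff.1 this

theorem fixB_inf_Z0 (h : NG K n r x) {b : G} (hb : b ∈ fixU K (n * (r * r))) (h0 : b ∈ K.Z0) : b = 1 :=
  conj_eq_one_iff.1 (h.fix_inf_Z0 (h.x_swap_fix' hb) (h.conj_x_Z0 h0))

/-- Every involution of `U` lies in `Z₀V_A` or in `Z₀V_B`. -/
theorem invol_dec (h : NG K n r x) {u : G} (hu : u ∈ K.U) (h2 : u * u = 1) :
    ∃ c a, c ∈ K.Z0 ∧ u = c * a ∧ (a ∈ fixU K (n * r) ∨ a ∈ fixU K (n * (r * r))) := by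
  classical
  rcases K.U_invol hu h2 with r' | hp
  · exact ⟨u, 1, r', (mul_one u).symm, Or.inl (one_mem _)⟩
  haveI := Fintype.ofFinite G
  let D : Finset G := Finset.univ.filter fun y => y ∈ centralizer ({z} : Set G) ∧ IsDT (sig z e y) ∧ y * y = 1
  have hD : D.card ≤ 24 := by
    refine (Finset.card_le_mul_card_image (f := sig z e) D 8 fun p hp' => ?_).trans ?_
    · obtain ⟨y0, hy0, rfl⟩ := Finset.mem_image.1 hp'
      obtain ⟨hy0C, hy0p, hy02⟩ := (Finset.mem_filter.1 hy0).2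
      refine le_trans ?_ (K.dt_coset_le hy0C hy0p hy02)
      rw [← Set.ncard_coe_finset]
      refine Set.ncard_le_ncard_of_injOn (fun y => y0⁻¹ * y) (fun y hy => ?_) (fun a _ b _ hab => mul_left_cancel hab)
      obtain ⟨hy1, hye⟩ := Finset.mem_filter.1 hy
      obtain ⟨hyC, -, hy2⟩ := (Finset.mem_filter.1 hy1).2
      refine ⟨K.frame.mem_E_of_sig (mul_mem (inv_mem hy0C) hyC) ?_, by rw [mul_inv_cancel_left, hy2]⟩
      rw [K.frame.sig_mul (inv_mem hy0C) hyC, K.frame.sig_inv hy0C, hye, inv_mul_cancel]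
    · have : (D.image (sig z e)).card ≤ 3 := by
        refine le_trans (Finset.card_le_card (t := Finset.univ.filter fun p => IsDT p) fun p hp' => ?_)
          (le_of_eq (by decide +kernel))
        obtain ⟨y, hy, rfl⟩ := Finset.mem_image.1 hp'
        exact Finset.mem_filter.2 ⟨Finset.mem_univ _, (Finset.mem_filter.1 hy).2.2.1⟩
      omega
  let VA := (Finset.univ : Finset G).filter fun a => a ∈ fixU K (n * r) ∧ a ≠ 1
  let VB := (Finset.univ : Finset G).filter fun a => a ∈ fixU K (n * (r * r)) ∧ a ≠ 1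
  let Z := (Finset.univ : Finset G).filter fun a => a ∈ K.Z0
  have hcnt : ∀ m, Nat.card (fixU K m) = 4 →
      ((Finset.univ : Finset G).filter fun a => a ∈ fixU K m ∧ a ≠ 1).card = 3 := by
    intro m hm
    have e : ((Finset.univ : Finset G).filter fun a => a ∈ fixU K m).card = 4 := by
      rw [← hm, ← Nat.card_eq_finsetCard]
      exact Nat.card_congr (Equiv.subtypeEquivRight fun a => by simp)
    rw [← Finset.filter_filter, Finset.filter_ne' , Finset.card_erase_of_mem (by simp [one_mem]), e]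
  have hZ : Z.card = 4 := by
    have := h.card_Z0
    rw [← this, ← Nat.card_eq_finsetCard]
    exact Nat.card_congr (Equiv.subtypeEquivRight fun a => by simp [Z])
  let S := (Z ×ˢ (VA ∪ VB)).image fun p => p.1 * p.2
  have hdisj : Disjoint VA VB := by
    refine Finset.disjoint_left.2 fun y hy hy' => (Finset.mem_filter.1 hy).2.2 ?_
    have hA := (Finset.mem_filter.1 hy).2.1
    have := h.fix_unique (one_mem _) (one_mem _) hA (one_mem (fixU K (n * r))) (one_mem _)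
      (Finset.mem_filter.1 hy').2.1 (by simp)
    exact this.2.1
  have hSc : S.card = 24 := by
    rw [Finset.card_image_of_injOn, Finset.card_product, Finset.card_union_of_disjoint hdisj,
      hcnt _ h.card_fix, hcnt _ (h.card_fix_eq.trans h.card_fix), hZ]
    rintro ⟨c, a⟩ hp ⟨c', a'⟩ hq he
    obtain ⟨hc, ha⟩ := Finset.mem_product.1 hp
    obtain ⟨hc', ha'⟩ := Finset.mem_product.1 hq
    have hc0 := (Finset.mem_filter.1 hc).2
    have hc0' := (Finset.mem_filter.1 hc').2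
    rcases Finset.mem_union.1 ha with s | s <;> rcases Finset.mem_union.1 ha' with t | t <;>
      obtain ⟨s1, s2⟩ := (Finset.mem_filter.1 s).2 <;> obtain ⟨t1, t2⟩ := (Finset.mem_filter.1 t).2
    · obtain ⟨q1, q2, -⟩ := h.fix_unique hc0 hc0' s1 t1 (one_mem _) (one_mem _) (by simpa using he)
      exact Prod.ext q1 q2
    · exact absurd (h.fix_unique hc0 hc0' s1 (one_mem _) (one_mem _) t1 (by simpa using he)).2.1 s2
    · exact absurd (h.fix_unique hc0 hc0' (one_mem _) t1 s1 (one_mem _) (by simpa using he)).2.1 t2.symm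
    · obtain ⟨q1, -, q3⟩ := h.fix_unique hc0 hc0' (one_mem _) (one_mem _) s1 t1 (by simpa using he)
      exact Prod.ext q1 q3
  have hSD : S ⊆ D := by
    intro y hy
    obtain ⟨⟨c, a⟩, hp', rfl⟩ := Finset.mem_image.1 hy
    obtain ⟨hc, ha⟩ := Finset.mem_product.1 hp'
    have hc0 := (Finset.mem_filter.1 hc).2
    obtain ⟨haU, ha2, hane⟩ : a ∈ K.U ∧ a * a = 1 ∧ a ∉ K.Z0 := by
      rcases Finset.mem_union.1 ha with s | s <;> obtain ⟨s1, s2⟩ := (Finset.mem_filter.1 s).2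
      · exact ⟨(h.fix_mem.1 s1).1, h.fix_sq s1, fun h0 => s2 (h.fix_inf_Z0 s1 h0)⟩
      · exact ⟨(h.fix_mem.1 s1).1, h.fixB_sq s1, fun h0 => s2 (h.fixB_inf_Z0 s1 h0)⟩
    have hyU : c * a ∈ K.U := mul_mem (K.Z0_le_U hc0) haU
    have hy2 : c * a * (c * a) = 1 := by
      rw [(K.Z0_central hc0 haU.1).mul_mul_mul_comm, K.Z0_sq hc0, ha2, one_mul]
    refine Finset.mem_filter.2 ⟨Finset.mem_univ _, hyU.1.1, (K.U_invol hyU hy2).resolve_left fun h0 => hane ?_, hy2⟩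
    have := mul_mem (inv_mem hc0) h0
    rwa [inv_mul_cancel_left] at this
  have heq := Finset.eq_of_subset_of_card_le hSD (by omega)
  obtain ⟨⟨c, a⟩, hp', rfl⟩ := Finset.mem_image.1
    (heq.symm ▸ Finset.mem_filter.2 ⟨Finset.mem_univ _, hu.1.1, hp, h2⟩ : u ∈ S)
  obtain ⟨hc, ha⟩ := Finset.mem_product.1 hp'
  refine ⟨c, a, (Finset.mem_filter.1 hc).2, rfl, ?_⟩
  rcases Finset.mem_union.1 ha with s | s
  · exact Or.inl (Finset.mem_filter.1 s).2.1
  · exact Or.inr (Finset.mem_filter.1 s).2.1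

end NG

end Ctx

end CfsgLib.Recognition.PSLThreeFourAut
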