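import Cfsg.Agent.Lib.Recognition.PSLThreeFourAut.Order

/-!
# The case that `z` is not conjugate into `U ∖ Z₀`
-/

set_option autoImplicit false
set_option maxRecDepth 100000
set_option linter.unusedSectionVars false

namespace CfsgLib.Recognition.PSLThreeFourAut

open Subgroup CfsgLib.Involution FourSplit

variable {G : Type*} [Group G] [Finite G]

namespace Ctx.NG

variable {z : G} {E : Subgroup G} {e : Fin 4 → G} {K : Ctx z E e} {n r x : G}

/-- The elements of `G₂` normalising `{z, t₀, t₀z}` and of order two are in `U`. -/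
theorem invol_norm_U (h : NG K n r x) {v : G} (hv : v ∈ h.G2) (h2 : v * v = 1)
    (h0 : v * z * v⁻¹ ∈ K.Z0) (h1 : v * t0 z e * v⁻¹ ∈ K.Z0) : v ∈ K.U := by
  classical
  have hzc : ∀ c ∈ K.Z0, v * c * v⁻¹ ∈ K.Z0 := fun c hc => by
    rcases (K.mem_Z0).1 hc with q | q | q | q <;> rw [q]
    · rw [mul_one, mul_inv_cancel]; exact one_mem _
    · exact h0
    · exact h1
    · rw [← conj_mul]; exact mul_mem h1 h0
  have hsw : ∀ a, v * (v * a * v⁻¹) * v⁻¹ = a := fun a => by
    rw [show v * (v * a * v⁻¹) * v⁻¹ = (v * v) * a * (v * v)⁻¹ by group, h2, one_mul, inv_one, mul_one]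
  obtain ⟨c, hc, hc1, hfix⟩ : ∃ c ∈ K.Z0, c ≠ 1 ∧ v * c * v⁻¹ = c := by
    rcases (K.mem_Z0).1 h0 with q | q | q | q
    · exact absurd (conj_eq_one_iff.1 q) K.frame.extra.z_ne
    · exact ⟨z, (K.mem_Z0).2 (Or.inr (Or.inl rfl)), K.frame.extra.z_ne, q⟩
    · refine ⟨t0 z e * z, (K.mem_Z0).2 (Or.inr (Or.inr (Or.inr rfl))),
        fun e1 => K.t0_ne_z (by rw [← inv_eq_of_mul_eq_one_right K.sq_z]; exact eq_inv_of_mul_eq_one_left e1), ?_⟩
      have e1 := hsw z
      rw [q] at e1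
      rw [← conj_mul, q, e1, K.z_t0.eq]
    · refine ⟨t0 z e, (K.mem_Z0).2 (Or.inr (Or.inr (Or.inl rfl))), K.t0_ne_one, ?_⟩
      have e1 := hsw z
      rw [q, ← conj_mul, q] at e1
      have e2 : v * t0 z e * v⁻¹ = z * (t0 z e * z)⁻¹ := eq_mul_inv_of_mul_eq e1
      rw [e2, mul_inv_rev, ← mul_assoc, inv_eq_of_mul_eq_one_right K.sq_z, K.sq_z, one_mul,
        inv_eq_of_mul_eq_one_right K.t0_sq]
  have rot : n * (t0 z e * z) * n⁻¹ = z := K.cyc_t0z h.cyc
  have main : ∀ w ∈ h.G2, w * w = 1 → w * z * w⁻¹ = z → w ∈ K.U := fun w hw hw2 hwz =>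
    h.G2_invol_C hw (mem_centralizer_singleton_iff.2 (mul_inv_eq_iff_eq_mul.1 hwz)) hw2
  have pull : ∀ g u : G, g ∈ h.G2 → g * c * g⁻¹ = z → u = g * v * g⁻¹ → u ∈ K.U := fun g u hg hgc hu => by
    refine main u (hu ▸ h.G2_normal.conj_mem v hv g) (by rw [hu, conj_mul, h2, mul_one, mul_inv_cancel]) ?_
    rw [hu, ← hgc, show g * v * g⁻¹ * (g * c * g⁻¹) * (g * v * g⁻¹)⁻¹ = g * (v * c * v⁻¹) * g⁻¹ by group, hfix]
  rcases (K.mem_Z0).1 hc with q | q | q | q
  · exact absurd q hc1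
  · exact pull 1 v (one_mem _) (by rw [q]; group) (by group)
  · have hu := pull (n * n) _ (mul_mem h.n_mem_G2 h.n_mem_G2)
      (by rw [q, show n * n * t0 z e * (n * n)⁻¹ = n * (n * t0 z e * n⁻¹) * n⁻¹ by group, h.cyc.2, rot]) rfl
    have := h.conj_U_n hu
    rwa [show n * (n * n * v * (n * n)⁻¹) * n⁻¹ = (n * n * n) * v * (n * n * n)⁻¹ by group, h.n3, one_mul,
      inv_one, mul_one] at this
  · have hu := pull n _ h.n_mem_G2 (by rw [q, rot]) rfl
    have := h.conj_U_n (h.conj_U_n hu)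
    rwa [show n * (n * (n * v * n⁻¹) * n⁻¹) * n⁻¹ = (n * n * n) * v * (n * n * n)⁻¹ by group, h.n3, one_mul,
      inv_one, mul_one] at this

theorem solvable_of_class (h : NG K n r x) (hall : ∀ k, IsConj z k → k ∈ K.Z0) : Group.IsSolvable G := by
  classical
  haveI := Fintype.ofFinite G
  have hcl : ({u : G | IsConj z u} : Finset G) = {z, t0 z e, t0 z e * z} := by
    ext u
    simp only [Finset.mem_filter, Finset.mem_univ, true_and, Finset.mem_insert, Finset.mem_singleton]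
    constructor
    · intro hu
      rcases (K.mem_Z0).1 (hall u hu) with q | q
      · exact absurd q (h.z_sq_conj hu).2
      · exact q
    · intro hu
      refine h.Z0_conj ((K.mem_Z0).2 (Or.inr hu)) fun e1 => ?_
      rcases hu with q | q | q <;> rw [e1] at q
      · exact K.frame.extra.z_ne q.symm
      · exact K.t0_ne_one q.symm
      · exact K.t0_ne_z (by rw [← inv_eq_of_mul_eq_one_right K.sq_z]; exact eq_inv_of_mul_eq_one_left q.symm)
  have h3 : ({z, t0 z e, t0 z e * z} : Finset G).card = 3 := by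
    have e1 : z ≠ t0 z e * z := fun q => K.t0_ne_one (mul_eq_right.1 q.symm)
    have e2 : t0 z e ≠ t0 z e * z := fun q => K.frame.extra.z_ne (mul_eq_left.1 q.symm)
    simp [K.t0_ne_z.symm, e1, e2]
  have := Count.card_eq_class_mul (G := G) z
  rw [hcl, h3, K.card_C] at this
  exact Cfsg.Agent.S0144.result 2 3 8 2 Nat.prime_two Nat.prime_three (this.trans (by norm_num))

/-- The central involution of a pair from the classes of `z` and `a`. -/
theorem mid_conj (h : NG K n r x) {a : G} (ha : a ∈ A K n r) (ha0 : a ∉ K.Z0) (hza : ¬ IsConj z a) {k v w : G}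
    {i : ℕ} (hk : IsConj z k) (hv : IsConj a v) (hw : (k * v) ^ i = w) (h2 : w * w = 1) (h1 : w ≠ 1) :
    IsConj a w := by
  have hII := h.hII_of ha ha0 hza
  have hkG := h.G2_of_conj h.z_mem_G2 hk
  have hvG := h.G2_of_conj (h.U_le_G2 (h.A_le_U ha)) hv
  have hk2 := (h.z_sq_conj hk).1
  have hv2 : v * v = 1 := by
    obtain ⟨g, rfl⟩ := isConj_iff.1 hv
    rw [conj_mul, h.A_sq ha, mul_one, mul_inv_cancel]
  obtain ⟨u, hu, hu2, hwu⟩ := h.G2_invol_class (hw ▸ pow_mem (mul_mem hkG hvG) i) h2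
  rcases h.U_invol_class ha ha0 hu hu2 with q | ⟨g, -, he⟩
  · exfalso
    have hu1 : u ≠ 1 := fun e1 => h1 (by
      obtain ⟨g, hg⟩ := isConj_iff.1 hwu
      rw [e1] at hg
      exact conj_eq_one_iff.1 hg)
    have hzw : IsConj z w := (h.Z0_conj q hu1).trans hwu.symm
    obtain ⟨g, hg, he⟩ := h.conj_in_G2 hzw
    set k' := g⁻¹ * k * g with hk'
    set v' := g⁻¹ * v * g with hv'
    have ezz : z = g⁻¹ * w * g := by rw [← he]; group
    have hpow : (k' * v') ^ i = z := by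
      rw [hk', hv', show g⁻¹ * k * g * (g⁻¹ * v * g) = g⁻¹ * (k * v) * g⁻¹⁻¹ by group, _root_.conj_pow, hw, inv_inv,
        ezz]
    have k2 : k' * k' = 1 := by
      rw [hk', show g⁻¹ * k * g * (g⁻¹ * k * g) = g⁻¹ * (k * k) * g by group, hk2]; group
    have v2 : v' * v' = 1 := by
      rw [hv', show g⁻¹ * v * g * (g⁻¹ * v * g) = g⁻¹ * (v * v) * g by group, hv2]; group
    obtain ⟨hkz, hvz⟩ := commute_of_pow_eq k2 v2 K.sq_z hpow
    have hkU := h.G2_invol_C (mul_mem (mul_mem (inv_mem hg) hkG) hg) (mem_centralizer_singleton_iff.2 hkz.eq) k2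
    have hvU := h.G2_invol_C (mul_mem (mul_mem (inv_mem hg) hvG) hg) (mem_centralizer_singleton_iff.2 hvz.eq) v2
    have hkc : IsConj z k' := hk.trans (isConj_iff.2 ⟨g⁻¹, by rw [hk', inv_inv]⟩)
    have hvc : IsConj a v' := hv.trans (isConj_iff.2 ⟨g⁻¹, by rw [hv', inv_inv]⟩)
    have hk0 : k' ∈ K.Z0 := hII _ hkU hkc
    have hcom : Commute k' v' := (K.Z0_central hk0 hvU.1).symm
    have p2 : k' * v' * (k' * v') = 1 := by rw [hcom.symm.mul_mul_mul_comm, k2, v2, one_mul]
    rw [← Nat.mod_add_div i 2, pow_add, pow_mul, pow_two, p2, one_pow, mul_one] at hpow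
    rcases Nat.mod_two_eq_zero_or_one i with r' | r' <;> rw [r'] at hpow
    · rw [pow_zero] at hpow
      exact K.frame.extra.z_ne hpow.symm
    · rw [pow_one] at hpow
      have hv0 : v' ∈ K.Z0 := by
        rw [show v' = k'⁻¹ * (k' * v') by group, hpow]
        exact mul_mem (inv_mem hk0) ((K.mem_Z0).2 (Or.inr (Or.inl rfl)))
      have hv1 : v' ≠ 1 := fun e1 => by
        rw [e1] at hvc
        obtain ⟨c, hc⟩ := isConj_iff.1 hvc
        exact ha0 (by rw [conj_eq_one_iff.1 hc]; exact one_mem _)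
      exact hza ((h.Z0_conj hv0 hv1).trans hvc.symm)
  · exact (isConj_iff.2 ⟨g, he⟩).trans hwu.symm

/-- The class of `z` is `Z₀ ∖ 1` when an element of `A ∖ Z₀` commutes with three of its members only. -/
theorem all_Z0 (h : NG K n r x) {a : G} (ha : a ∈ A K n r) (ha0 : a ∉ K.Z0) (hza : ¬ IsConj z a)
    (h3 : ∀ k, IsConj z k → Commute k a → k ∈ K.Z0) : ∀ k, IsConj z k → k ∈ K.Z0 := by
  classical
  have hII := h.hII_of ha ha0 hza
  have haU := h.A_le_U ha
  have hD : ∀ g, g * a * g⁻¹ ∈ K.U := by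
    intro g
    set v := g * a * g⁻¹ with hv
    have hvc : IsConj a v := isConj_iff.2 ⟨g, rfl⟩
    have hvG := h.G2_of_conj (h.U_le_G2 haU) hvc
    have hv2 : v * v = 1 := by rw [hv, conj_mul, h.A_sq ha, mul_one, mul_inv_cancel]
    have hv1 : v ≠ 1 := fun e1 => ha0 (by rw [conj_eq_one_iff.1 e1]; exact one_mem _)
    have heven : Even (orderOf (z * v)) := Dihedral.even_of_not_isConj
      (Dihedral.orderOf_eq_two K.sq_z K.frame.extra.z_ne) (Dihedral.orderOf_eq_two hv2 hv1)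
      fun q => hza (q.trans hvc.symm)
    obtain ⟨w, i, hwi, hw2, hw1, hzw, hvw⟩ := even_case K.sq_z K.frame.extra.z_ne hv2 hv1 heven
    have hwa := h.mid_conj ha ha0 hza (IsConj.refl z) hvc hwi hw2 hw1
    have hwU := h.G2_invol_C (hwi ▸ pow_mem (mul_mem h.z_mem_G2 hvG) i)
      (mem_centralizer_singleton_iff.2 hzw.eq.symm) hw2
    rcases h.U_invol_class ha ha0 hwU hw2 with q | ⟨c, hc, he⟩
    · exact absurd ((h.Z0_conj q hw1).trans hwa.symm) hza
    set v' := c⁻¹ * v * c with hv'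
    have hv'G : v' ∈ h.G2 := by
      have := h.G2_normal.conj_mem v hvG c⁻¹
      rwa [inv_inv] at this
    have hv'2 : v' * v' = 1 := by
      rw [hv', show c⁻¹ * v * c * (c⁻¹ * v * c) = c⁻¹ * (v * v) * c by group, hv2]; group
    have hv'a : Commute v' a := by
      have e1 : a = c⁻¹ * w * c := by rw [← he]; group
      show v' * a = a * v'
      rw [hv', e1]
      calc c⁻¹ * v * c * (c⁻¹ * w * c) = c⁻¹ * (v * w) * c := by group
        _ = c⁻¹ * (w * v) * c := by rw [hvw.eq]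
        _ = _ := by group
    have key : ∀ k ∈ K.Z0, k ≠ 1 → v' * k * v'⁻¹ ∈ K.Z0 := fun k hk hk1 => by
      refine h3 _ ((h.Z0_conj hk hk1).trans (isConj_iff.2 ⟨v', rfl⟩)) ?_
      exact ((hv'a.mul_left (K.Z0_central hk haU.1).symm).mul_left hv'a.inv_left)
    have hv'U := h.invol_norm_U hv'G hv'2 (key z ((K.mem_Z0).2 (Or.inr (Or.inl rfl))) K.frame.extra.z_ne)
      (key _ ((K.mem_Z0).2 (Or.inr (Or.inr (Or.inl rfl)))) K.t0_ne_one)
    have := h.conj_U_CC hc hv'U
    rwa [hv', show c * (c⁻¹ * v * c) * c⁻¹ = v by group] at this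
  intro k hk
  obtain ⟨g, rfl⟩ := isConj_iff.1 hk
  have hzA : z ∈ A K n r := h.Z0_le_A ((K.mem_Z0).2 (Or.inr (Or.inl rfl)))
  have haz0 : a * z ∉ K.Z0 := fun q => ha0 (by
    have := mul_mem q ((K.mem_Z0).2 (Or.inr (Or.inl rfl)) : z ∈ K.Z0)
    rwa [mul_assoc, K.sq_z, mul_one] at this)
  obtain ⟨c, -, hc⟩ := h.A_orbit (CC z e) (fun v hv => hv.1) h.r_mem ha ha0 (mul_mem ha hzA) haz0
  have h1 : g * (a * z) * g⁻¹ ∈ K.U := by
    rw [← hc, show g * (c * a * c⁻¹) * g⁻¹ = (g * c) * a * (g * c)⁻¹ by group]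
    exact hD _
  refine hII _ ?_ hk
  rw [show g * z * g⁻¹ = (g * a * g⁻¹)⁻¹ * (g * (a * z) * g⁻¹) by group]
  exact mul_mem (inv_mem (hD g)) h1

theorem ncard_Z0 (h : NG K n r x) : {k : G | IsConj z k ∧ k ∈ K.Z0}.ncard = 3 := by
  refine Set.ncard_eq_three.2 ⟨z, t0 z e, t0 z e * z, K.t0_ne_z.symm,
    fun q => K.t0_ne_one (mul_eq_right.1 q.symm), fun q => K.frame.extra.z_ne (mul_eq_left.1 q.symm), ?_⟩
  ext k
  simp only [Set.mem_setOf_eq, Set.mem_insert_iff, Set.mem_singleton_iff]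
  constructor
  · rintro ⟨hk, hk0⟩
    exact ((K.mem_Z0).1 hk0).resolve_left (h.z_sq_conj hk).2
  · intro hk
    have hk0 := (K.mem_Z0).2 (Or.inr hk)
    refine ⟨h.Z0_conj hk0 fun e1 => ?_, hk0⟩
    rcases hk with q | q | q <;> rw [e1] at q
    · exact K.frame.extra.z_ne q.symm
    · exact K.t0_ne_one q.symm
    · exact K.t0_ne_z (by rw [← inv_eq_of_mul_eq_one_right K.sq_z]; exact eq_inv_of_mul_eq_one_left q.symm)

/-- In the second case the group is solvable. -/
theorem solvable_caseII (h : NG K n r x) {a : G} (ha : a ∈ fixU K (n * r)) (ha1 : a ≠ 1)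
    (hza : ¬ IsConj z a) : Group.IsSolvable G := by
  classical
  haveI := Fintype.ofFinite G
  have haA := h.fix_le_A ha
  have ha0 : a ∉ K.Z0 := fun h0 => ha1 (h.fix_inf_Z0 ha h0)
  have haU := h.A_le_U haA
  have haG := h.U_le_G2 haU
  have hII := h.hII_of haA ha0 hza
  obtain ⟨H, S, hH1, haH, hin, hnorm, hdec, hiffA⟩ := h.a_cell hII ha ha1
  have hinz : ∀ k, IsConj z k → Commute k a → k ∈ invSet H := fun k hk hka =>
    ⟨hin k (h.G2_of_conj h.z_mem_G2 hk) hka hk, (h.z_sq_conj hk).1, (h.z_sq_conj hk).2⟩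
  rcases S.ncard_invs with hI | hI
  · refine h.solvable_of_class (h.all_Z0 haA ha0 hza fun k hk hka => ?_)
    exact (h.inFour_Z0).1 (S.invs_three hI (hinz k hk hka))
  exfalso
  have hzc : ∀ k ∈ invSet H, IsConj z k := fun k hk => by
    obtain ⟨g, -, he⟩ := S.conj_z hk
    exact isConj_iff.2 ⟨g, he⟩
  have hQs : ∀ v, IsConj a v → v * v = 1 := fun v hv => by
    obtain ⟨g, rfl⟩ := isConj_iff.1 hv
    rw [conj_mul, h.A_sq haA, mul_one, mul_inv_cancel]
  -- the fibre over `a`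
  have hfib : Nat.card (OrderFormula.Pairs z a a) = 15 * 13 := by
    rw [Nat.card_coe_set_eq]
    show {p : G × G | IsConj z p.1 ∧ IsConj a p.2 ∧ ∃ i : ℕ, (p.1 * p.2) ^ i = a}.ncard = _
    rw [fibre_count S (h.A_sq haA) haH (fun k hk => (hH1 k hk).2) _ _ (fun k hk => (h.z_sq_conj hk).1) hQs
      hinz hzc ?_ ?_, hI]
    · intro k v hk hv hva i hi
      have hka := (commute_of_pow_eq (h.z_sq_conj hk).1 (hQs v hv) (h.A_sq haA) hi).1
      have hkH := (hinz k hk hka).1
      obtain ⟨q, hqA, hq⟩ := hdec v (h.G2_of_conj haG hv) hva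
      have hqG := h.U_le_G2 (h.A_le_U hqA)
      have hqa : Commute q a := h.A_comm hqA haA
      have hmem : ∀ j : ℕ, (k * v) ^ j * (q ^ j)⁻¹ ∈ H := by
        intro j
        induction j with
        | zero => simp [one_mem]
        | succ j ih =>
          have h2 : k * (v * q⁻¹) ∈ H := mul_mem hkH hq
          have h3 := hnorm (q ^ j) _ h2 (pow_mem hqG j) (hqa.pow_left j)
          have := mul_mem ih h3
          have e1 : (k * v) ^ j * (q ^ j)⁻¹ * (q ^ j * (k * (v * q⁻¹)) * (q ^ j)⁻¹) =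
              (k * v) ^ (j + 1) * (q ^ (j + 1))⁻¹ := by
            rw [pow_succ (k * v), pow_succ q]; group
          rwa [e1] at this
      have hm := hmem i
      rw [hi] at hm
      have hq2 := h.A_sq hqA
      rw [← Nat.mod_add_div i 2, pow_add, pow_mul, pow_two, hq2, one_pow, mul_one] at hm
      rcases Nat.mod_two_eq_zero_or_one i with r' | r' <;> rw [r'] at hm
      · rw [pow_zero, inv_one, mul_one] at hm
        exact absurd hm haH
      · rw [pow_one, inv_eq_of_mul_eq_one_right hq2] at hm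
        rw [← hva.eq]
        have hv' : v * a = v * q⁻¹ * (a * q) := by
          rw [← hqa.eq]; group
        rw [hv']
        exact mul_mem hq hm
    · intro k hk
      obtain ⟨g, hg, he⟩ := S.conj_z hk
      have hzA : z ∈ A K n r := h.Z0_le_A ((K.mem_Z0).2 (Or.inr (Or.inl rfl)))
      obtain ⟨c, -, hc⟩ := h.A_orbit (CC z e) (fun v hv => hv.1) h.r_mem haA ha0 (mul_mem haA hzA)
        (fun q => ha0 (by
          have := mul_mem q ((K.mem_Z0).2 (Or.inr (Or.inl rfl)) : z ∈ K.Z0)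
          rwa [mul_assoc, K.sq_z, mul_one] at this))
      refine (isConj_iff.2 ⟨c, hc⟩).trans (isConj_iff.2 ⟨g, ?_⟩)
      rw [← he, show g * (a * z) * g⁻¹ = g * a * g⁻¹ * (g * z * g⁻¹) by group,
        show g * a * g⁻¹ = a by rw [(hH1 g hg).2.eq, mul_inv_cancel_right]]
  -- the number of conjugates of `z`
  set Cz := ({u : G | IsConj z u} : Finset G) with hCz
  set Ca := ({u : G | IsConj a u} : Finset G) with hCa
  have hN : Cz.card = 195 := by
    let half : G × G → G := fun p => (p.1 * p.2) ^ (orderOf (p.1 * p.2) / 2)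
    have hev : ∀ p ∈ Cz ×ˢ Ca, orderOf (half p) = 2 ∧ IsConj a (half p) := by
      intro p hp
      simp only [hCz, hCa, Finset.mem_product, Finset.mem_filter, Finset.mem_univ, true_and] at hp
      have hk := h.z_sq_conj hp.1
      have hv1 : p.2 ≠ 1 := fun e1 => by
        obtain ⟨g, hg⟩ := isConj_iff.1 hp.2
        rw [e1, conj_eq_one_iff] at hg
        exact ha1 hg
      have he : Even (orderOf (p.1 * p.2)) := Dihedral.even_of_not_isConj
        (Dihedral.orderOf_eq_two hk.1 hk.2) (Dihedral.orderOf_eq_two (hQs _ hp.2) hv1)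
        fun q => hza ((hp.1.trans q).trans hp.2.symm)
      have h2 : orderOf (half p) = 2 := Dihedral.half_orderOf he
      exact ⟨h2, h.mid_conj haA ha0 hza hp.1 hp.2 rfl (Dihedral.mul_self h2) (Dihedral.ne_one h2)⟩
    have hmaps : ∀ p ∈ Cz ×ˢ Ca, half p ∈ Ca := fun p hp => by
      simp only [hCa, Finset.mem_filter, Finset.mem_univ, true_and]
      exact (hev p hp).2
    have hsum := Finset.card_eq_sum_card_fiberwise hmaps
    rw [Finset.card_product, Finset.sum_congr rfl (g := fun _ => 15 * 13) ?_, Finset.sum_const, smul_eq_mul,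
      mul_comm Cz.card] at hsum
    · refine Nat.eq_of_mul_eq_mul_left ?_ hsum
      exact Finset.card_pos.2 ⟨a, Finset.mem_filter.2 ⟨Finset.mem_univ _, IsConj.refl a⟩⟩
    · intro w hw
      simp only [hCa, Finset.mem_filter, Finset.mem_univ, true_and] at hw
      obtain ⟨g, hg⟩ := isConj_iff.1 hw
      have hw2 : orderOf w = 2 := by
        rw [← hg, Dihedral.orderOf_conj]; exact Dihedral.orderOf_eq_two (h.A_sq haA) ha1
      rw [← hfib, ← OrderFormula.card_pairs_conj z a a g, hg, ← Nat.card_eq_finsetCard]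
      refine Nat.card_congr (Equiv.subtypeEquivRight fun p => ?_)
      simp only [Finset.mem_filter, Finset.mem_product, hCz, hCa, Finset.mem_univ, true_and,
        OrderFormula.Pairs, Set.mem_setOf_eq]
      exact ⟨fun q => ⟨q.1.1, q.1.2, _, q.2⟩,
        fun q => ⟨⟨q.1, q.2.1⟩, OrderFormula.eq_half hw2 q.2.2.choose_spec⟩⟩
  -- orbits of `U`
  let X := {k : G // IsConj z k}
  letI : MulAction K.U X :=
    { smul := fun g k => ⟨(g : G) * k.1 * (g : G)⁻¹, k.2.trans (isConj_iff.2 ⟨(g : G), rfl⟩)⟩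
      one_smul := fun k => Subtype.ext (show ((1 : K.U) : G) * k.1 * ((1 : K.U) : G)⁻¹ = k.1 by simp)
      mul_smul := fun g g' k => Subtype.ext (show ((g * g' : K.U) : G) * k.1 * ((g * g' : K.U) : G)⁻¹ =
        (g : G) * ((g' : G) * k.1 * (g' : G)⁻¹) * (g : G)⁻¹ by rw [Subgroup.coe_mul]; group) }
  haveI := Fintype.ofFinite K.U
  haveI := Fintype.ofFinite (Quotient (MulAction.orbitRel K.U X))
  have hsum := MulAction.sum_card_fixedBy_eq_card_orbits_mul_card_group K.U X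
  have hU64 : Fintype.card K.U = 64 := by rw [← Nat.card_eq_fintype_card, K.card_U]
  let wt : K.U → ℕ := fun g => if (g : G) = 1 then 195 else if (g : G) * g = 1 ∧ (g : G) ∉ K.Z0 then 15 else 3
  have hfix : ∀ g : K.U, Fintype.card (MulAction.fixedBy X g) = wt g := by
    intro g
    have hset : Fintype.card (MulAction.fixedBy X g) = {k : G | IsConj z k ∧ Commute (g : G) k}.ncard := by
      rw [← Nat.card_eq_fintype_card, ← Nat.card_coe_set_eq]
      refine Nat.card_congr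
        { toFun := fun k => ⟨k.1.1, k.1.2, mul_inv_eq_iff_eq_mul.1 (congrArg Subtype.val k.2)⟩
          invFun := fun k => ⟨⟨k.1, k.2.1⟩, Subtype.ext (mul_inv_eq_iff_eq_mul.2 k.2.2)⟩
          left_inv := fun k => rfl
          right_inv := fun k => rfl }
    rw [hset]
    have hin3 : ∀ c ∈ K.Z0, c ≠ 1 → ∀ k, IsConj z k → Commute c k → k ∈ K.Z0 := by
      intro c hc hc1 k hk hck
      obtain ⟨γ, hγ, he⟩ := h.conj_in_G2 (h.Z0_conj hc hc1)
      obtain ⟨γ', hγ', hgz⟩ : ∃ γ' ∈ h.G2, (γ' * z * γ'⁻¹ = c ∧ ∀ d ∈ K.Z0, γ' * d * γ'⁻¹ ∈ K.Z0) := by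
        rcases (K.mem_Z0).1 hc with q | q | q | q
        · exact absurd q hc1
        · exact ⟨1, one_mem _, by rw [q]; group, fun d hd => by rw [one_mul, inv_one, mul_one]; exact hd⟩
        · exact ⟨n, h.n_mem_G2, by rw [q, h.cyc.1], fun d hd => h.conj_n_Z0 hd⟩
        · refine ⟨n * n, mul_mem h.n_mem_G2 h.n_mem_G2, ?_, fun d hd => ?_⟩
          · rw [q, show n * n * z * (n * n)⁻¹ = n * (n * z * n⁻¹) * n⁻¹ by group, h.cyc.1, h.cyc.2]
          · rw [show n * n * d * (n * n)⁻¹ = n * (n * d * n⁻¹) * n⁻¹ by group]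
            exact h.conj_n_Z0 (h.conj_n_Z0 hd)
      have hk' : IsConj z (γ'⁻¹ * k * γ') := hk.trans (isConj_iff.2 ⟨γ'⁻¹, by group⟩)
      have hcz : Commute (γ'⁻¹ * k * γ') z := by
        have e1 : z = γ'⁻¹ * c * γ' := by rw [← hgz.1]; group
        show γ'⁻¹ * k * γ' * z = z * (γ'⁻¹ * k * γ')
        rw [e1]
        calc γ'⁻¹ * k * γ' * (γ'⁻¹ * c * γ') = γ'⁻¹ * (k * c) * γ' := by group
          _ = γ'⁻¹ * (c * k) * γ' := by rw [hck.eq]
          _ = _ := by group
      have := hgz.2 _ (hII _ (h.G2_invol_C (h.G2_of_conj h.z_mem_G2 hk') (mem_centralizer_singleton_iff.2 hcz.eq)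
        (h.z_sq_conj hk').1) hk')
      rwa [show γ' * (γ'⁻¹ * k * γ') * γ'⁻¹ = k by group] at this
    have hall3 : ∀ k ∈ K.Z0, Commute (g : G) k := fun k hk => K.Z0_central hk g.2.1
    have three : ∀ c ∈ K.Z0, c ≠ 1 → (∀ k, Commute (g : G) k → Commute c k) →
        {k : G | IsConj z k ∧ Commute (g : G) k}.ncard = 3 := by
      intro c hc hc1 hto
      rw [← h.ncard_Z0]
      congr 1
      ext k
      exact ⟨fun q => ⟨q.1, hin3 c hc hc1 k q.1 (hto k q.2)⟩, fun q => ⟨q.1, hall3 k q.2⟩⟩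
    by_cases h1 : (g : G) = 1
    · rw [show wt g = 195 from if_pos h1, ← hN, ← Set.ncard_coe_finset]
      congr 1
      ext k
      simp [hCz, h1]
    by_cases hd : (g : G) * g = 1 ∧ (g : G) ∉ K.Z0
    · rw [show wt g = 15 from (if_neg h1).trans (if_pos hd), ← hI]
      obtain ⟨γ, hγ, he⟩ := (h.U_invol_class haA ha0 g.2 hd.1).resolve_left hd.2
      refine Set.ncard_congr (fun k _ => γ⁻¹ * k * γ) ?_ (fun a b _ _ q => mul_left_cancel (mul_right_cancel q)) ?_
      · rintro k ⟨hk, hgk⟩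
        refine hinz _ (hk.trans (isConj_iff.2 ⟨γ⁻¹, by group⟩)) ?_
        have e1 : a = γ⁻¹ * (g : G) * γ := by rw [← he]; group
        show γ⁻¹ * k * γ * a = a * (γ⁻¹ * k * γ)
        rw [e1]
        calc γ⁻¹ * k * γ * (γ⁻¹ * (g : G) * γ) = γ⁻¹ * (k * (g : G)) * γ := by group
          _ = γ⁻¹ * ((g : G) * k) * γ := by rw [hgk.eq]
          _ = _ := by group
      · intro k hk
        refine ⟨γ * k * γ⁻¹, ⟨(hzc k hk).trans (isConj_iff.2 ⟨γ, rfl⟩), ?_⟩, by group⟩
        rw [← he]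
        show γ * a * γ⁻¹ * (γ * k * γ⁻¹) = γ * k * γ⁻¹ * (γ * a * γ⁻¹)
        rw [conj_mul, conj_mul, (hH1 k hk.1).2.eq]
    · rw [show wt g = 3 from (if_neg h1).trans (if_neg hd)]
      by_cases hg0 : (g : G) ∈ K.Z0
      · exact three _ hg0 h1 fun k hk => hk
      · exact three _ (K.U_sq g.2) (fun e1 => hd ⟨e1, hg0⟩) fun k hk => hk.mul_left hk
  rw [Finset.sum_congr rfl fun g _ => hfix g, hU64] at hsum
  -- counting the weights
  let D : Set G := {g : G | g ∈ K.U ∧ g * g = 1 ∧ g ∉ K.Z0}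
  have hD : D.ncard = 24 := by
    have hAB : D = ((A K n r : Set G) \ (K.Z0 : Set G)) ∪ ((B K n r : Set G) \ (K.Z0 : Set G)) := by
      ext g
      constructor
      · rintro ⟨hg, h2, h0⟩
        exact (h.invol_mem hg h2).imp (fun q => ⟨q, h0⟩) fun q => ⟨q, h0⟩
      · rintro (⟨q, h0⟩ | ⟨q, h0⟩)
        · exact ⟨h.A_le_U q, h.A_sq q, h0⟩
        · exact ⟨h.B_le_U q, h.B_sq q, h0⟩
    have c4 : (K.Z0 : Set G).ncard = 4 := by
      rw [← Nat.card_coe_set_eq]; exact h.card_Z0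
    rw [hAB, Set.ncard_union_eq (Set.disjoint_left.2 fun g q1 q2 => q1.2 (h.A_inf_B q1.1 q2.1))
      (Set.toFinite _) (Set.toFinite _), Set.ncard_sdiff (fun c hc => h.Z0_le_A hc) (Set.toFinite _),
      Set.ncard_sdiff (fun c hc => h.Z0_le_B hc) (Set.toFinite _), c4]
    rw [← Nat.card_coe_set_eq, ← Nat.card_coe_set_eq]
    rw [show Nat.card (A K n r : Set G) = 16 from h.card_A, show Nat.card (B K n r : Set G) = 16 from h.card_B]
  have hw : ∀ g : K.U, wt g = 3 + ((if (g : G) = 1 then 192 else 0) + if (g : G) ∈ D then 12 else 0) := by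
    intro g
    by_cases h1 : (g : G) = 1
    · have : (g : G) ∉ D := fun q => q.2.2 (h1 ▸ one_mem _)
      simp only [wt, if_pos h1, if_neg this]
    · by_cases hd : (g : G) * g = 1 ∧ (g : G) ∉ K.Z0
      · have hm : (g : G) ∈ D := ⟨g.2, hd⟩
        simp only [wt, if_neg h1, if_pos hd, if_pos hm]
      · have hm : (g : G) ∉ D := fun q => hd q.2
        simp only [wt, if_neg h1, if_neg hd, if_neg hm]
  rw [Finset.sum_congr rfl fun g _ => hw g, Finset.sum_add_distrib, Finset.sum_add_distrib, Finset.sum_const,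
    Finset.card_univ, hU64, smul_eq_mul, Finset.sum_ite, Finset.sum_ite, Finset.sum_const_zero,
    Finset.sum_const_zero, Finset.sum_const, Finset.sum_const, smul_eq_mul, smul_eq_mul] at hsum
  have c1 : (Finset.univ.filter fun g : K.U => (g : G) = 1).card = 1 := by
    rw [Finset.card_eq_one]
    exact ⟨1, by ext g; simp⟩
  have c2 : (Finset.univ.filter fun g : K.U => (g : G) ∈ D).card = 24 := by
    rw [← hD, ← Set.ncard_coe_finset, ← Set.ncard_image_of_injective _ Subtype.val_injective]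
    congr 1
    ext g
    simp only [Finset.coe_filter, Finset.mem_univ, true_and, Set.mem_image, Set.mem_setOf_eq]
    exact ⟨fun ⟨y, hy, q⟩ => q ▸ hy, fun hg => ⟨⟨g, hg.1⟩, hg, rfl⟩⟩
  rw [c1, c2] at hsum
  omega

end Ctx.NG

end CfsgLib.Recognition.PSLThreeFourAut
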