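import Cfsg.Agent.Lib.Recognition.PSLThreeFourAut.Sixteen

/-!
# The structure of `U ⟨r, x⟩`
-/

set_option autoImplicit false
set_option maxRecDepth 100000
set_option linter.unusedSectionVars false

namespace CfsgLib.Recognition.PSLThreeFourAut

open Subgroup

variable {G : Type*} [Group G] [Finite G]

theorem perm3_six : ∀ a b : Equiv.Perm (Fin 3), a * a = 1 → a ≠ 1 → b * b * b = 1 → b ≠ 1 →
    ∀ g, g = 1 ∨ g = b ∨ g = b * b ∨ g = a ∨ g = a * b ∨ g = a * (b * b) := by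
  decide +kernel

theorem perm3_conj : ∀ a b : Equiv.Perm (Fin 3), a * a = 1 → a ≠ 1 → b * b * b = 1 → b ≠ 1 →
    ∀ c, c * c = 1 → c ≠ 1 → c = a ∨ b * c * b⁻¹ = a ∨ b * b * c * (b * b)⁻¹ = a := by
  decide +kernel

namespace Ctx

variable {z : G} {E : Subgroup G} {e : Fin 4 → G} {K : Ctx z E e} {n r x : G}

/-- `Z₀` times the fixed points of `m`. -/
def span (K : Ctx z E e) (m : G) : Subgroup G where
  carrier := {u | ∃ c a, c ∈ K.Z0 ∧ a ∈ fixU K m ∧ u = c * a}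
  one_mem' := ⟨1, 1, one_mem _, one_mem _, (one_mul 1).symm⟩
  mul_mem' := by
    rintro _ _ ⟨c, a, hc, ha, rfl⟩ ⟨c', a', hc', ha', rfl⟩
    refine ⟨c * c', a * a', mul_mem hc hc', mul_mem ha ha', ?_⟩
    exact (show Commute a c' from K.Z0_central hc' (ha.1 : a ∈ K.U).1).mul_mul_mul_comm c a'
  inv_mem' := by
    rintro _ ⟨c, a, hc, ha, rfl⟩
    refine ⟨c⁻¹, a⁻¹, inv_mem hc, inv_mem ha, ?_⟩
    rw [mul_inv_rev, (K.Z0_central (inv_mem hc) (inv_mem (ha.1 : a ∈ K.U).1)).eq]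

/-- The first subgroup of order sixteen. -/
def A (K : Ctx z E e) (n r : G) : Subgroup G := span K (n * r)

/-- The second subgroup of order sixteen. -/
def B (K : Ctx z E e) (n r : G) : Subgroup G := span K (n * (r * r))

namespace NG

theorem span_le_U (h : NG K n r x) {m u : G} (hu : u ∈ span K m) : u ∈ K.U := by
  obtain ⟨c, a, hc, ha, rfl⟩ := hu
  exact mul_mem (K.Z0_le_U hc) (h.fix_mem.1 ha).1

theorem A_le_U (h : NG K n r x) {u : G} (hu : u ∈ A K n r) : u ∈ K.U := h.span_le_U hu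

theorem B_le_U (h : NG K n r x) {u : G} (hu : u ∈ B K n r) : u ∈ K.U := h.span_le_U hu

theorem Z0_le_A (h : NG K n r x) {c : G} (hc : c ∈ K.Z0) : c ∈ A K n r :=
  ⟨c, 1, hc, one_mem _, (mul_one c).symm⟩

theorem Z0_le_B (h : NG K n r x) {c : G} (hc : c ∈ K.Z0) : c ∈ B K n r :=
  ⟨c, 1, hc, one_mem _, (mul_one c).symm⟩

theorem A_sq (h : NG K n r x) {u : G} (hu : u ∈ A K n r) : u * u = 1 := by
  obtain ⟨c, a, hc, ha, rfl⟩ := hu
  rw [(K.Z0_central hc (h.fix_mem.1 ha).1.1).mul_mul_mul_comm, K.Z0_sq hc, h.fix_sq ha, one_mul]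

theorem B_sq (h : NG K n r x) {u : G} (hu : u ∈ B K n r) : u * u = 1 := by
  obtain ⟨c, a, hc, ha, rfl⟩ := hu
  rw [(K.Z0_central hc (h.fix_mem.1 ha).1.1).mul_mul_mul_comm, K.Z0_sq hc, h.fixB_sq ha, one_mul]

theorem comm_of_sq {H : Subgroup G} (hsq : ∀ u ∈ H, u * u = 1) {u v : G} (hu : u ∈ H) (hv : v ∈ H) :
    Commute u v := by
  have h1 := hsq _ (mul_mem hu hv)
  have h2 : (u * v)⁻¹ = u * v := inv_eq_of_mul_eq_one_right h1
  rw [mul_inv_rev, inv_eq_of_mul_eq_one_right (hsq _ hu), inv_eq_of_mul_eq_one_right (hsq _ hv)] at h2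
  exact h2.symm

theorem A_comm (h : NG K n r x) {u v : G} (hu : u ∈ A K n r) (hv : v ∈ A K n r) : Commute u v :=
  comm_of_sq (fun _ hw => h.A_sq hw) hu hv

theorem B_comm (h : NG K n r x) {u v : G} (hu : u ∈ B K n r) (hv : v ∈ B K n r) : Commute u v :=
  comm_of_sq (fun _ hw => h.B_sq hw) hu hv

theorem fix_le_A (h : NG K n r x) {a : G} (ha : a ∈ fixU K (n * r)) : a ∈ A K n r :=
  ⟨1, a, one_mem _, ha, (one_mul a).symm⟩

theorem fix_le_B (h : NG K n r x) {b : G} (hb : b ∈ fixU K (n * (r * r))) : b ∈ B K n r :=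
  ⟨1, b, one_mem _, hb, (one_mul b).symm⟩

theorem A_inf_B (h : NG K n r x) {u : G} (hA : u ∈ A K n r) (hB : u ∈ B K n r) : u ∈ K.Z0 := by
  obtain ⟨c, a, hc, ha, rfl⟩ := hA
  obtain ⟨c', b, hc', hb, he⟩ := hB
  obtain ⟨-, rfl, -⟩ := h.fix_unique hc hc' ha (one_mem _) (one_mem _) hb (by simpa using he)
  rwa [mul_one]

theorem card_A (h : NG K n r x) : Nat.card (A K n r) = 16 := by
  let f : K.Z0 × fixU K (n * r) → A K n r := fun p => ⟨(p.1 : G) * p.2, p.1, p.2, p.1.2, p.2.2, rfl⟩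
  have hf : Function.Bijective f := by
    constructor
    · rintro p q hpq
      have hpq' : (p.1 : G) * p.2 = q.1 * q.2 := congrArg Subtype.val hpq
      obtain ⟨e1, e2, -⟩ := h.fix_unique p.1.2 q.1.2 p.2.2 q.2.2 (one_mem _) (one_mem _)
        (by simpa using hpq')
      exact Prod.ext (Subtype.ext e1) (Subtype.ext e2)
    · rintro ⟨_, c, a, hc, ha, rfl⟩
      exact ⟨(⟨c, hc⟩, ⟨a, ha⟩), rfl⟩
  rw [← Nat.card_eq_of_bijective f hf, Nat.card_prod, h.card_Z0, h.card_fix]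

theorem x_span (h : NG K n r x) {u : G} (hu : u ∈ A K n r) : x * u * x⁻¹ ∈ B K n r := by
  obtain ⟨c, a, hc, ha, rfl⟩ := hu
  exact ⟨x * c * x⁻¹, x * a * x⁻¹, h.conj_x_Z0 hc, h.x_swap_fix ha, by group⟩

theorem x_span' (h : NG K n r x) {u : G} (hu : u ∈ B K n r) : x * u * x⁻¹ ∈ A K n r := by
  obtain ⟨c, a, hc, ha, rfl⟩ := hu
  exact ⟨x * c * x⁻¹, x * a * x⁻¹, h.conj_x_Z0 hc, h.x_swap_fix' ha, by group⟩

theorem card_B (h : NG K n r x) : Nat.card (B K n r) = 16 := by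
  rw [← h.card_A]
  refine Nat.card_congr
    { toFun := fun a => ⟨x * a * x⁻¹, h.x_span' a.2⟩
      invFun := fun a => ⟨x * a * x⁻¹, h.x_span a.2⟩
      left_inv := fun a => Subtype.ext ?_
      right_inv := fun a => Subtype.ext ?_ } <;>
  · show x * (x * (a : G) * x⁻¹) * x⁻¹ = a
    rw [show x * (x * (a : G) * x⁻¹) * x⁻¹ = (x * x) * a * (x * x)⁻¹ by group, h.x2]
    group

/-- The involutions of `U` lie in `A ∪ B`. -/
theorem invol_mem (h : NG K n r x) {u : G} (hu : u ∈ K.U) (h2 : u * u = 1) : u ∈ A K n r ∨ u ∈ B K n r := by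
  obtain ⟨c, a, hc, rfl, ha | ha⟩ := h.invol_dec hu h2
  · exact Or.inl ⟨c, a, hc, ha, rfl⟩
  · exact Or.inr ⟨c, a, hc, ha, rfl⟩

theorem dec_AB (h : NG K n r x) {u : G} (hu : u ∈ K.U) : ∃ a b, a ∈ A K n r ∧ b ∈ B K n r ∧ u = a * b := by
  obtain ⟨c, a, b, hc, ha, hb, rfl⟩ := h.exists_dec hu
  exact ⟨c * a, b, ⟨c, a, hc, ha, rfl⟩, h.fix_le_B hb, rfl⟩

theorem cent_A (h : NG K n r x) {a u : G} (ha : a ∈ A K n r) (ha0 : a ∉ K.Z0) (hu : u ∈ K.U)
    (hc : Commute a u) : u ∈ A K n r := by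
  obtain ⟨a', b, ha', hb, rfl⟩ := h.dec_AB hu
  have hab : Commute a b := by
    have := (h.A_comm ha (inv_mem ha')).mul_right hc
    rwa [inv_mul_cancel_left] at this
  have h2 : a * b * (a * b) = 1 := by rw [hab.symm.mul_mul_mul_comm, h.A_sq ha, h.B_sq hb, one_mul]
  rcases h.invol_mem (mul_mem (h.A_le_U ha) (h.B_le_U hb)) h2 with s | s
  · refine mul_mem ha' ?_
    have := mul_mem (inv_mem ha) s
    rwa [inv_mul_cancel_left] at this
  · refine absurd (h.A_inf_B ha ?_) ha0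
    have := mul_mem s (inv_mem hb)
    rwa [mul_inv_cancel_right] at this

theorem cent_B (h : NG K n r x) {b u : G} (hb : b ∈ B K n r) (hb0 : b ∉ K.Z0) (hu : u ∈ K.U)
    (hc : Commute b u) : u ∈ B K n r := by
  have hcc : Commute (x * b * x⁻¹) (x * u * x⁻¹) := by
    show _ = _
    rw [conj_mul, conj_mul, hc.eq]
  have h0 : x * b * x⁻¹ ∉ K.Z0 := fun h0 => hb0 (by
    have := h.conj_x_Z0 h0
    rwa [show x * (x * b * x⁻¹) * x⁻¹ = (x * x) * b * (x * x)⁻¹ by group, h.x2, one_mul, inv_one, mul_one] at this)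
  have := h.x_span (h.cent_A (h.x_span' hb) h0 (h.conj_U_CC h.x_mem hu) hcc)
  rwa [show x * (x * u * x⁻¹) * x⁻¹ = (x * x) * u * (x * x)⁻¹ by group, h.x2, one_mul, inv_one, mul_one] at this

theorem exists_A_out (h : NG K n r x) : ∃ a ∈ fixU K (n * r), a ≠ 1 ∧ a ∈ A K n r ∧ a ∉ K.Z0 := by
  by_contra hne
  push Not at hne
  have : ∀ a ∈ fixU K (n * r), a = 1 := fun a ha => by
    by_contra h1
    exact h1 (h.fix_inf_Z0 ha (hne a ha h1 (h.fix_le_A ha)))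
  have hbot : fixU K (n * r) = ⊥ := (Subgroup.eq_bot_iff_forall _).2 this
  have := h.card_fix
  rw [hbot, Subgroup.card_bot] at this
  omega

theorem center_U (h : NG K n r x) {u : G} (hu : u ∈ K.U) (hc : ∀ v ∈ K.U, Commute u v) : u ∈ K.Z0 := by
  obtain ⟨a, -, -, ha, ha0⟩ := h.exists_A_out
  refine h.A_inf_B (h.cent_A ha ha0 hu (hc a (h.A_le_U ha)).symm) ?_
  have hb := h.x_span ha
  refine h.cent_B hb (fun h0 => ha0 ?_) hu (hc _ (h.B_le_U hb)).symm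
  have := h.conj_x_Z0 h0
  rwa [show x * (x * a * x⁻¹) * x⁻¹ = (x * x) * a * (x * x)⁻¹ by group, h.x2, one_mul, inv_one, mul_one] at this

/-- Elements of order two dividing subgroups of order sixteen of `U` with exponent two. -/
theorem eq_A_or_B (h : NG K n r x) {V : Subgroup G} (hV : ∀ v ∈ V, v ∈ K.U) (hsq : ∀ v ∈ V, v * v = 1)
    (hcard : Nat.card V = 16) : V = A K n r ∨ V = B K n r := by
  by_cases hex : ∃ a ∈ V, a ∈ A K n r ∧ a ∉ K.Z0
  · obtain ⟨a, haV, haA, ha0⟩ := hex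
    left
    refine Subgroup.eq_of_le_of_card_ge (fun v hv => h.cent_A haA ha0 (hV v hv) (comm_of_sq hsq haV hv)) ?_
    rw [h.card_A, hcard]
  · right
    push Not at hex
    refine Subgroup.eq_of_le_of_card_ge (fun v hv => ?_) (by rw [h.card_B, hcard])
    rcases h.invol_mem (hV v hv) (hsq v hv) with s | s
    · exact h.Z0_le_B (hex v hv s)
    · exact s

theorem n_fix (h : NG K n r x) {m a : G} (hm : Commute n m) (ha : a ∈ fixU K m) : n * a * n⁻¹ ∈ fixU K m := by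
  obtain ⟨haU, hf⟩ := h.fix_mem.1 ha
  refine h.fix_mem.2 ⟨h.conj_U_n haU, ?_⟩
  conv_rhs => rw [← hf]
  rw [show m * (n * a * n⁻¹) * m⁻¹ = (m * n) * a * (m * n)⁻¹ by group, ← hm.eq]
  group

theorem r_fix (h : NG K n r x) {m a : G} (hm : Commute r m) (ha : a ∈ fixU K m) : r * a * r⁻¹ ∈ fixU K m := by
  obtain ⟨haU, hf⟩ := h.fix_mem.1 ha
  refine h.fix_mem.2 ⟨h.conj_U_CC h.r_mem haU, ?_⟩
  conv_rhs => rw [← hf]
  rw [show m * (r * a * r⁻¹) * m⁻¹ = (m * r) * a * (m * r)⁻¹ by group, ← hm.eq]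
  group

theorem n_A (h : NG K n r x) {u : G} (hu : u ∈ A K n r) : n * u * n⁻¹ ∈ A K n r := by
  obtain ⟨c, a, hc, ha, rfl⟩ := hu
  exact ⟨n * c * n⁻¹, n * a * n⁻¹, h.conj_n_Z0 hc, h.n_fix ((Commute.refl n).mul_right h.nr) ha, by group⟩

theorem n_B (h : NG K n r x) {u : G} (hu : u ∈ B K n r) : n * u * n⁻¹ ∈ B K n r := by
  obtain ⟨c, a, hc, ha, rfl⟩ := hu
  exact ⟨n * c * n⁻¹, n * a * n⁻¹, h.conj_n_Z0 hc,
    h.n_fix ((Commute.refl n).mul_right (h.nr.mul_right h.nr)) ha, by group⟩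

theorem r_A (h : NG K n r x) {u : G} (hu : u ∈ A K n r) : r * u * r⁻¹ ∈ A K n r := by
  obtain ⟨c, a, hc, ha, rfl⟩ := hu
  exact ⟨r * c * r⁻¹, r * a * r⁻¹, h.conj_r_Z0 hc, h.r_fix (h.nr.symm.mul_right (Commute.refl r)) ha, by group⟩

theorem U_conj_A (h : NG K n r x) {v u : G} (hv : v ∈ K.U) (hu : u ∈ A K n r) : v * u * v⁻¹ ∈ A K n r := by
  have hz : Cong K (u * v) (v * u) := K.comm_mem_Z0 (h.A_le_U hu) hv
  have e : v * u * v⁻¹ = u * (v * ((u * v)⁻¹ * (v * u)) * v⁻¹) := by group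
  rw [e, K.Z0_conj_CC hv.1 hz]
  exact mul_mem hu (h.Z0_le_A hz)

/-- `A ∖ Z₀` is a single orbit of `U ⟨r⟩`. -/
theorem A_orbit (h : NG K n r x) (L : Subgroup G) (hU : ∀ v ∈ K.U, v ∈ L) (hr : r ∈ L) {a a' : G}
    (ha : a ∈ A K n r) (ha0 : a ∉ K.Z0) (ha' : a' ∈ A K n r) (ha0' : a' ∉ K.Z0) :
    ∃ g ∈ L, g * a * g⁻¹ = a' := by
  classical
  obtain ⟨c, a1, hc, h1, rfl⟩ := ha
  obtain ⟨c', a2, hc', h2, rfl⟩ := ha'
  have h1n : a1 ≠ 1 := fun e1 => ha0 (by rw [e1, mul_one]; exact hc)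
  have h2n : a2 ≠ 1 := fun e1 => ha0' (by rw [e1, mul_one]; exact hc')
  -- move `a1` to `a2`
  have hrm : Commute r (n * r) := h.nr.symm.mul_right (Commute.refl r)
  obtain ⟨i, hi, hi'⟩ : ∃ g ∈ L, g ∈ CC z e ∧ g * a1 * g⁻¹ = a2 := by
    haveI := Fintype.ofFinite (fixU K (n * r))
    by_contra hne
    push Not at hne
    set b := r * a1 * r⁻¹ with hb
    set c3 := r * b * r⁻¹ with hc3
    have hbm : b ∈ fixU K (n * r) := h.r_fix hrm h1
    have n1 : b ≠ a1 := fun e1 => h1n (h.fix_inf_Z0 h1 (h.r_fixed (h.fix_mem.1 h1).1 (by rw [← hb, e1]; exact K.cong_refl a1)))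
    have n2 : c3 ≠ b := fun e1 => n1 (mul_left_cancel (mul_right_cancel e1))
    have n3 : c3 ≠ a1 := fun e1 => n1 (by
      have e2 : r * c3 * r⁻¹ = b := by rw [e1]
      rw [hc3, hb, show r * (r * (r * a1 * r⁻¹) * r⁻¹) * r⁻¹ = (r * r * r) * a1 * (r * r * r)⁻¹ by group, h.r3] at e2
      rw [hb, ← e2]; group)
    have hm : ({⟨1, one_mem _⟩, ⟨a1, h1⟩, ⟨b, hbm⟩, ⟨c3, h.r_fix hrm hbm⟩, ⟨a2, h2⟩} : Finset (fixU K (n * r))).card = 5 := by
      have := hne 1 (one_mem _) (one_mem _)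
      have q1 : a1 ≠ a2 := fun e1 => this (by rw [one_mul, inv_one, mul_one]; exact e1)
      have q2 : b ≠ a2 := fun e1 => hne r hr h.r_mem e1
      have q3 : c3 ≠ a2 := fun e1 => hne (r * r) (mul_mem hr hr) (mul_mem h.r_mem h.r_mem) (by rw [← e1, hc3, hb]; group)
      have o1 : b ≠ 1 := fun e1 => h1n (conj_eq_one_iff.1 e1)
      have o2 : c3 ≠ 1 := fun e1 => o1 (conj_eq_one_iff.1 e1)
      rw [Finset.card_insert_of_notMem, Finset.card_insert_of_notMem, Finset.card_insert_of_notMem, Finset.card_pair] <;>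
        simp only [Finset.mem_insert, Finset.mem_singleton, Subtype.ext_iff, ne_eq] <;> tauto
    have := Finset.card_le_univ ({⟨1, one_mem _⟩, ⟨a1, h1⟩, ⟨b, hbm⟩, ⟨c3, h.r_fix hrm hbm⟩, ⟨a2, h2⟩} : Finset (fixU K (n * r)))
    rw [hm, ← Nat.card_eq_fintype_card, h.card_fix] at this
    omega
  have hA2 : a2 ∈ A K n r := h.fix_le_A h2
  have h20 : a2 ∉ K.Z0 := fun h0 => h2n (h.fix_inf_Z0 h2 h0)
  let f : fixU K (n * (r * r)) → K.Z0 := fun b =>
    ⟨a2⁻¹ * ((b : G) * a2 * (b : G)⁻¹), by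
      have hz : Cong K (a2 * b) (b * a2) := K.comm_mem_Z0 (h.A_le_U hA2) (h.fix_mem.1 b.2).1
      rw [show a2⁻¹ * ((b : G) * a2 * (b : G)⁻¹) = (b : G) * ((a2 * b)⁻¹ * (b * a2)) * (b : G)⁻¹ by group,
        K.Z0_conj_CC (h.fix_mem.1 b.2).1.1 hz]
      exact hz⟩
  have hf : Function.Injective f := fun b b' hbb => by
    have e1 : (b : G) * a2 * (b : G)⁻¹ = (b' : G) * a2 * (b' : G)⁻¹ := mul_left_cancel (congrArg Subtype.val hbb)
    have hcm : Commute a2 ((b' : G)⁻¹ * b) := by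
      show a2 * ((b' : G)⁻¹ * b) = (b' : G)⁻¹ * b * a2
      calc a2 * ((b' : G)⁻¹ * b) = (b' : G)⁻¹ * ((b' : G) * a2 * (b' : G)⁻¹) * b := by group
        _ = _ := by rw [← e1]; group
    have hB := h.fix_le_B (mul_mem (inv_mem b'.2) b.2)
    have := h.fixB_inf_Z0 (mul_mem (inv_mem b'.2) b.2)
      (h.A_inf_B (h.cent_A hA2 h20 (h.B_le_U hB) hcm) hB)
    exact Subtype.ext (inv_mul_eq_one.1 this).symm
  obtain ⟨b, hb⟩ := ((Nat.bijective_iff_injective_and_card f).2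
    ⟨hf, by rw [h.card_fix_eq, h.card_fix, h.card_Z0]⟩).2 ⟨c⁻¹ * c', mul_mem (inv_mem hc) hc'⟩
  refine ⟨(b : G) * i, mul_mem (hU _ (h.fix_mem.1 b.2).1) hi, ?_⟩
  have hcb : (b : G) * c * (b : G)⁻¹ = c := K.Z0_conj_CC (h.fix_mem.1 b.2).1.1 hc
  have hci : i * c * i⁻¹ = c := K.Z0_conj_CC hi'.1 hc
  calc (b : G) * i * (c * a1) * ((b : G) * i)⁻¹ = (b : G) * ((i * c * i⁻¹) * (i * a1 * i⁻¹)) * (b : G)⁻¹ := by group
    _ = ((b : G) * c * (b : G)⁻¹) * ((b : G) * a2 * (b : G)⁻¹) := by rw [hci, hi'.2]; group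
    _ = c * (a2 * (c⁻¹ * c')) := by
        rw [hcb, ← show a2⁻¹ * ((b : G) * a2 * (b : G)⁻¹) = c⁻¹ * c' from congrArg Subtype.val hb,
          mul_inv_cancel_left]
    _ = c' * a2 := by
        rw [(K.Z0_central (mul_mem (inv_mem hc) hc') (h.fix_mem.1 h2).1.1).eq]
        group

/-- `C_U(x) = Z₀`. -/
theorem cent_x (h : NG K n r x) {u : G} (hu : u ∈ K.U) (hc : Commute x u) : u ∈ K.Z0 := by
  obtain ⟨c, a, b, hc0, ha, hb, rfl⟩ := h.exists_dec hu
  have hA := h.x_swap_fix' hb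
  have hB := h.x_swap_fix ha
  have hcomm : Cong K ((x * b * x⁻¹) * (x * a * x⁻¹)) ((x * a * x⁻¹) * (x * b * x⁻¹)) :=
    K.comm_mem_Z0 (h.fix_mem.1 hA).1 (h.fix_mem.1 hB).1
  set a' := x * b * x⁻¹ with ha'
  set b' := x * a * x⁻¹ with hb'
  set d := (a' * b')⁻¹ * (b' * a') with hd
  have e1 : c * a * b = (c * d) * a' * b' := by
    calc c * a * b = x * (c * a * b) * x⁻¹ := by rw [hc.eq, mul_inv_cancel_right]
      _ = (x * c * x⁻¹) * (b' * a') := by rw [ha', hb']; group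
      _ = c * (a' * b' * d) := by rw [K.Z0_conj_CC h.x_mem hc0, hd]; group
      _ = (c * d) * a' * b' := by
          have hcm : Commute (a' * b') d := K.Z0_central hcomm (mul_mem (h.fix_mem.1 hA).1.1 (h.fix_mem.1 hB).1.1)
          rw [hcm.eq]
          group
  obtain ⟨q1, q2, q3⟩ := h.fix_unique hc0 (mul_mem hc0 hcomm) ha hA hb hB e1
  have hd1 : d = 1 := mul_eq_left.1 q1.symm
  have hab : Commute a b := by
    rw [q2, q3]
    rw [hd, inv_mul_eq_one] at hd1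
    exact hd1
  by_cases ha1 : a = 1
  · rw [hb'] at q3
    rw [ha1, mul_one, mul_inv_cancel] at q3
    rw [ha1, q3, mul_one, mul_one]
    exact hc0
  · have hb0 := h.A_inf_B (h.cent_A (h.fix_le_A ha) (fun h0 => ha1 (h.fix_inf_Z0 ha h0)) (h.fix_mem.1 hb).1 hab)
      (h.fix_le_B hb)
    rw [h.fixB_inf_Z0 hb hb0] at ha'
    rw [q2, ha', mul_one, mul_inv_cancel] at ha1
    exact absurd rfl ha1

/-- The involutions in `Ux` are conjugate to `x` under `U`. -/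
theorem x_class (h : NG K n r x) {u : G} (hu : u ∈ K.U) (h2 : u * x * (u * x) = 1) :
    ∃ v ∈ K.U, v * x * v⁻¹ = u * x := by
  classical
  haveI := Fintype.ofFinite G
  let S : Finset G := Finset.univ.filter fun w => w ∈ K.U ∧ w * x * (w * x) = 1
  have xinv := h.x_inv
  -- at most sixteen
  have hS : S.card ≤ 16 := by
    have key : ∀ w ∈ S, ∃ c ∈ K.Z0, ∃ a ∈ fixU K (n * r), w = c * a * (x * a * x⁻¹) := by
      intro w hw
      obtain ⟨hwU, hw2⟩ := (Finset.mem_filter.1 hw).2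
      obtain ⟨c, a, b, hc0, ha, hb, rfl⟩ := h.exists_dec hwU
      have e0 : x * (c * a * b) * x⁻¹ = (c * a * b)⁻¹ := by
        rw [xinv]
        refine eq_inv_of_mul_eq_one_right ?_
        rw [← hw2]; group
      have hA := h.x_swap_fix' hb
      have hB := h.x_swap_fix ha
      have ainv : a⁻¹ = a := inv_eq_of_mul_eq_one_right (h.fix_sq ha)
      have binv : b⁻¹ = b := inv_eq_of_mul_eq_one_right (h.fixB_sq hb)
      set a' := x * b * x⁻¹ with ha'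
      set b' := x * a * x⁻¹ with hb'
      set d := (a * b)⁻¹ * (b * a) with hd
      set d' := (a' * b')⁻¹ * (b' * a') with hd'
      have hdm : d ∈ K.Z0 := K.comm_mem_Z0 (h.fix_mem.1 ha).1 (h.fix_mem.1 hb).1
      have hdm' : d' ∈ K.Z0 := K.comm_mem_Z0 (h.fix_mem.1 hA).1 (h.fix_mem.1 hB).1
      have e1 : (c * d') * a' * b' = (c⁻¹ * d) * a * b := by
        calc (c * d') * a' * b' = c * (a' * b' * d') := by
              rw [(K.Z0_central hdm' (mul_mem (h.fix_mem.1 hA).1.1 (h.fix_mem.1 hB).1.1)).eq]; group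
          _ = (x * c * x⁻¹) * (b' * a') := by rw [hd', K.Z0_conj_CC h.x_mem hc0]; group
          _ = x * (c * a * b) * x⁻¹ := by rw [ha', hb']; group
          _ = b⁻¹ * a⁻¹ * c⁻¹ := by rw [e0]; group
          _ = b * a * c⁻¹ := by rw [ainv, binv]
          _ = a * b * d * c⁻¹ := by rw [hd]; group
          _ = (c⁻¹ * d) * (a * b) := by
              rw [mul_assoc (a * b), (K.Z0_central (mul_mem hdm (inv_mem hc0))
                (mul_mem (h.fix_mem.1 ha).1.1 (h.fix_mem.1 hb).1.1)).eq,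
                ← (K.Z0_central hdm (K.Z0_le_CC (inv_mem hc0))).eq]
          _ = _ := by group
      obtain ⟨-, -, q3⟩ := h.fix_unique (mul_mem hc0 hdm') (mul_mem (inv_mem hc0) hdm) hA ha hB hb e1
      exact ⟨c, hc0, a, ha, by rw [← hb', q3]⟩
    let T : Finset G := (Finset.univ : Finset (K.Z0 × fixU K (n * r))).image
      fun p => (p.1 : G) * p.2 * (x * p.2 * x⁻¹)
    have hsub : S ⊆ T := by
      intro w hw
      obtain ⟨c, hc, a, ha, rfl⟩ := key w hw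
      exact Finset.mem_image.2 ⟨(⟨c, hc⟩, ⟨a, ha⟩), Finset.mem_univ _, rfl⟩
    refine ((Finset.card_le_card hsub).trans Finset.card_image_le).trans (le_of_eq ?_)
    rw [Finset.card_univ, ← Nat.card_eq_fintype_card, Nat.card_prod, h.card_Z0, h.card_fix]
  let I : Finset G := Finset.image (fun v : K.U => (v : G) * x * (v : G)⁻¹ * x⁻¹) Finset.univ
  have hIS : I ⊆ S := by
    intro w hw
    obtain ⟨v, -, rfl⟩ := Finset.mem_image.1 hw
    refine Finset.mem_filter.2 ⟨Finset.mem_univ _, ?_, ?_⟩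
    · rw [show (v : G) * x * (v : G)⁻¹ * x⁻¹ = (v : G) * (x * (v : G)⁻¹ * x⁻¹) by group]
      exact mul_mem v.2 (h.conj_U_CC h.x_mem (inv_mem v.2))
    · rw [inv_mul_cancel_right, conj_mul, h.x2, mul_one, mul_inv_cancel]
  have h64 : (Finset.univ : Finset K.U).card ≤ 4 * I.card := by
    refine Finset.card_le_mul_card_image _ 4 fun w hw => ?_
    obtain ⟨v, -, rfl⟩ := Finset.mem_image.1 hw
    haveI := Fintype.ofFinite K.Z0
    refine le_trans (Finset.card_le_card_of_injOn (fun y => if hy : (v : G)⁻¹ * y ∈ K.Z0 then (⟨_, hy⟩ : K.Z0) else 1)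
      (t := Finset.univ) (fun _ _ => Finset.mem_univ _) ?_) (le_of_eq (by rw [Finset.card_univ, ← Nat.card_eq_fintype_card, h.card_Z0]))
    have hmem : ∀ y : K.U, (y : G) * x * (y : G)⁻¹ * x⁻¹ = (v : G) * x * (v : G)⁻¹ * x⁻¹ →
        (v : G)⁻¹ * y ∈ K.Z0 := fun y hy => by
      refine h.cent_x (mul_mem (inv_mem v.2) y.2) ?_
      show x * ((v : G)⁻¹ * y) = (v : G)⁻¹ * y * x
      calc x * ((v : G)⁻¹ * y) = (v : G)⁻¹ * ((v : G) * x * (v : G)⁻¹ * x⁻¹) * x * y := by group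
        _ = _ := by rw [← hy]; group
    intro a ha b hb hab
    simp only [dif_pos (hmem a (Finset.mem_filter.1 ha).2), dif_pos (hmem b (Finset.mem_filter.1 hb).2)] at hab
    exact Subtype.ext (mul_left_cancel (congrArg Subtype.val hab))
  rw [Finset.card_univ, ← Nat.card_eq_fintype_card, K.card_U] at h64
  have heq := Finset.eq_of_subset_of_card_le hIS (by omega)
  obtain ⟨v, -, hv⟩ := Finset.mem_image.1 (heq.symm ▸ Finset.mem_filter.2 ⟨Finset.mem_univ _, hu, h2⟩ : u ∈ I)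
  exact ⟨v, v.2, mul_inv_eq_iff_eq_mul.1 hv⟩

/-- An involution of `CC ∖ U` is conjugate to `x` in `CC`. -/
theorem outer_class (h : NG K n r x) {y : G} (hy : y ∈ CC z e) (h2 : y * y = 1) (hyU : y ∉ K.U) :
    ∃ g ∈ CC z e, g * x * g⁻¹ = y := by
  have hy1 : rho z e y ≠ 1 := fun e1 => hyU ⟨hy, e1⟩
  have hy2 : rho z e y * rho z e y = 1 := by rw [← K.rho_mul hy hy, h2, K.rho_one]
  obtain ⟨g, hg, hgy⟩ : ∃ g ∈ CC z e, rho z e (g * y * g⁻¹) = rho z e x := by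
    have hr := h.r_mem
    rcases perm3_conj _ _ h.rho_x.1 h.rho_x.2 h.rho_r.1 h.rho_r.2 _ hy2 hy1 with q | q | q
    · exact ⟨1, one_mem _, by rw [one_mul, inv_one, mul_one, q]⟩
    · exact ⟨r, hr, by rw [K.rho_mul (mul_mem hr hy) (inv_mem hr), K.rho_mul hr hy, K.rho_inv hr, q]⟩
    · exact ⟨r * r, mul_mem hr hr, by
        rw [K.rho_mul (mul_mem (mul_mem hr hr) hy) (inv_mem (mul_mem hr hr)), K.rho_mul (mul_mem hr hr) hy,
          K.rho_inv (mul_mem hr hr), K.rho_mul hr hr, q]⟩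
  set y' := g * y * g⁻¹ with hy'
  have hy'C : y' ∈ CC z e := mul_mem (mul_mem hg hy) (inv_mem hg)
  have hu : y' * x ∈ K.U := ⟨mul_mem hy'C h.x_mem, by rw [K.rho_mul hy'C h.x_mem, hgy, h.rho_x.1]⟩
  obtain ⟨v, hv, hve⟩ := h.x_class hu (by
    rw [mul_assoc y' x x, h.x2, mul_one, hy', conj_mul, h2, mul_one, mul_inv_cancel])
  rw [mul_assoc y' x x, h.x2, mul_one, hy'] at hve
  refine ⟨g⁻¹ * v, mul_mem (inv_mem hg) hv.1, ?_⟩
  rw [show g⁻¹ * v * x * (g⁻¹ * v)⁻¹ = g⁻¹ * (v * x * v⁻¹) * g by group, hve]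
  group

/-- The elements of `CC`. -/
theorem CC_dec (h : NG K n r x) {y : G} (hy : y ∈ CC z e) :
    ∃ v ∈ K.U, y = v ∨ y = v * r ∨ y = v * (r * r) ∨ y = v * x ∨ y = v * (x * r) ∨ y = v * (x * (r * r)) := by
  have key : ∀ w ∈ CC z e, rho z e y = rho z e w → ∃ v ∈ K.U, y = v * w := fun w hw hyw =>
    ⟨y * w⁻¹, ⟨mul_mem hy (inv_mem hw), by rw [K.rho_mul hy (inv_mem hw), K.rho_inv hw, hyw, mul_inv_cancel]⟩,
      (inv_mul_cancel_right y w).symm⟩
  have hr := h.r_mem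
  have hx := h.x_mem
  have hrr := mul_mem hr hr
  rcases perm3_six _ _ h.rho_x.1 h.rho_x.2 h.rho_r.1 h.rho_r.2 (rho z e y) with q | q | q | q | q | q
  · exact ⟨y, ⟨hy, q⟩, Or.inl rfl⟩
  · obtain ⟨v, hv, he⟩ := key r hr q; exact ⟨v, hv, Or.inr (Or.inl he)⟩
  · obtain ⟨v, hv, he⟩ := key _ hrr (by rw [q, K.rho_mul hr hr]); exact ⟨v, hv, Or.inr (Or.inr (Or.inl he))⟩
  · obtain ⟨v, hv, he⟩ := key x hx q; exact ⟨v, hv, Or.inr (Or.inr (Or.inr (Or.inl he)))⟩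
  · obtain ⟨v, hv, he⟩ := key _ (mul_mem hx hr) (by rw [q, K.rho_mul hx hr])
    exact ⟨v, hv, Or.inr (Or.inr (Or.inr (Or.inr (Or.inl he))))⟩
  · obtain ⟨v, hv, he⟩ := key _ (mul_mem hx hrr) (by rw [q, K.rho_mul hx hrr, K.rho_mul hr hr])
    exact ⟨v, hv, Or.inr (Or.inr (Or.inr (Or.inr (Or.inr he))))⟩

end NG

end Ctx

end CfsgLib.Recognition.PSLThreeFourAut
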